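import Cfsg.Agent.Lib.HN3.Ad

/-! The `3`-local characterisation of `HN`: the frame on `J`. -/

set_option autoImplicit false
set_option linter.unusedSectionVars false
set_option synthInstance.maxSize 2048

namespace H54.T3

open Subgroup
open H20.L43 (V4 Ce mem_Ce Ex M4 mv mv_mul mv_add mv_one)
open H87.U6 (F3 be qq Ac lin Qs cm_cj add_lin fj)
open H29.F42 (A0)

variable {G : Type*} [Group G] [Finite G]

namespace A

variable {z t y a x g : G} {π : G → M5} {l : V4 → G} {X φ : V4 → V4}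

def mT : M4 := ⟨0, 2, 2, 1, 1, 0, 2, 2, 1, 2, 0, 2, 2, 2, 2, 0⟩
def mI : M4 := ⟨1, 2, 2, 0, 1, 1, 0, 1, 1, 0, 1, 1, 0, 1, 1, 2⟩
def ap (f : Fin 3 → V4 → V4) (w : List (Fin 3)) (v : V4) : V4 := w.foldr f v
def gm (i : Fin 3) : V4 → V4 := mv (![mU, mA, mE] i)
def L32 : List (List (Fin 3)) := [[], [2], [1, 2], [2, 2], [0, 1, 2], [1, 2, 2], [2, 1, 2], [0, 0, 1, 2],
  [0, 1, 2, 2], [0, 2, 1, 2], [1, 0, 1, 2], [1, 2, 1, 2], [2, 1, 2, 2], [0, 0, 1, 2, 2], [0, 0, 2, 1, 2],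
  [0, 1, 2, 1, 2], [0, 2, 1, 2, 2], [1, 0, 0, 1, 2], [1, 0, 1, 2, 2], [1, 0, 2, 1, 2], [1, 1, 2, 1, 2],
  [2, 1, 0, 1, 2], [0, 0, 1, 2, 1, 2], [0, 1, 1, 2, 1, 2], [1, 0, 0, 2, 1, 2], [1, 0, 2, 1, 2, 2],
  [1, 1, 0, 2, 1, 2], [2, 2, 1, 0, 1, 2], [0, 1, 0, 0, 2, 1, 2], [0, 1, 0, 2, 1, 2, 2],
  [0, 0, 1, 0, 0, 2, 1, 2], [0, 0, 1, 0, 2, 1, 2, 2]]
def L8 : List (List (Fin 3)) := [[2, 1, 0, 2], [2, 0, 2, 1], [2, 0, 1, 2], [1, 2, 0, 2], [2], [2, 1],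
  [1, 2], [1, 1, 2]]

theorem eqns_A : True := by
  have := @mT.eq_1
  have := @mI.eq_1
  have := @ap.eq_1
  have := @gm.eq_1
  have := @L32.eq_1
  have := @L8.eq_1
  trivial

theorem TI (v : V4) : mv mT (mv mI v) = v := by rw [← mv_mul, show mT * mI = 1 by decide, mv_one]

theorem IT (v : V4) : mv mI (mv mT v) = v := by rw [← mv_mul, show mI * mT = 1 by decide, mv_one]

theorem wd_ap (v : V4) : ∀ w, mv (wd w) v = ap gm w v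
  | [] => mv_one v
  | i :: w => by rw [wd, List.map_cons, List.prod_cons, mv_mul, ← wd, wd_ap v w]; rfl

theorem k4 : ∀ v : V4, v ≠ 0 ∧ Th v = 0 → ∃ w ∈ L32, mv mT (ap gm w (1, 1, 1, 0)) = v := by
  decide +kernel

theorem k5 : ∀ w ∈ L32, ∀ (α γ : F3) (n : Fin 4),
    ap gm w (mv mI (rq 0 1 α γ (Aj^[n] (mv mT (1, 0, 0, 0))))) = (1, 0, 0, 0) →
    ∃ p, ∀ v, ap gm w (mv mI (rq 0 1 α γ (Aj^[n] (mv mT v)))) = mv (am p) v := by decide +kernel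

theorem k6 : ∀ p : V4, be p (Am p) = 0 → ∀ q : V4, be p q = 1 →
    lin p q (-Am p) (-Am q) p = -(1, 0, 0, 0) → lin p q (-Am p) (-Am q) q = -(0, 1, 0, 0) →
    (fun v => Yp 0 1 (lin p q (-Am p) (-Am q) v))^[10] (1, 0, 0, 0) = (1, 0, 0, 0) →
    ∃ j, (∀ i, ∃ w ∈ L8, ∃ n : Fin 3,
      (Yp 0 1)^[n] (ap ![Yp 0 1, Am, lin p q (-Am p) (-Am q)] w (1, 0, 1, 0)) = (i, 0, j, 1)) ∧
    ∀ k, k ≠ j → ∀ i, ∃ w ∈ L8, ∃ n : Fin 3,
      (Yp 0 1)^[n] (ap ![Yp 0 1, Am, lin p q (-Am p) (-Am q)] w (1, 0, 0, 0)) = (i, 0, k, 1) := by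
  decide +kernel

theorem Rj.rl {j : V4 → G} (b : Rj j g φ) {m : M4} (e : ∀ v, φ (mv mT v) = mv mT (mv m v)) :
    Rl (fun v => j (mv mT v)) g m := fun v => (b _).trans (by rw [e])

theorem rj_of {j : V4 → G} {m : M4} (b : Rl (fun v => j (mv mT v)) g m) :
    Rj j g fun v => mv mT (mv m (mv mI v)) := fun v => by simpa only [TI] using b (mv mI v)

namespace B1

variable (h : B1 z l t π y a x 0 1 X)
include h

theorem ru : Rl (fun v => fj z l y (mv mT v)) (l (0, 0, 0, 1)) mU := (h.rj_l 0 1).rl (by decide +kernel)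

theorem gen : ∀ w, ∃ g, Rl (fun v => fj z l y (mv mT v)) g (wd w)
  | [] => ⟨1, rl_one⟩
  | i :: w => by
    obtain ⟨g, b⟩ := gen w
    obtain ⟨e, b'⟩ := h.fu.2
    rw [wd, List.map_cons, List.prod_cons, ← wd]
    fin_cases i
    exacts [⟨_, h.ru.mul b⟩, ⟨_, (h.ra.rl (by decide +kernel)).mul b⟩,
      ⟨_, (b'.rl (by decide +kernel)).mul b⟩]

theorem bz : fj z l y (mv mT (1, 1, 1, 0)) = z := h.jz

theorem st (c : g * fj z l y (mv mT (1, 0, 0, 0)) = fj z l y (mv mT (1, 0, 0, 0)) * g)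
    (n : ∀ u, ∃ v, g * fj z l y (mv mT u) * g⁻¹ = fj z l y (mv mT v)) :
    ∃ w, Rl (fun v => fj z l y (mv mT v)) g (am w) := by
  obtain ⟨φ, b, -⟩ := h.exists_rj (g := g) fun u => by
    obtain ⟨v, e⟩ := n (mv mI u)
    exact ⟨_, by rwa [TI] at e⟩
  obtain ⟨w, hw, e⟩ := k4 _ ((h.sg (φ (1, 0, 0, 0))).1 ((b.sg _).2 (by rw [h.jz])))
  obtain ⟨k, d⟩ := h.gen w
  have hC : k⁻¹ * g ∈ Ce z := mem_Ce.2 (cm_cj.2 (by
    have e1 := d (1, 1, 1, 0)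
    beta_reduce at e1
    rw [wd_ap, e, ← b, h.bz, h.jz] at e1
    calc _ = k⁻¹ * (g * z * g⁻¹) * k := by group
      _ = _ := by rw [← e1]; group))
  obtain ⟨χ, d1, -, bj⟩ := h.exists_rj fun u => ⟨_, rj_of d u⟩
  obtain ⟨i, n, e1⟩ := h.nrm hC ((d1.inv (Function.rightInverse_surjInv bj.2)).mul b)
  have aC := pow_mem (mem_Ce.2 h.ea.cz) n.val
  obtain ⟨v, j, e2⟩ := h.dec (mul_mem hC (inv_mem aC)) (m := i.val) (by
    rw [← h.pa, ← h.p.pow (mem_Ce.2 h.ea.cz), ← h.p.pow h.yC, ← h.p.pm _ (pow_mem h.yC _) _ aC] at e1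
    rw [h.p.pm _ hC _ (inv_mem aC), e1, ← h.p.pm _ (mul_mem (pow_mem h.yC _) aC) _ (inv_mem aC),
      mul_inv_cancel_right, h.p.pow h.yC])
  have b1 := (rj_of d).mul ((e2 ▸ h.rj_q v j i.val).mul (h.ra.pow n))
  rw [inv_mul_cancel_right, mul_inv_cancel_left] at b1
  obtain ⟨p, e3⟩ := k5 w hw v.2.1 v.2.2.2 n (by
    have := h.jinj ((b1 _).symm.trans (cm_cj.1 c))
    beta_reduce at this
    rw [← wd_ap, ← IT (mv _ _), this, IT])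
  exact ⟨p, b1.rl fun v => by rw [wd_ap, e3]⟩

theorem orb : ∃ j, (∀ i k, IsConj (l (1, 0, 1, 0)) (qq z l (i, 0, j, 1) k)) ∧
    ∀ k, k ≠ j → ∀ i m, IsConj z (qq z l (i, 0, k, 1) m) := by
  have hx := mem_Ce.2 h.ex.cz
  have ha := mem_Ce.2 h.ea.cz
  have b := h.ex_ac h.ex
  have c := h.ex_ac h.ea
  have aX := fun u v => h.ac_add_be b u v
  have r1 : ∀ v, X (Am v) = -Am (X v) := h.rel (h.ac_mul b c) (h.ac_mul (h.ex_ac h.ex_t) (h.ac_mul c b)) (by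
    rw [h.p.pm _ hx _ ha, h.p.pm _ h.tC _ (mul_mem ha hx), h.p.pm _ ha _ hx, h.px, h.pa, h.pt]; decide)
  have r2 : ∀ v, X (X v) = -v := h.rel (h.ac_mul b b) (h.ex_ac h.ex_t) (by
    rw [h.p.pm _ hx _ hx, h.px, h.pt]; decide)
  have r3 := h.rel (h.ac_pow (h.ac_mul (h.ex_ac h.ey) b) 10) h.ac_one (by
    rw [h.p.pow (mul_mem h.yC hx), h.p.pm _ h.yC _ hx, h.px, h.p.one]
    rcases h.py with e | e <;> rw [e] <;> decide) (1, 0, 0, 0)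
  have e3 : X (0, 0, 1, 0) = -Am (X (1, 0, 0, 0)) := r1 (1, 0, 0, 0)
  have e := funext (add_lin fun u v => (aX u v).1)
  rw [e3, show X (0, 0, 0, 1) = -Am (X (0, 1, 0, 0)) from r1 (0, 1, 0, 0)] at e
  have f : ∀ w v, IsConj (l v) (l (ap ![Yp 0 1, Am, X] w v)) := fun w v => by
    induction w with
    | nil => exact IsConj.refl _
    | cons i w ih =>
      fin_cases i
      exacts [ih.trans (isConj_iff.2 ⟨_, h.ey.act _⟩), ih.trans (isConj_iff.2 ⟨_, h.ea.act _⟩),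
        ih.trans (isConj_iff.2 ⟨_, h.ex.act _⟩)]
  have f' : ∀ v i j k, (∃ w ∈ L8, ∃ n : Fin 3, (Yp 0 1)^[n] (ap ![Yp 0 1, Am, X] w v) = (i, 0, j, 1)) →
      IsConj (l v) (qq z l (i, 0, j, 1) k) := fun v i j k ⟨w, _, n, e⟩ =>
    ((f w v).trans (isConj_iff.2 ⟨_, (A0.ex_pow h.ey n).act _⟩)).trans (e ▸ h.lconj (by
      rw [e]; simp [Prod.ext_iff]) k)
  obtain ⟨j, h1, h2⟩ := k6 (X (1, 0, 0, 0)) (by
    rw [← neg_neg (Am _), ← e3, be_neg, (aX _ _).2]; rfl) (X (0, 1, 0, 0)) (aX _ _).2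
    (by rw [← e, r2]) (by rw [← e, r2]) (by rw [← e]; exact r3)
  rw [← e] at h1 h2
  exact ⟨j, fun i k => f' _ _ _ _ (h1 i), fun k e i m => h.sw.trans (f' _ _ _ _ (h2 k e i))⟩

theorem fA : ∃ s f, Rl (fun v => fj z l y (mv mT v)) s (-1) ∧ Rl (fun v => fj z l y (mv mT v)) f mU ∧
    f * s = s * f ∧ IsConj (fj z l y (mv mT (1, 0, 0, 0))) f := by
  obtain ⟨s, d⟩ := h.gen [0, 0, 1, 2, 2, 1, 0, 1, 2, 1]
  rw [show wd [0, 0, 1, 2, 2, 1, 0, 1, 2, 1] = -1 by decide +kernel] at d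
  have b : Rj (fj z l y) s fun v => -v := fun v => (rj_of d v).trans (by congr 1; revert v; decide +kernel)
  have hq := mul_mem (h.nN (g := s) (by rw [← h.jz, b, h.jneg]) (h.lQ (0, 0, 0, 1))) (inv_mem (h.lQ (0, 0, 0, 1)))
  obtain ⟨w, e⟩ := h.cJ (g := s * l (0, 0, 0, 1) * s⁻¹ * (l (0, 0, 0, 1))⁻¹) fun v => cm_cj.2 (by
    rw [← h.linv, show -((0, 0, 0, 1) : V4) = (0, 0, 0, -1) from rfl,
      ((b.mul (h.rj_l 0 1)).mul (b.inv neg_neg)).mul (h.rj_l 0 (-1)) v]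
    congr 1; revert v; decide +kernel)
  obtain ⟨v, k, e1⟩ := h.memQ.1 hq
  obtain ⟨k, i, j, m⟩ := w
  obtain rfl : m = 0 := (h.jQ (e.symm.trans e1)).1
  have c : s * (fj z l y (-(k, i, j, 0)) * l (0, 0, 0, 1)) * s⁻¹ = fj z l y (-(k, i, j, 0)) * l (0, 0, 0, 1) := by
    rw [← conj_mul, b, mul_inv_eq_iff_eq_mul.1 e, ← mul_assoc, ← h.add]
    congr 2
    exact (by decide : ∀ v : V4, - -v + v = -v) _
  have f : ∀ m, ∃ n, fj z l y (0, 0, m, 0) * (fj z l y (-(k, i, j, 0)) * l (0, 0, 0, 1)) =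
      qq z l (-i, 0, m - j, 1) n := fun m => ⟨be (-i, 0, m - j, 0) (0, 0, 0, 1) + -k + 0, by
    rw [← mul_assoc, ← h.add, show (0, 0, m, 0) + -(k, i, j, (0 : F3)) = (-k, -i, m - j, 0) by simp [sub_eq_add_neg],
      h.jH, ← h.q0, h.qmul]; simp⟩
  obtain ⟨j0, o1, o2⟩ := h.orb
  obtain ⟨n1, h1⟩ := f 1
  obtain ⟨n2, h2⟩ := f (-1)
  obtain ⟨n0, h0⟩ := f 0
  have c1 : IsConj (qq z l (-i, 0, 1 - j, 1) n1) (qq z l (-i, 0, -1 - j, 1) n2) :=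
    isConj_iff.2 ⟨s, by rw [← h1, ← h2, ← conj_mul, c, b]; rfl⟩
  have n1' : ¬ IsConj z (l (1, 0, 1, 0)) := by simpa only [h.jH, h.q0] using h.n1
  obtain rfl : j0 = 0 - j := by
    by_contra e2
    rcases (by decide : ∀ j j0 : F3, j0 ≠ 0 - j → (j0 = 1 - j ∧ -1 - j ≠ j0) ∨ (j0 = -1 - j ∧ 1 - j ≠ j0))
      j j0 e2 with ⟨rfl, e3⟩ | ⟨rfl, e3⟩
    · exact n1' (((o2 _ e3 _ _).trans c1.symm).trans (o1 _ _).symm)
    · exact n1' (((o2 _ e3 _ _).trans c1).trans (o1 _ _).symm)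
  rw [show ((0, 0, 0, 0) : V4) = 0 from rfl, h.j0, one_mul] at h0
  obtain ⟨e', b'⟩ := h.fu.2
  refine ⟨s, _, d, ((h.rj_j _).mul (h.rj_l 0 1)).rl (by decide +kernel), (cm_cj.2 c).symm,
    ((b'.mul b').cj _).trans ?_⟩
  rw [h0, show Ej (Ej (mv mT (1, 0, 0, 0))) = (0, 1, 1, 0) from rfl, h.jH, h.q0]
  exact o1 _ _

theorem fr : Fr fun v => fj z l y (mv mT v) where
  add u v := by rw [mv_add, h.add]
  inj u e := by rw [← IT u, h.inj e]; rfl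
  cJ g b := by
    obtain ⟨v, e⟩ := h.cJ (g := g) fun v => cm_cj.2 (by simpa only [mv_one, TI] using b (mv mI v))
    exact ⟨mv mI v, by rw [TI, e]⟩
  gen := h.gen
  st _ := h.st
  sig U hU n := h.sig hU fun u => by simpa only [TI] using n (mv mI u)
  nc e := absurd ((h.sg _).1 (h.bz ▸ e.symm)) (by decide)
  fA := h.fA
  cz s s2 s1 hs := by rw [h.bz] at hs ⊢; exact ⟨π, h.cz s2 s1 hs⟩

end B1

end A

theorem exists_fr {G : Type*} [Group G] [Finite G] {z : G} {Q : Subgroup G} {β : G → G → ZMod 3} {π : G → M5}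
    (h : Ex z Q β) (p : S5 (Ce z) Q π) (cQ : ∀ g, (∀ q ∈ Q, g * q = q * g) → g ∈ Q)
    (nC : ∀ g ∈ Ce z, ∀ q ∈ Q, g * q * g⁻¹ ∈ Q) {w : G} (hw : w ∈ Q) (w1 : w ∉ zpowers z) (hc : IsConj z w) :
    ∃ b : V4 → G, Fr b := by
  obtain ⟨t, l, k, rfl⟩ := A.exists_hy h p cQ nC hw w1
  obtain ⟨l, y, a, x, c, r, X, b⟩ := k.exists_b1 hw w1 hc
  obtain ⟨y, b⟩ := b.std
  exact ⟨_, b.fr⟩

end H54.T3
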