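import Cfsg.Agent.Lib.HN3.Defs
import Cfsg.Agent.Lib.F42.Q
import Cfsg.Agent.Lib.P3L.A7

/-! The `3`-local characterisation of `HN`: coordinates on `Q`. -/

set_option autoImplicit false
set_option linter.unusedSectionVars false

namespace H54.T3.A

open Subgroup
open H20.L43 (V4 Ce mem_Ce Ex Sb co fm pw)
open H87.U6 (F3 be qq Ac lin Qs cm_cj)
open H29.F42 (A0)

variable {G : Type*} [Group G] [Finite G] {z t : G} {Q : Subgroup G} {β : G → G → ZMod 3}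
  {π : G → M5} {l : V4 → G}

theorem cmod {U : Subgroup G} {g : G} (g5 : g ^ 5 = 1) (hU : ∀ u ∈ U, g * u * g⁻¹ ∈ U) :
    Nat.card U ≡ Nat.card (U ⊓ Ce g : Subgroup G) [MOD 5] := by
  classical
  haveI : Fact (Nat.Prime 5) := ⟨by norm_num⟩
  haveI := Fintype.ofFinite U
  let f : Function.End U := fun u => ⟨_, hU u u.2⟩
  have hf : ∀ n : ℕ, ∀ u : U, ((f ^ n) u : G) = g ^ n * u * (g ^ n)⁻¹ := fun n => by
    induction n with
    | zero => intro u; rw [pow_zero, pow_zero, one_mul, inv_one, mul_one]; rfl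
    | succ n ih =>
      intro u
      rw [pow_succ, pow_succ]
      exact (ih (f u)).trans (by simp [f, mul_assoc])
  have := Equiv.Perm.card_fixedPoints_modEq (f := f) (p := 5) (n := 1)
    (funext fun u => Subtype.ext (by rw [pow_one, hf, g5, one_mul, inv_one, mul_one]; rfl))
  rw [← Nat.card_eq_fintype_card, ← Nat.card_eq_fintype_card] at this
  refine this.trans (by
    rw [Nat.card_congr (β := (U ⊓ Ce g : Subgroup G))
      ⟨fun u => ⟨u.1, u.1.2, mem_Ce.2 (cm_cj.2 (congrArg Subtype.val u.2)).symm⟩,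
        fun u => ⟨⟨u, u.2.1⟩, Subtype.ext (cm_cj.1 (mem_Ce.1 u.2.2).symm)⟩, fun _ => rfl, fun _ => rfl⟩])

theorem sub (h : Ex z Q β) {U : Subgroup G} (hU : U ≤ Q) (hz : z ∈ U) (e : Nat.card U % 5 = 3) :
    U = Q ∨ U ≤ zpowers z := by
  obtain ⟨i, hi, c⟩ := (Nat.dvd_prime_pow Nat.prime_three (m := 5)).1
    ((card_dvd_of_le hU).trans h.card.dvd)
  rw [c] at e
  obtain rfl | rfl : i = 1 ∨ i = 5 := by interval_cases i <;> simp_all
  · exact .inr (eq_of_le_of_card_ge (zpowers_le.2 hz) (by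
      rw [c, Nat.card_zpowers, orderOf_eq_prime h.z3 h.z1]; rfl)).ge
  · exact .inl (eq_of_le_of_card_ge hU (by rw [c, h.card]; rfl))

theorem five (h : Ex z Q β) (cQ : ∀ g, (∀ q ∈ Q, g * q = q * g) → g ∈ Q)
    (nC : ∀ g ∈ Ce z, ∀ q ∈ Q, g * q * g⁻¹ ∈ Q) {g : G} (hg : g ∈ Ce z) (g5 : g ^ 5 = 1) (g1 : g ≠ 1) :
    Q ⊓ Ce g ≤ zpowers z := by
  have := cmod g5 (nC g hg)
  rw [h.card] at this
  refine (sub h inf_le_left ⟨h.zQ, mem_Ce.2 (mem_Ce.1 hg).symm⟩ this.symm).resolve_left fun e => g1 ?_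
  have := h.q3 g (cQ g fun q hq => (mem_Ce.1 (e.ge hq).2).symm)
  exact (pow_eq_one_iff_of_coprime (by norm_num : Nat.Coprime 5 3)).1 ⟨g5, this⟩

theorem exists_t (h : Ex z Q β) (p : S5 (Ce z) Q π) (cQ : ∀ g, (∀ q ∈ Q, g * q = q * g) → g ∈ Q)
    (nC : ∀ g ∈ Ce z, ∀ q ∈ Q, g * q * g⁻¹ ∈ Q) :
    ∃ t ∈ Ce z, π t = mo5 ∧ t * t = 1 ∧ ∀ q ∈ Q, t * q * t⁻¹ * q ∈ zpowers z := by
  obtain ⟨k, hk, e⟩ := p.ps ⟨-1, -1, 0, -1⟩ (by decide)
  have k30 : k ^ 30 = 1 := by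
    rw [show 30 = 10 * 3 from rfl, pow_mul]
    exact h.q3 _ ((p.pk _ (pow_mem hk _)).1 (by rw [p.pow hk, e]; decide))
  have pt : π (k ^ 15) = mo5 := by rw [p.pow hk, e]; decide
  have t2 : k ^ 15 * k ^ 15 = 1 := by rw [← pow_add, k30]
  have ht := pow_mem hk 15
  have c : Commute (k ^ 6) (k ^ 15) := Commute.pow_pow_self k 6 15
  have g5 : (k ^ 6) ^ 5 = 1 := by rw [← pow_mul, k30]
  have f := five h cQ nC (pow_mem hk 6) g5 fun e1 => absurd (p.pow hk 6) (by rw [e1, p.one, e]; decide)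
  have zt : z ∈ Ce (k ^ 15) := mem_Ce.2 (mem_Ce.1 ht).symm
  have m := cmod (U := Q ⊓ Ce (k ^ 15)) g5 fun u hu =>
    mem_inf.2 ⟨nC _ (pow_mem hk 6) u hu.1,
      mul_mem (mul_mem (mem_Ce.2 c) hu.2) (inv_mem (mem_Ce.2 c))⟩
  rw [show Q ⊓ Ce (k ^ 15) ⊓ Ce (k ^ 6) = zpowers z from le_antisymm
    ((inf_le_inf_right _ inf_le_left).trans f) (zpowers_le.2 ⟨⟨h.zQ, zt⟩,
      mem_Ce.2 (mem_Ce.1 (pow_mem hk 6)).symm⟩), Nat.card_zpowers, orderOf_eq_prime h.z3 h.z1] at m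
  have f2 := (sub h inf_le_left ⟨h.zQ, zt⟩ m).resolve_left fun e1 => absurd
    ((p.pk _ ht).2 (cQ _ fun q hq => (mem_Ce.1 (e1.ge hq).2).symm)) (by rw [pt]; decide)
  refine ⟨_, ht, pt, t2, fun q hq => ?_⟩
  generalize k ^ 15 = t at *
  have ti : t⁻¹ = t := inv_eq_of_mul_eq_one_right t2
  have h1 := nC t ht q hq
  have e1 : ∀ x, t * (t * x * t⁻¹) * t⁻¹ = x := fun x => by
    rw [show t * (t * x * t⁻¹) * t⁻¹ = t * t * x * (t * t)⁻¹ by group, t2]; simp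
  have e2 : t * (t * q * t⁻¹ * q) * t⁻¹ = pw z (β q (t * q * t⁻¹)) * (t * q * t⁻¹ * q) := by
    rw [← h.com q hq _ h1, ← conj_mul, e1]
  have e3 := e1 (t * q * t⁻¹ * q)
  rw [e2, ← conj_mul, e2, H20.L43.pw_conj, H20.L43.cz ht, ← mul_assoc, mul_eq_right,
    ← H20.L43.pw_add h.z3] at e3
  rw [show β q (t * q * t⁻¹) = 0 by have := H20.L43.pw_eq_one h.z3 h.z1 e3; grind,
    H20.L43.pw_zero, one_mul] at e2
  exact f2 ⟨mul_mem h1 hq, mem_Ce.2 (cm_cj.2 e2).symm⟩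

/-- coordinates on `Q` -/
structure Hy (z : G) (l : V4 → G) (t : G) (π : G → M5) : Prop extends A0 z l t where
  p : S5 (Ce z) (Qs z l) π
  pt : π t = mo5
  five : ∀ g ∈ Ce z, g ^ 5 = 1 → g ≠ 1 → Qs z l ⊓ Ce g ≤ zpowers z

theorem exists_hy (h : Ex z Q β) (p : S5 (Ce z) Q π) (cQ : ∀ g, (∀ q ∈ Q, g * q = q * g) → g ∈ Q)
    (nC : ∀ g ∈ Ce z, ∀ q ∈ Q, g * q * g⁻¹ ∈ Q) {w : G} (hw : w ∈ Q) (w1 : w ∉ zpowers z) :
    ∃ t l, Hy z l t π ∧ Qs z l = Q := by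
  obtain ⟨t, ht, pt, t2, hi⟩ := exists_t h p cQ nC
  obtain ⟨a, c, d, s⟩ := h.exists_sb hw w1
  have : ∀ v : V4, ∃ q ∈ Q, co β a w c d q = (v.2.1, v.2.2.2, v.1, v.2.2.1) ∧ t * q * t⁻¹ = q⁻¹ :=
    fun v => by
    have hq := s.ve_mem (v.2.1, v.2.2.2, v.1, v.2.2.1)
    obtain ⟨k, e⟩ := (H20.L43.mem_zp h.z3).1 (hi _ hq)
    refine ⟨_, mul_mem hq (H20.L43.pw_mem h.zQ k), by
      rw [s.co_mul hq (H20.L43.pw_mem h.zQ k), s.co_ve,
        s.co_z (H20.L43.pw_mem (mem_zpowers z) k), add_zero], eq_inv_of_mul_eq_one_left ?_⟩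
    rw [← conj_mul, H20.L43.pw_conj, H20.L43.cz ht, mul_assoc, ← mul_assoc (pw z k), h.pc hq,
      ← mul_assoc, ← mul_assoc, ← e, ← H20.L43.pw_add h.z3, ← H20.L43.pw_add h.z3,
      show k + k + k = 0 by grind, H20.L43.pw_zero]
  choose l lQ cl tl using this
  have sj : ∀ q ∈ Q, ∃ v, ∃ k : F3, q = l v * z ^ k.val := fun q hq => by
    obtain ⟨k, e⟩ := s.eq_of_co hq (lQ ((co β a w c d q).2.2.1, (co β a w c d q).1,
      (co β a w c d q).2.2.2, (co β a w c d q).2.1)) (by rw [cl])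
    exact ⟨_, k, e⟩
  have neg : ∀ v, (l v)⁻¹ = l (-v) := fun v => by
    obtain ⟨k, e⟩ := s.eq_of_co (inv_mem (lQ v)) (lQ (-v)) (by rw [s.co_inv (lQ v), cl, cl]; rfl)
    exact h.tuniq ht (lQ _) e (by rw [← conj_inv, tl v]) (tl _)
  have A : A0 z l t := by
    refine ⟨h.z3, h.z1, fun v => h.zc _ (lQ v), fun u v => ?_, fun v e => ?_,
      fun g hg v => sj _ (nC g (mem_Ce.2 hg) _ (lQ v)), fun g hg e => ?_, t2, mem_Ce.1 ht,
      fun v => (tl v).trans (neg v)⟩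
    · obtain ⟨k, e⟩ := s.eq_of_co (mul_mem (lQ u) (lQ v)) (lQ (u + v)) (by
        rw [s.co_mul (lQ u) (lQ v), cl, cl, cl]; rfl)
      have e1 := congrArg (fun x => t * x * t⁻¹) e
      simp only [← conj_mul, tl, H20.L43.pw_conj, H20.L43.cz ht] at e1
      rw [h.com _ (inv_mem (lQ u)) _ (inv_mem (lQ v)), ← mul_inv_rev, e, mul_inv_rev,
        ← H20.L43.pw_neg h.z3, ← mul_assoc, ← H20.L43.pw_add h.z3, h.pc (inv_mem (lQ _)),
        mul_right_inj, h.inv_l (lQ u) (inv_mem (lQ v)), h.inv_r (lQ v) (lQ u), neg_neg,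
        s.form (lQ u) (lQ v), cl, cl] at e1
      have e2 := H20.L43.pw_inj h.z3 h.z1 e1
      rw [e, show k = be u v by simp only [fm, be] at e2 ⊢; grind]
      rfl
    · have := s.co_z e
      rw [cl] at this
      simp only [Prod.ext_iff] at this ⊢
      exact ⟨this.2.2.1, this.1, this.2.2.2, this.2.1⟩
    · have c1 : ∀ q ∈ Q, g * q = q * g := fun q hq => by
        obtain ⟨v, k, rfl⟩ := sj q hq
        rw [← mul_assoc, e, mul_assoc, A0.cz hg, mul_assoc]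
      exact h.nd g (cQ g c1) fun q hq => (h.comm_iff (cQ g c1) hq).1 (c1 q hq)
  have e : Qs z l = Q := Subgroup.ext fun q => A.memQ.trans
    ⟨fun ⟨v, k, e⟩ => e ▸ mul_mem (lQ v) (pow_mem h.zQ _), sj q⟩
  exact ⟨t, l, ⟨A, e ▸ p, pt, fun g hg g5 g1 => e ▸ five h cQ nC hg g5 g1⟩, e⟩

namespace Hy

variable (h : Hy z l t π)
include h

theorem tC : t ∈ Ce z := mem_Ce.2 h.tz

theorem ac_pi {g k : G} {φ : V4 → V4} (a : Ac z l k φ) (hg : g ∈ Ce z) (e : π g = π k) : Ac z l g φ := by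
  have := h.ac_mul (h.ac_Q (h.p.eq hg (mem_Ce.2 a.1) e)) a
  rwa [inv_mul_cancel_right] at this

/-- lifts to the centraliser of `t` -/
theorem lift (m : M5) (hm : m.det = 1) : ∃ g φ, H87.U6.Ex z l t g φ ∧ π g = m := by
  obtain ⟨g, hg, e⟩ := h.p.ps m hm
  obtain ⟨φ, a⟩ := h.exists_ac (mem_Ce.1 hg)
  obtain ⟨n, hn, x⟩ := h.exists_ex a
  exact ⟨_, φ, x, by rw [h.p.pm _ (h.p.le hn) _ hg, (h.p.pk _ (h.p.le hn)).2 hn, one_mul, e]⟩

theorem Qt {g : G} (hg : g ∈ Qs z l) (c : g * t = t * g) : ∃ k : F3, g = z ^ k.val := by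
  obtain ⟨v, k, rfl⟩ := h.memQ.1 hg
  have := (h.q_inj ((h.tq v k).symm.trans (cm_cj.1 c.symm))).1
  rw [(by decide : ∀ v : V4, -v = v → v = 0) v this, h.qz]
  exact ⟨k, rfl⟩

/-- the stabiliser of a vector is a 3-group -/
theorem stab {g : G} {φ : V4 → V4} (a : Ac z l g φ) {v : V4} (e : φ v = v) (v0 : v ≠ 0) :
    π g ^ 3 = 1 := by
  have hg := mem_Ce.2 a.1
  have fx : ∀ n, φ^[n] v = v := fun n => Function.iterate_fixed e n
  rcases (by decide +kernel : ∀ m : M5, m.det = 1 → m ^ 3 = 1 ∨ (∃ k : Fin 6, m ^ k.1 = mo5) ∨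
    (m ^ 5 = 1 ∧ m ^ 3 ≠ 1)) _ (h.p.pd g hg) with e1 | ⟨k, e1⟩ | ⟨e1, e2⟩
  · exact e1
  · have := h.ac_uniq (h.ac_pow a k) (h.ac_pi (h.ex_ac h.ex_t) (pow_mem hg _)
      (by rw [h.p.pow hg, e1, h.pt])) v
    rw [fx] at this
    exact absurd ((by decide : ∀ v : V4, v = -v → v = 0) v this) v0
  · have g5 : (g ^ 3) ^ 5 = 1 := by
      rw [← pow_mul, mul_comm, pow_mul]
      exact h.Q3 ((h.p.pk _ (pow_mem hg 5)).1 (by rw [h.p.pow hg, e1]))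
    obtain ⟨k, hk⟩ := A0.acq (h.ac_pow a 3) h.toA0 v
    rw [fx] at hk
    have e3 : ∀ n : ℕ, (g ^ 3) ^ n * qq z l v 0 * ((g ^ 3) ^ n)⁻¹ = qq z l v (n * k) := fun n => by
      induction n with
      | zero => simp
      | succ n ih =>
        rw [pow_succ', mul_inv_rev, show g ^ 3 * (g ^ 3) ^ n * qq z l v 0 * (((g ^ 3) ^ n)⁻¹ * (g ^ 3)⁻¹) =
          g ^ 3 * ((g ^ 3) ^ n * qq z l v 0 * ((g ^ 3) ^ n)⁻¹) * (g ^ 3)⁻¹ by group, ih, hk]
        congr 1; push_cast; ring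
    have e4 := e3 5
    rw [g5, one_mul, inv_one, mul_one] at e4
    obtain rfl : k = 0 := (by decide : ∀ k : F3, 0 = ((5 : ℕ) : F3) * k → k = 0) k (h.q_inj e4).2
    refine absurd (h.q_zp (a := 0) (h.five _ (pow_mem hg 3) g5 (fun e5 => e2 ?_)
      ⟨h.qQ _ _, mem_Ce.2 (cm_cj.2 (by simpa using hk 0)).symm⟩)) v0
    rw [← h.p.pow hg, e5, h.p.one]

theorem cz {s : G} (s2 : s * s = 1) (s1 : s ≠ 1) (hs : s ∈ Ce z) : S5 (Ce z ⊓ Ce s) (zpowers z) π := by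
  have ps : π s = mo5 := (by decide +kernel : ∀ m : M5, m.det = 1 → m * m = 1 → m ≠ 1 → m = mo5) _
    (h.p.pd s hs) (by rw [← h.p.pm s hs s hs, s2, h.p.one]) fun e => s1 (by
      have := h.Q3 ((h.p.pk s hs).1 e)
      rwa [pow_succ, sq, s2, one_mul] at this)
  obtain ⟨v, k, e⟩ := h.memQ.1 (h.p.eq hs h.tC (ps.trans h.pt.symm))
  rw [mul_inv_eq_iff_eq_mul] at e
  have e1 := s2
  rw [e, show qq z l v k * t * (qq z l v k * t) = qq z l v k * (t * qq z l v k * t⁻¹) * (t * t) by group,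
    h.t2, mul_one, h.tq, h.qmul] at e1
  obtain rfl : k = 0 := (by decide : ∀ (v : V4) (k : F3), be v (-v) + k + k = 0 → k = 0) v k
    (h.q_one e1).2
  have hc := h.qQ (-v) 0
  have cC := h.p.le hc
  have pc := (h.p.pk _ cC).2 hc
  have es : s = qq z l (-v) 0 * t * (qq z l (-v) 0)⁻¹ := by
    rw [e, show qq z l (-v) 0 * t * (qq z l (-v) 0)⁻¹ = qq z l (-v) 0 * (t * (qq z l (-v) 0)⁻¹ * t⁻¹) * t by
      group, h.qinv, h.tq, h.qmul]
    rw [(by decide : ∀ v : V4, -v + - - -v = v) v, (by decide : ∀ v : V4, be (-v) (- - -v) + 0 + -0 = 0) v]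
  generalize qq z l (-v) 0 = c at *
  have zz : zpowers z ≤ Ce z ⊓ Ce s := zpowers_le.2 ⟨mem_Ce.2 rfl, mem_Ce.2 (mem_Ce.1 hs).symm⟩
  refine ⟨zz, fun g hg k hk => h.p.pm g hg.1 k hk.1, fun g hg => h.p.pd g hg.1,
    fun g hg => (h.p.pk g hg.1).trans ⟨fun hq => ?_, fun hz => A0.ZQ hz⟩, fun m hm => ?_⟩
  · obtain ⟨k, hk⟩ := h.Qt (mul_mem (mul_mem (inv_mem hc) hq) hc) (by
      have := mem_Ce.1 hg.2
      rw [es] at this
      calc _ = c⁻¹ * (g * (c * t * c⁻¹)) * c := by group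
        _ = _ := by rw [this]; group)
    rw [show g = c * z ^ k.val * c⁻¹ by rw [← hk]; group, A0.cjz (mem_Ce.1 cC)]
    exact pow_mem (mem_zpowers z) _
  · obtain ⟨g, φ, x, rfl⟩ := h.lift m hm
    have hg := mem_Ce.2 x.cz
    refine ⟨c * g * c⁻¹, mem_inf.2 ⟨mul_mem (mul_mem cC hg) (inv_mem cC), mem_Ce.2 ?_⟩, ?_⟩
    · rw [es]; exact H87.U6.cm_conj x.ct c
    · rw [h.p.cj cC hg, pc]; simp [M5.iv, M5.one_def, M5.mul_def]

/-- the normaliser of `Z` normalises `Q` -/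
theorem nN {g : G} (hg : g * z * g⁻¹ = z⁻¹) {q : G} (hq : q ∈ Qs z l) : g * q * g⁻¹ ∈ Qs z l := by
  have n1 : ∀ k ∈ Ce z, g * k * g⁻¹ ∈ Ce z := fun k hk => by
    have := H87.U6.cm_conj (mem_Ce.1 hk) g
    rw [hg] at this
    exact mem_Ce.2 (H87.U6.cm_inv this.symm |> fun e => by simpa using e.symm)
  have n2 : ∀ k ∈ Ce z, g⁻¹ * k * g ∈ Ce z := fun k hk => by
    have := H87.U6.cm_conj (H87.U6.cm_inv (mem_Ce.1 hk).symm).symm g⁻¹
    rw [← hg] at this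
    exact mem_Ce.2 (by simpa [mul_assoc] using this)
  have hc := n1 q (h.p.le hq)
  rw [← h.p.pk _ hc]
  refine (by decide +kernel : ∀ a : M5, a.det = 1 → a ^ 3 = 1 →
      (∀ c : M5, c.det = 1 → (c * a * c.iv * a.iv) ^ 3 = 1) → a = 1) _ (h.p.pd _ hc)
    (by rw [← h.p.pow hc, conj_pow, h.Q3 hq]; simpa using h.p.one) fun c c1 => ?_
  obtain ⟨k, hk, rfl⟩ := h.p.ps c c1
  have hk' := mul_mem (mul_mem hk hc) (inv_mem hk)
  rw [← h.p.cj hk hc, ← h.p.inv hc, ← h.p.pm _ hk' _ (inv_mem hc), ← h.p.pow (mul_mem hk' (inv_mem hc))]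
  have := h.Q3 (mul_mem (h.nQ' (mem_Ce.1 (n2 k hk)) hq) (inv_mem hq))
  rw [show k * (g * q * g⁻¹) * k⁻¹ * (g * q * g⁻¹)⁻¹ =
    g * (g⁻¹ * k * g * q * (g⁻¹ * k * g)⁻¹ * q⁻¹) * g⁻¹ by group, conj_pow, this]
  simpa using h.p.one

/-- change of basis -/
theorem base {M : V4 → V4} (ad : ∀ u v, M (u + v) = M u + M v) (hb : ∀ u v, be (M u) (M v) = be u v) :
    Hy z (fun v => l (M v)) t π ∧ Function.Bijective M := by
  have m0 : M 0 = 0 := by simpa using ad 0 0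
  have mn : ∀ v, M (-v) = -M v := fun v => eq_neg_of_add_eq_zero_left (by rw [← ad, neg_add_cancel, m0])
  have k0 : ∀ v, M v = 0 → v = 0 := fun v e =>
    (by decide +kernel : ∀ v : V4, (∀ u, be u v = 0) → v = 0) v fun u => by rw [← hb, e]; simp [be]
  have bj : Function.Bijective M := Finite.injective_iff_bijective.1 fun u v e =>
    sub_eq_zero.1 (k0 _ (by rw [sub_eq_add_neg, ad, mn, e, add_neg_cancel]))
  have e : Qs z (fun v => l (M v)) = Qs z l := by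
    rw [Qs, Qs, show (fun v => l (M v)) = l ∘ M from rfl, bj.2.range_comp]
  refine ⟨⟨⟨h.z3, h.z1, fun v => h.lz _, fun u v => by rw [h.lmul, ad, hb], fun v e => k0 v (h.linj _ e),
    fun g hg v => ?_, fun g hg c => h.cQ g hg fun v => ?_, h.t2, h.tz, fun v => by rw [h.tl, mn]⟩,
    e ▸ h.p, h.pt, e ▸ h.five⟩, bj⟩
  · obtain ⟨w, k, e⟩ := h.nQ g hg (M v)
    obtain ⟨w, rfl⟩ := bj.2 w
    exact ⟨w, k, e⟩
  · obtain ⟨v, rfl⟩ := bj.2 v
    exact c v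

end Hy

end H54.T3.A
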