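import Cfsg.Agent.Lib.HN3.Aa

/-! The `3`-local characterisation of `HN`: normal forms on `Q / Z`. -/

set_option autoImplicit false
set_option linter.unusedSectionVars false
set_option synthInstance.maxSize 2048

namespace H54.T3.A

open Subgroup
open H20.L43 (V4 Ce mem_Ce)
open H87.U6 (F3 be qq Ac lin Qs cm_cj add_lin)
open H29.F42 (A0)

def y0 : M5 := ⟨0, 4, 1, 4⟩
def a0 : M5 := ⟨0, 2, 2, 0⟩
def x0 : M5 := ⟨0, 1, 4, 0⟩
def Am (v : V4) : V4 := (-v.2.2.1, -v.2.2.2, v.1, v.2.1)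
def Yp (p r : F3) (v : V4) : V4 :=
  (v.1 + p * v.2.1 + r * v.2.2.2, v.2.1, v.2.2.1 + r * v.2.1 - p * v.2.2.2, v.2.2.2)

theorem eqns_Ab : True := by
  have := @y0.eq_1
  have := @a0.eq_1
  have := @x0.eq_1
  have := @Am.eq_1
  have := @Yp.eq_1
  trivial

theorem be_add (u v w : V4) : be (u + v) w = be u w + be v w := by simp only [be, Prod.fst_add, Prod.snd_add]; ring
theorem be_sub (u v w : V4) : be (u - v) w = be u w - be v w := by simp only [be, Prod.fst_sub, Prod.snd_sub]; ring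
theorem be_smul (k : F3) (v w : V4) : be (k • v) w = k * be v w := by simp [be]; ring
theorem be_anti (v w : V4) : be v w = -be w v := by simp only [be]; ring
theorem be_self (v : V4) : be v v = 0 := by simp only [be]; ring
theorem be_neg (v w : V4) : be v (-w) = -be v w := by simp only [be, Prod.fst_neg, Prod.snd_neg]; ring
theorem be_add' (u v w : V4) : be w (u + v) = be w u + be w v := by simp only [be, Prod.fst_add, Prod.snd_add]; ring
theorem be_smul' (k : F3) (v w : V4) : be w (k • v) = k * be w v := by simp [be]; ring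

theorem lin_add (a b c d u v : V4) : lin a b c d (u + v) = lin a b c d u + lin a b c d v := by
  simp only [lin, Prod.ext_iff, Prod.fst_add, Prod.snd_add]; refine ⟨?_, ?_, ?_, ?_⟩ <;> ring

theorem map_lin {φ : V4 → V4} (h : ∀ u v, φ (u + v) = φ u + φ v) (a b c d v : V4) :
    φ (lin a b c d v) = lin (φ a) (φ b) (φ c) (φ d) v := by
  have := add_lin (φ := fun v => φ (lin a b c d v)) (fun u v => by rw [lin_add, h]) v
  simpa [lin] using this

theorem dep {Y X : V4 → V4} (hY : ∀ u v, Y (u + v) = Y u + Y v) (hX : ∀ u v, X (u + v) = X u + X v)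
    (iX : ∀ u, X u = 0 → u = 0) (K : ∀ u, Y u = u → Y (X u) = X u → X u = 0) {a b c : V4}
    (ha : Y a = a) (hb : Y b = b) (hc : Y c = c) :
    ∃ i j k : F3, (i, j, k) ≠ 0 ∧ i • a + j • b + k • c = 0 := by
  let y := AddMonoidHom.mk' Y hY
  let x := AddMonoidHom.mk' X hX
  let s : F3 × F3 × F3 → V4 := fun i => i.1 • a + i.2.1 • b + i.2.2 • c
  have fx : ∀ i, y (s i) = s i := fun i => by
    simp only [s, map_add, ZMod.map_smul]
    rw [show y a = a from ha, show y b = b from hb, show y c = c from hc]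
  have sb : ∀ i j, s (i - j) = s i - s j := fun i j => by
    simp only [s, Prod.fst_sub, Prod.snd_sub, sub_smul]; abel
  obtain ⟨⟨i, j⟩, ⟨i', j'⟩, ne, e⟩ := Fintype.exists_ne_map_eq_of_card_lt
    (fun i : (F3 × F3 × F3) × F3 × F3 × F3 => s i.1 - x (s i.2)) (by simp)
  have e1 : x (s (j - j')) = s (i - i') := by
    rw [sb, sb, map_sub]; simp only at e; linear_combination -e
  have e2 : x (s (j - j')) = 0 := K _ (fx _) (by change y (x _) = x _; rw [e1, fx])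
  by_cases hj : j - j' = 0
  · exact ⟨_, _, _, fun hi => ne (Prod.ext (sub_eq_zero.1 hi) (sub_eq_zero.1 hj)), e1.symm.trans e2⟩
  · exact ⟨_, _, _, hj, iX _ e2⟩

theorem iso {Y : V4 → V4} (hY : ∀ u v, Y (u + v) = Y u + Y v) (hb : ∀ u v, be (Y u) (Y v) = be u v)
    (Y3 : ∀ u, Y (Y (Y u)) = u) {a b : V4} (ha : Y a = a) (hb' : Y b = b)
    (D : ∀ c, Y c = c → ∃ i j k : F3, (i, j, k) ≠ 0 ∧ i • a + j • b + k • c = 0) : be a b = 0 := by
  by_contra e
  let y := AddMonoidHom.mk' Y hY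
  have cl : ∀ u, be u a = 0 ∧ be u b = 0 → be (y u - u) a = 0 ∧ be (y u - u) b = 0 := fun u hu => by
    have h1 := hb u a
    have h2 := hb u b
    rw [ha] at h1
    rw [hb'] at h2
    exact ⟨by rw [be_sub, hu.1, sub_zero]; exact h1.trans hu.1, by rw [be_sub, hu.2, sub_zero]; exact h2.trans hu.2⟩
  have k : ∀ u, be u a = 0 ∧ be u b = 0 → y u - u = 0 → u = 0 := fun u hu e1 => by
    obtain ⟨i, j, k, ne, e2⟩ := D u (sub_eq_zero.1 e1)
    have h1 := congrArg (be · a) e2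
    have h2 := congrArg (be · b) e2
    simp only [be_add, be_smul, be_self, hu.1, hu.2, be_anti b a] at h1 h2
    obtain rfl : i = 0 := by simpa [be, sub_eq_zero] using (mul_eq_zero.1 (by simpa [be] using h2 : i * be a b = 0)).resolve_right e
    obtain rfl : j = 0 := (mul_eq_zero.1 (by simpa [be] using h1 : j * -be a b = 0)).resolve_right
      (neg_ne_zero.2 e)
    exact (by decide +kernel : ∀ (k : F3) (u : V4), ((0 : F3), (0 : F3), k) ≠ 0 → k • u = 0 → u = 0) k u ne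
      (by simpa using e2)
  obtain ⟨u, u0, hu⟩ := (by decide +kernel : ∀ a b : V4, ∃ u, u ≠ 0 ∧ be u a = 0 ∧ be u b = 0) a b
  refine u0 (k _ hu (k _ (cl _ hu) (k _ (cl _ (cl _ hu)) ?_)))
  simp only [map_sub]
  rw [show y (y (y u)) = u from Y3 u]
  generalize y (y u) = p, y u = q
  ext <;> simp <;> grind

variable {G : Type*} [Group G] [Finite G] {z t y a x : G} {π : G → M5} {l : V4 → G}

/-- normal forms -/
structure B1 (z : G) (l : V4 → G) (t : G) (π : G → M5) (y a x : G) (c r : F3) (X : V4 → V4) : Prop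
    extends Hy z l t π where
  y3 : y ^ 3 = 1
  ay : a * y * a⁻¹ = y⁻¹
  ey : H87.U6.Ex z l t y (Yp c r)
  ea : H87.U6.Ex z l t a Am
  ex : H87.U6.Ex z l t x X
  py : π y = y0 ∨ π y = y0 * y0
  pa : π a = a0
  px : π x = x0
  pr : ¬ (c = 0 ∧ r = 0)
  sw : IsConj z (l (1, 0, 0, 0))

namespace Hy

variable (h : Hy z l t π)
include h

theorem rel {g k : G} {φ ψ : V4 → V4} (a : Ac z l g φ) (b : Ac z l k ψ) (e : π g = π k) (v : V4) :
    φ v = ψ v := h.ac_uniq a (h.ac_pi b (mem_Ce.2 a.1) e) v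

theorem lconj {v : V4} (v0 : v ≠ 0) (k : F3) : IsConj (l v) (qq z l v k) := by
  obtain ⟨u, e⟩ := (by decide +kernel : ∀ v : V4, v ≠ 0 → ∀ k : F3, ∃ u, 0 - be u v = k) v v0 k
  exact isConj_iff.2 ⟨qq z l u 0, by rw [← h.q0 v, h.qcj, e]⟩

theorem fix {v : V4} (v0 : v ≠ 0) {Y : V4 → V4} (e : H87.U6.Ex z l t y Y) (py : π y = y0) :
    ∃ w, w ≠ 0 ∧ IsConj (l v) (l w) ∧ Y w = w := by
  choose g φ x p using fun m : {m : M5 // m.det = 1} => h.lift m.1 m.2
  obtain ⟨m, m', ne, e1⟩ := Fintype.exists_ne_map_eq_of_card_lt (fun m => φ m v) (by decide +kernel)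
  have c := mul_mem (inv_mem (mem_Ce.2 (x m').cz)) (mem_Ce.2 (x m).cz)
  obtain ⟨ψ, b⟩ := h.exists_ac (mem_Ce.1 c)
  have e2 : ψ v = v := h.ac_inj (h.ex_ac (x m')) ((h.rel (h.ac_mul (h.ex_ac (x m')) b) (h.ex_ac (x m))
    (by rw [mul_inv_cancel_left]) v).trans e1)
  obtain ⟨n, hn, e3⟩ := (by decide +kernel : ∀ m : M5, m.det = 1 → m ^ 3 = 1 → m ≠ 1 →
    ∃ n : M5, n.det = 1 ∧ n * m = y0 * n) _ (h.p.pd _ c) (h.stab b e2 v0) fun e3 => ne (Subtype.ext (by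
      have := h.p.pm _ (mem_Ce.2 (x m').cz) _ c
      rwa [mul_inv_cancel_left, e3, mul_one, p, p] at this))
  obtain ⟨k, χ, d, rfl⟩ := h.lift n hn
  refine ⟨χ v, fun e4 => v0 (h.ac_inj (h.ex_ac d) (e4.trans ?_)), isConj_iff.2 ⟨k, d.act v⟩, ?_⟩
  · exact (by simpa using (h.ac_add_be (h.ex_ac d) 0 0).1 : χ 0 = 0).symm
  · have := h.rel (h.ac_mul (h.ex_ac d) b) (h.ac_mul (h.ex_ac e) (h.ex_ac d)) (by
      rw [h.p.pm _ (mem_Ce.2 d.cz) _ c, h.p.pm _ (mem_Ce.2 e.cz) _ (mem_Ce.2 d.cz), e3, py]) v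
    simpa [e2] using this.symm

theorem exists_ya : ∃ y a Y A, H87.U6.Ex z l t y Y ∧ H87.U6.Ex z l t a A ∧ π y = y0 ∧ π a = a0 ∧
    y ^ 3 = 1 ∧ a * y * a⁻¹ = y⁻¹ := by
  obtain ⟨y, Y, ey, py⟩ := h.lift y0 (by decide)
  obtain ⟨a, A, ea, pa⟩ := h.lift a0 (by decide)
  have hy := mem_Ce.2 ey.cz
  have ha := mem_Ce.2 ea.cz
  have c : a * y * a⁻¹ ∈ Ce z := mul_mem (mul_mem ha hy) (inv_mem ha)
  obtain ⟨j, e⟩ := h.Qt ((h.p.pk _ (mul_mem c hy)).1 (by rw [h.p.pm _ c _ hy, h.p.cj ha hy, py, pa]; decide))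
    (H87.U6.cm_mul (H87.U6.cm_mul (H87.U6.cm_mul ea.ct ey.ct) (H87.U6.cm_inv ea.ct)) ey.ct)
  obtain ⟨k, e1⟩ := h.Qt ((h.p.pk _ (pow_mem hy 3)).1 (by rw [h.p.pow hy, py]; decide))
    (H87.U6.cm_pow ey.ct 3)
  have cz : ∀ n, Commute y (z ^ n) := fun n => A0.cz ey.cz n
  have z3 : (z ^ j.val) ^ 3 = 1 := by rw [← pow_mul, mul_comm, pow_mul, h.z3, one_pow]
  rw [← eq_mul_inv_iff_mul_eq] at e
  have y3 : y ^ 3 = 1 := by
    have := congrArg (· ^ 3) e
    simp only [conj_pow] at this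
    rw [(cz _).symm.inv_right.mul_pow, z3, one_mul, inv_pow, e1, A0.cjz ea.cz, ← H87.U6.pw_neg h.z3,
      ← h.qz, ← h.qz] at this
    rw [e1, (by decide : ∀ k : F3, k = -k → k = 0) k (h.q_inj this).2]; exact pow_zero _
  refine ⟨y * z ^ j.val, a, _, A, A0.ex_mul ey (h.ex_z _), ea, ?_, pa, by rw [(cz _).mul_pow, y3, z3, one_mul], ?_⟩
  · have := h.qQ 0 j
    rw [h.qz] at this
    rw [h.p.pm _ hy _ (h.p.le this), (h.p.pk _ (h.p.le this)).2 this, mul_one, py]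
  · rw [← conj_mul, e, A0.cjz ea.cz, mul_assoc, (cz _).inv_left.eq, ← mul_assoc, mul_inv_rev,
      eq_inv_of_mul_eq_one_left (show z ^ j.val * z ^ j.val * z ^ j.val = 1 by rw [← z3, pow_succ, sq])]

theorem rels {Y A : V4 → V4} (ey : H87.U6.Ex z l t y Y) (ea : H87.U6.Ex z l t a A) (py : π y = y0)
    (pa : π a = a0) (u : V4) : Y (Y (Y u)) = u ∧ A (A u) = -u ∧ A (Y u) = Y (Y (A u)) := by
  have hy := mem_Ce.2 ey.cz
  have ha := mem_Ce.2 ea.cz
  have b := h.ex_ac ey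
  have c := h.ex_ac ea
  exact ⟨h.rel (h.ac_pow b 3) h.ac_one (by rw [h.p.pow hy, py, h.p.one]; decide) u,
    h.rel (h.ac_mul c c) (h.ex_ac h.ex_t) (by rw [h.p.pm _ ha _ ha, pa, h.pt]; decide) u,
    h.rel (h.ac_mul c b) (h.ac_mul b (h.ac_mul b c)) (by
      rw [h.p.pm _ ha _ hy, h.p.pm _ hy _ (mul_mem hy ha), h.p.pm _ hy _ ha, pa, py]; decide) u⟩

theorem exists_b1 {w : G} (hw : w ∈ Qs z l) (w1 : w ∉ zpowers z) (hc : IsConj z w) :
    ∃ l y a x p r X, B1 z l t π y a x p r X := by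
  obtain ⟨v, k, rfl⟩ := h.memQ.1 hw
  have v0 : v ≠ 0 := by
    rintro rfl
    exact w1 (h.qz k ▸ pow_mem (mem_zpowers z) _)
  obtain ⟨y, a, Y, A, ey, ea, py, pa, y3, ay⟩ := h.exists_ya
  obtain ⟨x, X, ex, px⟩ := h.lift x0 (by decide)
  obtain ⟨w, w0, cw, fw⟩ := h.fix v0 ey py
  have hy := mem_Ce.2 ey.cz
  have hx := mem_Ce.2 ex.cz
  have R := h.rels ey ea py pa
  have aY := fun u v => h.ac_add_be (h.ex_ac ey) u v
  have aA := fun u v => h.ac_add_be (h.ex_ac ea) u v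
  have aX := fun u v => h.ac_add_be (h.ex_ac ex) u v
  have fw' : Y (A w) = A w := by
    have := congrArg Y (R w).2.2
    rwa [fw, (R _).1] at this
  have e0 : be w (A w) = 0 := iso (fun u v => (aY u v).1) (fun u v => (aY u v).2) (fun u => (R u).1) fw fw'
    fun c hc => dep (fun u v => (aY u v).1) (fun u v => (aX u v).1)
      (fun u e => h.ac_inj (h.ex_ac ex) (e.trans (by simpa using (aX 0 0).1 : X 0 = 0).symm)) (fun u e1 e2 => by
        by_contra e3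
        have c := mul_mem (mul_mem hx hy) (inv_mem hx)
        obtain ⟨ψ, b⟩ := h.exists_ac (mem_Ce.1 c)
        have e4 := h.rel (h.ac_mul b (h.ex_ac ex)) (h.ac_mul (h.ex_ac ex) (h.ex_ac ey))
          (by rw [inv_mul_cancel_right]) u
        have := h.stab (h.ac_mul (h.ex_ac ey) b) (v := X u) (by rw [e4, e1, e2]) e3
        rw [h.p.pm _ hy _ c, h.p.cj hx hy, px, py] at this
        exact absurd this (by decide)) fw fw' hc
  obtain ⟨c, c1, c2⟩ := (by decide +kernel : ∀ p q : V4, be p q = 0 → p ≠ 0 → (∀ k : F3, q ≠ k • p) →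
    ∃ c, be p c = 1 ∧ be q c = 0) w (A w) e0 w0 fun k e => by
      have := (R w).2.1
      rw [e, show A (k • w) = k • A w from ZMod.map_smul (AddMonoidHom.mk' A fun u v => (aA u v).1) k w,
        e] at this
      exact w0 ((by decide +kernel : ∀ (k : F3) (w : V4), k • k • w = -w → w = 0) k w this)
  obtain ⟨d, d1, d2, d3⟩ : ∃ d, be w d = 1 ∧ be (A w) d = 0 ∧ be d (A d) = 0 := by
    refine ⟨c + be c (A c) • A w, by rw [be_add', be_smul', c1, e0]; ring,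
      by rw [be_add', be_smul', c2, be_self]; ring, ?_⟩
    rw [(aA _ _).1, show A (_ • A w) = _ • A (A w) from
      ZMod.map_smul (AddMonoidHom.mk' A fun u v => (aA u v).1) _ _, (R w).2.1]
    simp only [be_add, be_add', be_smul, be_smul', be_neg, (aA w c).2, c1, be_anti c w, be_anti (A w) w, e0]
    grind
  have d4 : be w (A d) = 0 := by rw [← (aA _ _).2, (R d).2.1, be_neg, d2, neg_zero]
  have d5 : be (A w) (A d) = 1 := (aA _ _).2.trans d1
  obtain ⟨h', bj⟩ := h.base (M := lin w d (A w) (A d)) (lin_add _ _ _ _) fun u v => by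
    have d6 := be_anti d (A w)
    rw [d2] at d6
    simp only [be, lin] at *
    linear_combination (u.1 * v.2.1 - u.2.1 * v.1) * d1 + (u.1 * v.2.2.1 - u.2.2.1 * v.1) * e0 +
      (u.1 * v.2.2.2 - u.2.2.2 * v.1) * d4 + (u.2.1 * v.2.2.1 - u.2.2.1 * v.2.1) * d6 +
      (u.2.1 * v.2.2.2 - u.2.2.2 * v.2.1) * d3 + (u.2.2.1 * v.2.2.2 - u.2.2.2 * v.2.2.1) * d5
  have ea' : H87.U6.Ex z (fun v => l (lin w d (A w) (A d) v)) t a Am := ⟨ea.cz, ea.ct, fun v => by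
    rw [ea.act, map_lin fun u v => (aA u v).1, (R w).2.1, (R d).2.1]
    congr 1
    simp only [lin, Am, Prod.ext_iff, Prod.fst_neg, Prod.snd_neg]; refine ⟨?_, ?_, ?_, ?_⟩ <;> ring⟩
  obtain ⟨Y', b⟩ := h'.exists_ac ey.cz
  obtain ⟨X', b'⟩ := h'.exists_ac ex.cz
  have ey' := h'.ex_of_ac b ey.ct
  have f1 : Y' (1, 0, 0, 0) = (1, 0, 0, 0) := h'.l_inj ((ey'.act _).symm.trans (by
    rw [ey.act]; simp [lin, fw]))
  have f3 : Y' (0, 0, 1, 0) = (0, 0, 1, 0) := h'.l_inj ((ey'.act _).symm.trans (by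
    rw [ey.act]; simp [lin, fw']))
  have g := fun u v => h'.ac_add_be b u v
  have g0 := add_lin fun u v => (g u v).1
  rw [f1, f3] at g0
  obtain ⟨p, r, e2, e4⟩ := (by decide +kernel : ∀ c2 : V4, be (1, 0, 0, 0) c2 = 1 → be c2 (0, 0, 1, 0) = 0 →
    ∀ c4 : V4, be (1, 0, 0, 0) c4 = 0 → be (0, 0, 1, 0) c4 = 1 → be c2 c4 = 0 →
    Am c2 = lin (1, 0, 0, 0) c2 (0, 0, 1, 0) c4 c4 → ∃ p r : F3, c2 = (p, 1, r, 0) ∧ c4 = (r, 0, -p, 1))
    (Y' (0, 1, 0, 0)) (by rw [← f1, (g _ _).2]; rfl) (by rw [← f3, (g _ _).2]; rfl) (Y' (0, 0, 0, 1))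
    (by rw [← f1, (g _ _).2]; rfl) (by rw [← f3, (g _ _).2]; rfl) (g _ _).2
    (by rw [← g0]; exact (h'.rels ey' ea' py pa (0, 1, 0, 0)).2.2)
  have e5 : ∀ v, Y' v = Yp p r v := fun v => by
    rw [g0, e2, e4]
    simp only [lin, Yp, Prod.ext_iff]; refine ⟨?_, ?_, ?_, ?_⟩ <;> ring
  refine ⟨_, y, a, x, p, r, X', h', y3, ay, A0.ex_congr ey' e5, ea', h'.ex_of_ac b' ex.ct, .inl py, pa, px,
    ?_, (hc.trans (h.lconj v0 k).symm).trans (by simpa [lin] using cw)⟩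
  rintro ⟨rfl, rfl⟩
  have := h'.memQ_of_ac (A0.ac_congr b fun v => (e5 v).trans (by simp [Yp]))
  exact absurd (py.symm.trans ((h'.p.pk _ hy).2 this)) (by decide)

end Hy

end H54.T3.A
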