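import Cfsg.Agent.Lib.HN3.Ab

/-! The `3`-local characterisation of `HN`: the subgroup `J`. -/

set_option autoImplicit false
set_option linter.unusedSectionVars false
set_option synthInstance.maxSize 2048

namespace H54.T3.A

open Subgroup
open H20.L43 (V4 Ce mem_Ce)
open H87.U6 (F3 be qq Ac lin Qs cm_cj add_lin fj pw_add pw_zero pw_one cm_pow cm_mul cm_inv)
open H29.F42 (A0)

variable {G : Type*} [Group G] [Finite G] {z t y a x g k : G} {π : G → M5} {l : V4 → G} {c r : F3}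
  {X : V4 → V4}

/-- `g` acts on the range of `j` as `φ` -/
def Rj (j : V4 → G) (g : G) (φ : V4 → V4) : Prop := ∀ v, g * j v * g⁻¹ = j (φ v)

/-- the action of `Q` on `J` -/
def rq (c r α γ : F3) : V4 → V4 := lin (1, 0, 0, 0) (α, 1, 0, 0) (γ, 0, 1, 0)
  (α * (c * α + r * γ) + γ * (r * α - c * γ), -(c * α + r * γ), -(r * α - c * γ), 1)

theorem eqns_Ac : True := by
  have := @Rj.eq_1.{0}
  have := @rq.eq_1
  trivial

theorem Rj.mul {j : V4 → G} {φ ψ : V4 → V4} (h : Rj j g φ) (h' : Rj j k ψ) :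
    Rj j (g * k) fun v => φ (ψ v) := fun v => by rw [← h, ← h']; group

theorem Rj.inv {j : V4 → G} {φ ψ : V4 → V4} (h : Rj j g φ) (e : ∀ v, φ (ψ v) = v) : Rj j g⁻¹ ψ :=
  fun v => by have := h (ψ v); rw [e] at this; rw [← this]; group

theorem surj81 {P : V4 × F3 → Prop} [DecidablePred P] (hc : Fintype.card {x // P x} = 81)
    (f : V4 → V4 × F3) (hi : Function.Injective f) (hP : ∀ v, P (f v)) (x : V4 × F3) (hx : P x) :
    ∃ v, f v = x := by
  obtain ⟨v, e⟩ := ((Fintype.bijective_iff_injective_and_card (fun v => (⟨f v, hP v⟩ : {x // P x}))).2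
    ⟨fun u v e => hi (congrArg Subtype.val e), by rw [hc]; rfl⟩).2 ⟨x, hx⟩
  exact ⟨v, congrArg Subtype.val e⟩

namespace B1

variable (h : B1 z l t π y a x c r X)
include h

theorem yC : y ∈ Ce z := mem_Ce.2 h.ey.cz

theorem yq (i j k : F3) : y * qq z l (i, 0, j, 0) k = qq z l (i, 0, j, 0) k * y :=
  cm_cj.2 ((A0.ex_q h.ey _ k).trans (by simp [Yp]))

theorem fq (v : V4) : fj z l y v = qq z l (v.2.1, 0, v.2.2.1, 0) v.1 * y ^ v.2.2.2.val := by
  rw [fj, qq, h.lzn]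

theorem add (u v : V4) : fj z l y (u + v) = fj z l y u * fj z l y v := by
  rw [h.fq, h.fq, h.fq, mul_assoc, ← mul_assoc (y ^ _), cm_pow (h.yq _ _ _), ← mul_assoc, ← mul_assoc,
    h.qmul, mul_assoc, ← pw_add h.y3]
  simp [be]

theorem jc (u v : V4) : fj z l y u * fj z l y v = fj z l y v * fj z l y u := by
  rw [← h.add, ← h.add, add_comm]

theorem j0 : fj z l y 0 = 1 := by simpa using h.add 0 0

theorem jneg (v : V4) : fj z l y (-v) = (fj z l y v)⁻¹ :=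
  eq_inv_of_mul_eq_one_left (by rw [← h.add, neg_add_cancel, h.j0])

theorem j3 (v : V4) : fj z l y v ^ 3 = 1 := by
  rw [pow_succ, pow_two, ← h.add, ← h.add, (by decide : ∀ v : V4, v + v + v = 0), h.j0]

theorem jpow (v : V4) (k : F3) : fj z l y v ^ k.val = fj z l y (k • v) := by
  rcases H87.U6.f3_cases k with rfl | rfl | rfl
  · rw [zero_smul, h.j0]; exact pow_zero _
  · rw [one_smul]; exact pow_one _
  · rw [two_smul, h.add]; exact pow_two _

theorem jH (k i j : F3) : fj z l y (k, i, j, 0) = qq z l (i, 0, j, 0) k := by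
  rw [h.fq, pw_zero, mul_one]

theorem jz : fj z l y (1, 0, 0, 0) = z := (h.jH _ _ _).trans h.q01

theorem jy : fj z l y (0, 0, 0, 1) = y := by
  rw [h.fq, pw_one]; exact mul_eq_right.2 h.q00

theorem qC (v : V4) (k : F3) : qq z l v k ∈ Ce z := h.p.le (h.qQ v k)

theorem pq (v : V4) (k : F3) (hg : g ∈ Ce z) : π (qq z l v k * g) = π g := by
  rw [h.p.pm _ (h.qC v k) _ hg, (h.p.pk _ (h.qC v k)).2 (h.qQ v k), one_mul]

theorem jC (v : V4) : fj z l y v ∈ Ce z := h.fq v ▸ mul_mem (h.qC _ _) (pow_mem h.yC _)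

theorem pj (v : V4) : π (fj z l y v) = π y ^ v.2.2.2.val := by
  rw [h.fq, h.pq _ _ (pow_mem h.yC _), h.p.pow h.yC]

theorem py1 {m : F3} (e : π y ^ m.val = 1) : m = 0 := by
  rcases h.py with e1 | e1 <;> rw [e1] at e <;> revert m <;> decide

theorem jQ {v w : V4} {k : F3} (e : fj z l y v = qq z l w k) : v.2.2.2 = 0 ∧ w = (v.2.1, 0, v.2.2.1, 0) ∧ k = v.1 := by
  have := h.py1 ((h.pj v).symm.trans (e ▸ (h.p.pk _ (h.qC w k)).2 (h.qQ w k)))
  rw [h.fq, this, pw_zero, mul_one] at e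
  exact ⟨this, (h.q_inj e).1.symm, (h.q_inj e).2.symm⟩

theorem inj {v : V4} (e : fj z l y v = 1) : v = 0 := by
  obtain ⟨h1, h2, h3⟩ := h.jQ (e.trans h.q00.symm)
  simp only [Prod.ext_iff] at h2 ⊢
  exact ⟨h3.symm, h2.1.symm, h2.2.2.1.symm, h1⟩

theorem jinj {u v : V4} (e : fj z l y u = fj z l y v) : u = v :=
  add_neg_eq_zero.1 (h.inj (by rw [h.add, h.jneg, e, mul_inv_cancel]))

theorem dec (hg : g ∈ Ce z) {m : ℕ} (e : π g = π y ^ m) : ∃ v k, g = qq z l v k * y ^ m := by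
  obtain ⟨v, k, e1⟩ := h.memQ.1 (h.p.eq hg (pow_mem h.yC m) (e.trans (h.p.pow h.yC m).symm))
  exact ⟨v, k, mul_inv_eq_iff_eq_mul.1 e1⟩

theorem stabS {φ : V4 → V4} (b : Ac z l g φ) (e : φ (1, 0, 0, 0) = (1, 0, 0, 0)) :
    ∃ m : F3, π g = π y ^ m.val := by
  have hg := mem_Ce.2 b.1
  have f : Yp c r (1, 0, 0, 0) = (1, 0, 0, 0) := by simp [Yp]
  have b1 := h.ac_mul b (h.ex_ac h.ey)
  have h1 := h.stab b e (by decide)
  have h2 := h.stab b1 (v := (1, 0, 0, 0)) (by rw [f, e]) (by decide)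
  have h3 := h.stab (h.ac_mul b1 (h.ex_ac h.ey)) (v := (1, 0, 0, 0)) (by rw [f, f, e]) (by decide)
  rw [h.p.pm _ (mul_mem hg h.yC) _ h.yC] at h3
  rw [h.p.pm _ hg _ h.yC] at h2 h3
  have := h.p.pd g hg
  generalize π g = m at *
  rcases h.py with e1 | e1 <;> rw [e1] at h2 h3 ⊢ <;> revert m <;> decide +kernel

theorem cH (hg : g ∈ Ce z) (h1 : g * l (1, 0, 0, 0) = l (1, 0, 0, 0) * g)
    (h2 : g * l (0, 0, 1, 0) = l (0, 0, 1, 0) * g) : ∃ v, g = fj z l y v := by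
  obtain ⟨φ, b⟩ := h.exists_ac (mem_Ce.1 hg)
  obtain ⟨k, e⟩ := b.2 (1, 0, 0, 0)
  rw [cm_cj.1 h1, ← h.q0] at e
  obtain ⟨m, e1⟩ := h.stabS b (h.q_inj e).1.symm
  obtain ⟨v, k, rfl⟩ := h.dec hg e1
  have f : ∀ i j, qq z l v k * y ^ m.val * l (i, 0, j, 0) = l (i, 0, j, 0) * (qq z l v k * y ^ m.val) →
      0 - be v (i, 0, j, 0) = 0 := fun i j e => by
    rw [← h.q0, mul_assoc, cm_pow (h.yq _ _ _), ← mul_assoc, ← mul_assoc, mul_left_inj, cm_cj, h.qcj] at e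
    exact (h.q_inj e).2
  refine ⟨(k, v.1, v.2.2.1, m), ?_⟩
  rw [h.fq, ← (by decide : ∀ v : V4, 0 - be v (1, 0, 0, 0) = 0 → 0 - be v (0, 0, 1, 0) = 0 →
    v = (v.1, 0, v.2.2.1, 0)) v (f _ _ h1) (f _ _ h2)]

theorem cJ (hg : ∀ v, g * fj z l y v = fj z l y v * g) : ∃ v, g = fj z l y v :=
  h.cH (mem_Ce.2 (h.jz ▸ hg _)) (by simpa only [h.jH, h.q0] using hg (0, 1, 0, 0))
    (by simpa only [h.jH, h.q0] using hg (0, 0, 1, 0))

theorem ker {v : V4} (e : Yp c r v = v) : v = (v.1, 0, v.2.2.1, 0) :=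
  (by decide +kernel : ∀ c r : F3, ¬ (c = 0 ∧ r = 0) → ∀ v : V4, Yp c r v = v → v = (v.1, 0, v.2.2.1, 0))
    c r h.pr v e

/-- `J` is the only elementary abelian subgroup of order 81 up to conjugacy -/
theorem uniq {f : V4 → G} (ad : ∀ u v, f (u + v) = f u * f v) (hi : Function.Injective f)
    (hC : ∀ v, f v ∈ Ce z) : ∃ k ∈ Ce z, ∀ v, ∃ w, k * f v * k⁻¹ = fj z l y w := by
  have f0 : f 0 = 1 := by simpa using ad 0 0
  have fc : ∀ u v, f u * f v = f v * f u := fun u v => by rw [← ad, ← ad, add_comm]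
  have f3 : ∀ v, π (f v) ^ 3 = 1 := fun v => by
    rw [← h.p.pow (hC v), pow_succ, pow_two, ← ad, ← ad, (by decide : ∀ v : V4, v + v + v = 0), f0, h.p.one]
  by_cases e : ∀ v, π (f v) = 1
  · exfalso
    choose κ μ e1 using fun v => h.memQ.1 ((h.p.pk _ (hC v)).1 (e v))
    have ij : Function.Injective fun v => (κ v, μ v) := fun u v e2 => hi (by
      rw [e1, e1, show κ u = κ v from congrArg Prod.fst e2, show μ u = μ v from congrArg Prod.snd e2])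
    have o : ∀ u v, be (κ u) (κ v) = 0 := fun u v => by
      have := cm_cj.1 (fc u v)
      rw [e1, e1, h.qcj] at this
      simpa using (h.q_inj this).2
    obtain ⟨u, hu⟩ : ∃ u, κ u ≠ 0 := by
      by_contra! e2
      have := Fintype.card_le_of_injective μ fun u v e3 => ij (Prod.ext ((e2 u).trans (e2 v).symm) e3)
      simp at this
    obtain ⟨c81, p, q, h1, h2, h3⟩ := (by decide +kernel : ∀ u : V4, u ≠ 0 →
      Fintype.card {x : V4 × F3 // be u x.1 = 0} = 81 ∧ ∃ p q, be u p = 0 ∧ be u q = 0 ∧ be p q ≠ 0) _ hu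
    obtain ⟨v, e2⟩ := surj81 c81 _ ij (o u) (p, 0) h1
    obtain ⟨w, e3⟩ := surj81 c81 _ ij (o u) (q, 0) h2
    exact h3 (by rw [← show κ v = p from congrArg Prod.fst e2, ← show κ w = q from congrArg Prod.fst e3, o])
  obtain ⟨u, hu⟩ := not_forall.1 e
  obtain ⟨n, hn, e1⟩ : ∃ n : M5, n.det = 1 ∧ n * π (f u) * n.iv = π y := by
    have h1 := h.p.pd _ (hC u)
    have h2 := f3 u
    generalize π (f u) = m at *
    rcases h.py with e1 | e1 <;> rw [e1] <;> revert m <;> decide +kernel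
  obtain ⟨k, hk, rfl⟩ := h.p.ps n hn
  have kC : ∀ v, k * f v * k⁻¹ ∈ Ce z := fun v => mul_mem (mul_mem hk (hC v)) (inv_mem hk)
  have kc : ∀ u v, k * f u * k⁻¹ * (k * f v * k⁻¹) = k * f v * k⁻¹ * (k * f u * k⁻¹) := fun u v =>
    H87.U6.cm_conj (fc u v) k
  rw [← h.p.cj hk (hC u)] at e1
  have e2 : ∀ v, ∃ m : F3, π (k * f v * k⁻¹) = π y ^ m.val := fun v => by
    have h1 := h.p.pd _ (kC v)
    have h2 : π (k * f v * k⁻¹) ^ 3 = 1 := by
      rw [← h.p.pow (kC v), conj_pow, h.p.cj hk (pow_mem (hC v) 3), h.p.pow (hC v), f3, ← h.p.one,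
        ← h.p.cj hk (one_mem _)]; simp
    have h3 := congrArg π (kc u v)
    rw [h.p.pm _ (kC u) _ (kC v), h.p.pm _ (kC v) _ (kC u), e1] at h3
    generalize π (k * f v * k⁻¹) = m at *
    rcases h.py with e1 | e1 <;> rw [e1] at h3 ⊢ <;> revert m <;> decide +kernel
  choose m e2 using e2
  obtain ⟨n, i, e3⟩ := h.dec (kC u) (e1.trans (pow_one _).symm)
  rw [pow_one] at e3
  have e4 : ∀ v, ∃ i j k' : F3, k * f v * k⁻¹ = qq z l (i, 0, j, 0) k' * (k * f u * k⁻¹) ^ (m v).val :=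
    fun v => by
    obtain ⟨w, k', e4⟩ := h.memQ.1 (h.p.eq (kC v) (pow_mem (kC u) (m v).val)
      (by rw [h.p.pow (kC u), e1, e2]))
    have e5 : k * f u * k⁻¹ * qq z l w k' = qq z l w k' * (k * f u * k⁻¹) := by
      rw [← e4]; exact (cm_mul (kc v u) (cm_inv (cm_pow rfl _))).symm
    rw [cm_cj, e3, show qq z l n i * y * qq z l w k' * (qq z l n i * y)⁻¹ =
      qq z l n i * (y * qq z l w k' * y⁻¹) * (qq z l n i)⁻¹ by group, A0.ex_q h.ey, h.qcj] at e5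
    exact ⟨_, _, k', by rw [← h.ker (h.q_inj e5).1, ← e4, inv_mul_cancel_right]⟩
  choose i j k' e4 using e4
  have sj := (Finite.injective_iff_surjective (f := fun v => ((k' v, i v, j v, m v) : V4))).1
    fun v w e5 => hi (by
      simp only [Prod.ext_iff] at e5
      have := (e4 v).trans (e5.1 ▸ e5.2.1 ▸ e5.2.2.1 ▸ e5.2.2.2 ▸ (e4 w).symm)
      simpa using this)
  have e6 : ∀ a b, ∃ v, k * f v * k⁻¹ = l (a, 0, b, 0) := fun a b => by
    obtain ⟨v, e5⟩ := sj (0, a, b, 0)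
    simp only [Prod.ext_iff] at e5
    exact ⟨v, by rw [e4, e5.1, e5.2.1, e5.2.2.1, e5.2.2.2, pw_zero, mul_one, h.q0]⟩
  obtain ⟨v1, h1⟩ := e6 1 0
  obtain ⟨v2, h2⟩ := e6 0 1
  exact ⟨k, hk, fun v => h.cH (kC v) (h1 ▸ kc v v1) (h2 ▸ kc v v2)⟩

theorem exists_rj (e : ∀ v, ∃ w, g * fj z l y v * g⁻¹ = fj z l y w) :
    ∃ φ, Rj (fj z l y) g φ ∧ (∀ u v, φ (u + v) = φ u + φ v) ∧ Function.Bijective φ := by
  choose φ e using e
  exact ⟨φ, e, fun u v => h.jinj (by rw [← e, h.add, h.add, ← e, ← e, conj_mul]),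
    Finite.injective_iff_bijective.1 fun u v e1 => h.jinj
      (mul_left_cancel (mul_right_cancel ((e u).trans (e1 ▸ (e v).symm))))⟩

theorem fus {v : V4} (e : IsConj z (fj z l y v)) : ∃ M φ ψ, M * z * M⁻¹ = fj z l y v ∧
    Rj (fj z l y) M φ ∧ Rj (fj z l y) M⁻¹ ψ ∧ (∀ u v, φ (u + v) = φ u + φ v) ∧ ∀ u, φ (ψ u) = u := by
  obtain ⟨g, e⟩ := isConj_iff.1 e
  obtain ⟨k, hk, e1⟩ := h.uniq (f := fun u => g⁻¹ * fj z l y u * g)
    (fun u v => by rw [h.add]; group) (fun u v e => h.jinj (by simpa using e)) fun u => mem_Ce.2 (by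
      have := H87.U6.cm_conj (h.jc u v) g⁻¹
      rw [← e] at this
      simpa [mul_assoc] using this)
  obtain ⟨ψ, b, -, bj⟩ := h.exists_rj (g := k * g⁻¹) fun u => (e1 u).imp fun w e => by rw [← e]; group
  have b' := b.inv (Function.rightInverse_surjInv bj.2)
  obtain ⟨φ, b1, ad, -⟩ := h.exists_rj fun u => ⟨_, b' u⟩
  refine ⟨_, φ, ψ, ?_, b1, by rwa [inv_inv], ad, fun u => h.jinj (by rw [← b1, ← b]; group)⟩
  rw [← e, mul_inv_rev, inv_inv, mul_assoc g, cm_inv (mem_Ce.1 hk)]; group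

theorem rj_basis {c1 c2 c3 c4 : V4} (h1 : g * z * g⁻¹ = fj z l y c1)
    (h2 : g * l (1, 0, 0, 0) * g⁻¹ = fj z l y c2) (h3 : g * l (0, 0, 1, 0) * g⁻¹ = fj z l y c3)
    (h4 : g * y * g⁻¹ = fj z l y c4) : Rj (fj z l y) g (lin c1 c2 c3 c4) := fun v => by
  have e : ∀ a b c d : V4, fj z l y (lin a b c d v) = fj z l y a ^ v.1.val * fj z l y b ^ v.2.1.val *
      fj z l y c ^ v.2.2.1.val * fj z l y d ^ v.2.2.2.val := fun a b c d => by
    rw [h.jpow, h.jpow, h.jpow, h.jpow, ← h.add, ← h.add, ← h.add]; rfl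
  have e1 := e (1, 0, 0, 0) (0, 1, 0, 0) (0, 0, 1, 0) (0, 0, 0, 1)
  rw [show lin (1, 0, 0, 0) (0, 1, 0, 0) (0, 0, 1, 0) (0, 0, 0, 1) v = v by simp [lin], h.jz, h.jy, h.jH,
    h.jH, h.q0, h.q0] at e1
  rw [e, e1, ← h1, ← h2, ← h3, ← h4]
  simp only [conj_pow, conj_mul]

theorem rj_j (u : V4) : Rj (fj z l y) (fj z l y u) id := fun v => cm_cj.1 (h.jc u v)

theorem rj_l (α γ : F3) : Rj (fj z l y) (l (0, α, 0, γ)) (rq c r α γ) := by
  refine h.rj_basis (by rw [h.jz]; exact cm_cj.1 (h.lz _)) (by rw [h.lcj, h.jH]; simp [be])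
    (by rw [h.lcj, h.jH]; simp [be]) ?_
  rw [← h.linv, show l (0, α, 0, γ) * y * l (-(0, α, 0, γ)) =
    l (0, α, 0, γ) * (y * l (-(0, α, 0, γ)) * y⁻¹) * y by group, h.ey.act, h.fq, pw_one, h.lmul, qq]
  congr 3
  · congr 1; simp [Yp]; constructor <;> ring
  · simp [Yp, be]; ring

theorem rj_q (v : V4) (k : F3) (m : ℕ) :
    Rj (fj z l y) (qq z l v k * y ^ m) (rq c r v.2.1 v.2.2.2) := by
  have e : qq z l v k * y ^ m = l (0, v.2.1, 0, v.2.2.2) *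
      fj z l y (k - be (0, v.2.1, 0, v.2.2.2) (v.1, 0, v.2.2.1, 0), v.1, v.2.2.1, (m : F3)) := by
    rw [h.fq, ← h.q0, ← mul_assoc, h.qmul, ZMod.val_natCast, ← pow_eq_pow_mod _ h.y3]
    simp
  rw [e]
  exact (h.rj_l _ _).mul (h.rj_j _)

theorem nrm (hg : g ∈ Ce z) {φ : V4 → V4} (b : Rj (fj z l y) g φ) :
    ∃ (i : F3) (k : Fin 4), π g = π y ^ i.val * a0 ^ k.val := by
  have e := congrArg π (b (0, 0, 0, 1))
  rw [h.jy, h.p.cj hg h.yC, h.pj] at e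
  have := h.p.pd g hg
  generalize π g = m at *
  generalize (φ (0, 0, 0, 1)).2.2.2 = i at *
  rcases h.py with e1 | e1 <;> rw [e1] at e ⊢ <;> revert m i <;> decide +kernel

theorem sgH {k i j : F3} (e : IsConj z (fj z l y (k, i, j, 0))) (h0 : ¬ (i = 0 ∧ j = 0)) :
    ∃ s, s * (c * j - r * i) = i ∧ s * (r * j + c * i) = j := by
  obtain ⟨M, φ, ψ, e, b, b', ad, iv⟩ := h.fus e
  have b1 := b'.mul ((h.rj_l j (-i)).mul b)
  have hq : M⁻¹ * (l (0, j, 0, -i) * M) ∈ Ce z := mem_Ce.2 (by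
    have : l (0, j, 0, -i) * (M * z * M⁻¹) * (l (0, j, 0, -i))⁻¹ = M * z * M⁻¹ := by
      rw [e, h.rj_l]; congr 1; simp [rq, lin]; ring
    calc _ = M⁻¹ * (l (0, j, 0, -i) * (M * z * M⁻¹) * (l (0, j, 0, -i))⁻¹) * l (0, j, 0, -i) * M := by group
      _ = _ := by rw [this]; group)
  obtain ⟨n, s, e1⟩ := h.nrm hq b1
  have e2 : π (M⁻¹ * (l (0, j, 0, -i) * M)) ^ 3 = 1 := by
    rw [← h.p.pow hq, ← h.p.one, ← mul_assoc]
    congr 1
    have := conj_pow (a := M⁻¹) (b := l (0, j, 0, -i)) (i := 3)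
    rw [h.lcube, inv_inv] at this
    simpa using this
  obtain rfl : s = 0 := by
    rw [e1] at e2
    clear e1
    rcases h.py with e3 | e3 <;> rw [e3] at e2 <;> revert n s <;> decide +kernel
  obtain ⟨v, k', e3⟩ := h.dec hq (e1.trans (mul_one _))
  have b2 := e3 ▸ h.rj_q v k' n.val
  by_cases hv : v.2.1 = 0 ∧ v.2.2.2 = 0
  · obtain ⟨w, e4⟩ := h.cJ (g := l (0, j, 0, -i)) fun u => cm_cj.2 ((h.rj_l _ _ u).trans (by
      have := h.jinj ((b1 (ψ u)).symm.trans (b2 (ψ u)))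
      beta_reduce at this
      rw [hv.1, hv.2, iv] at this
      rw [← iv (rq c r j (-i) u), this, show rq c r 0 0 (ψ u) = ψ u by simp [rq, lin], iv]))
    have := (h.jQ (e4.symm.trans (h.q0 _).symm)).2.1
    simp only [Prod.ext_iff, neg_eq_zero] at this
    exact absurd ⟨this.2.2.2, this.2.1⟩ h0
  obtain ⟨u, e4⟩ := (by decide +kernel : ∀ c r α γ : F3, ¬ (α = 0 ∧ γ = 0) →
    ∃ u, rq c r α γ u = u + (1, 0, 0, 0)) c r _ _ hv
  have e5 := congrArg φ (h.jinj ((b1 u).symm.trans (b2 u)))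
  rw [iv, e4, ad, show φ (1, 0, 0, 0) = (k, i, j, 0) from h.jinj (by rw [← b, h.jz, e])] at e5
  refine ⟨-(φ u).2.2.2, ?_⟩
  simp only [rq, lin, Prod.ext_iff, Prod.fst_add, Prod.snd_add] at e5
  exact ⟨by linear_combination e5.2.1, by linear_combination e5.2.2.1⟩

theorem inv : B1 z l t π y⁻¹ a x (-c) (-r) X :=
  { h with
    y3 := by rw [inv_pow, h.y3, inv_one]
    ay := by rw [← conj_inv, h.ay]
    ey := A0.ex_inv h.ey fun v => by ext <;> simp [Yp] <;> ring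
    py := by
      rw [h.p.inv h.yC]
      rcases h.py with e | e <;> rw [e] <;> decide
    pr := by simpa using h.pr }

theorem std : ∃ y, B1 z l t π y a x 0 1 X := by
  obtain ⟨s, h1, h2⟩ := h.sgH (k := 0) (i := 1) (j := 0) (by rw [h.jH, h.q0]; exact h.sw) (by decide)
  obtain ⟨rfl, rfl | rfl⟩ := (by decide : ∀ c r s : F3, s * (c * 0 - r * 1) = 1 → s * (r * 0 + c * 1) = 0 →
    c = 0 ∧ (r = 1 ∨ r = -1)) c r s h1 h2
  · exact ⟨y, h⟩
  · exact ⟨y⁻¹, h.inv⟩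

end B1

end H54.T3.A
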