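import Cfsg.Agent.Lib.HN3.Ac
import Cfsg.Agent.Lib.U63.Gen

/-! The `3`-local characterisation of `HN`: fusion in `J`. -/

set_option autoImplicit false
set_option linter.unusedSectionVars false
set_option synthInstance.maxSize 2048

namespace H54.T3.A

open Subgroup
open H20.L43 (V4 Ce mem_Ce)
open H87.U6 (F3 be qq Ac lin Qs cm_cj add_lin fj)
open H29.F42 (A0)

variable {G : Type*} [Group G] [Finite G] {z t y a x g : G} {π : G → M5} {l : V4 → G} {X φ : V4 → V4}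

/-- the quadratic form -/
def Th (v : V4) : F3 := v.1 * v.2.2.2 + v.2.1 * v.2.2.1
def Aj (v : V4) : V4 := (v.1, -v.2.2.1, v.2.1, -v.2.2.2)
def Ej (v : V4) : V4 := (v.1, v.1 + v.2.1, v.2.2.1, 2 * v.2.2.1 + v.2.2.2)
def rp (v : V4) : V4 := if v.2.2.2 = 0 then (if v.2.1 * v.2.2.1 = 0 then
  (if v.2.1 = 0 ∧ v.2.2.1 = 0 then (v.1 * v.1, 0, 0, 0) else (0, 1, 0, 0)) else (0, 1, 1, 0))
  else (Th v * Th v, 0, 0, 1)
def sgb (A B : Bool) (v : V4) : Bool :=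
  if v.2.2.2 = 0 then decide (v ≠ 0 ∧ Th v = 0) else if Th v = 0 then A else B

theorem eqns_Ad : True := by
  have := @Th.eq_1
  have := @Aj.eq_1
  have := @Ej.eq_1
  have := @rp.eq_1
  have := @sgb.eq_1
  trivial

theorem k1 : ∀ v : V4, ∃ α γ : F3, ∃ n : Fin 4, rq 0 1 α γ (Aj^[n] v) = rp v ∨
    rq 0 1 α γ (Aj^[n] v) = -rp v := by decide +kernel

theorem k2 : ∀ A B : Bool, ∀ c2 : V4, (∀ k i, sgb A B (lin (0, 1, 0, 0) c2 0 0 (k, i, 0, 0)) = sgb A B (k, i, 0, 0)) →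
    ∀ c3 : V4, (∀ j i k, sgb A B (lin (0, 1, 0, 0) c2 c3 0 (k, i, -j - 1, 0)) = sgb A B (k, i, -j - 1, 0)) →
    A = true ∧ B = false := by decide +kernel

theorem k3 : ∀ c2 : V4, (∀ k i, sgb true false (lin (0, 1, 0, 0) c2 0 0 (k, i, 0, 0)) =
      sgb true false (k, i, 0, 0)) →
    ∀ c3 : V4, (∀ j i k, sgb true false (lin (0, 1, 0, 0) c2 c3 0 (k, i, -j - 1, 0)) =
      sgb true false (k, i, -j - 1, 0)) →
    ∀ c4 : V4, (∀ j i k, sgb true false (lin (0, 1, 0, 0) c2 c3 c4 (k, i, j, 1)) =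
      sgb true false (k, i, j, 1)) → ∃ α γ, ∀ v, lin (0, 1, 0, 0) c2 c3 c4 (rq 0 1 α γ v) =
      Ej (lin (0, 1, 0, 0) c2 c3 c4 v) := by decide +kernel

theorem Rj.cj {j : V4 → G} (b : Rj j g φ) (v : V4) : IsConj (j v) (j (φ v)) := isConj_iff.2 ⟨g, b v⟩

theorem Rj.pow {j : V4 → G} (b : Rj j g φ) : ∀ n : ℕ, Rj j (g ^ n) φ^[n]
  | 0 => fun v => by simp
  | n + 1 => by rw [pow_succ]; exact (Rj.pow b n).mul b

theorem Rj.sg {j : V4 → G} (b : Rj j g φ) (v : V4) : IsConj z (j (φ v)) ↔ IsConj z (j v) :=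
  ⟨fun e => e.trans (b.cj v).symm, fun e => e.trans (b.cj v)⟩

namespace B1

variable (h : B1 z l t π y a x 0 1 X)
include h

theorem ra : Rj (fj z l y) a Aj := by
  have := h.rj_basis (g := a) (c1 := (1, 0, 0, 0)) (c2 := (0, 0, 1, 0)) (c3 := -(0, 1, 0, 0))
    (c4 := -(0, 0, 0, 1)) (by rw [h.jz]; exact cm_cj.1 h.ea.cz)
    (by rw [h.ea.act, h.jH, h.q0]; rfl) (by rw [h.ea.act, h.jneg, h.jH, h.q0, ← h.linv]; rfl)
    (by rw [h.jneg, h.jy, h.ay])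
  exact fun v => (this v).trans (by congr 1; revert v; decide)

theorem s1 : IsConj z (fj z l y (0, 1, 0, 0)) := by rw [h.jH, h.q0]; exact h.sw

theorem sneg {v : V4} (e : IsConj z (fj z l y v)) : IsConj z (fj z l y (-v)) := by
  have f : ∀ {v}, IsConj z (fj z l y v) → IsConj z⁻¹ (fj z l y (-v)) := fun e => by
    obtain ⟨g, e⟩ := isConj_iff.1 e
    exact isConj_iff.2 ⟨g, by rw [h.jneg, ← e, conj_inv]⟩
  exact (((h.ra.pow 2).sg (0, 1, 0, 0)).2 h.s1).trans ((f h.s1).symm.trans (f e))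

theorem srp (v : V4) : IsConj z (fj z l y v) ↔ IsConj z (fj z l y (rp v)) := by
  obtain ⟨α, γ, n, e⟩ := k1 v
  rw [← ((h.rj_l α γ).mul (h.ra.pow n)).sg]
  rcases e with e | e <;> rw [e]
  exact ⟨fun e => neg_neg (rp v) ▸ h.sneg e, h.sneg⟩

theorem n0 : ¬ IsConj z (fj z l y 0) := by rw [h.j0, isConj_one_left]; exact h.z1

theorem n1 : ¬ IsConj z (fj z l y (0, 1, 1, 0)) := fun e => by
  obtain ⟨s, e⟩ := h.sgH e (by decide)
  revert s; decide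

theorem sb {A B : Bool} (hA : A = true ↔ IsConj z (fj z l y (0, 0, 0, 1)))
    (hB : B = true ↔ IsConj z (fj z l y (1, 0, 0, 1))) (v : V4) :
    sgb A B v = true ↔ IsConj z (fj z l y v) := by
  rw [h.srp]
  rcases (by decide +kernel : ∀ (A B : Bool) (v : V4), (rp v = 0 ∧ sgb A B v = false) ∨
    (rp v = (1, 0, 0, 0) ∧ sgb A B v = true) ∨ (rp v = (0, 1, 0, 0) ∧ sgb A B v = true) ∨
    (rp v = (0, 1, 1, 0) ∧ sgb A B v = false) ∨ (rp v = (0, 0, 0, 1) ∧ sgb A B v = A) ∨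
    (rp v = (1, 0, 0, 1) ∧ sgb A B v = B)) A B v with e | e | e | e | e | e <;> rw [e.1, e.2]
  · simpa using h.n0
  · rw [h.jz]; exact iff_of_true rfl (IsConj.refl z)
  · simpa using h.s1
  · simpa using h.n1
  · exact hA
  · exact hB

theorem fu : (∀ v, sgb true false v = true ↔ IsConj z (fj z l y v)) ∧ ∃ e, Rj (fj z l y) e Ej := by
  classical
  obtain ⟨M, φ, ψ, e, b, b', ad, iv⟩ := h.fus h.s1
  have e1 : φ (1, 0, 0, 0) = (0, 1, 0, 0) := h.jinj (by rw [← b, h.jz, e])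
  have g0 := add_lin ad
  rw [e1] at g0
  generalize φ (0, 1, 0, 0) = c2, φ (0, 0, 1, 0) = c3, φ (0, 0, 0, 1) = c4 at g0
  have f : ∀ A B, (∀ v, sgb A B v = true ↔ IsConj z (fj z l y v)) →
      ∀ v, sgb A B (lin (0, 1, 0, 0) c2 c3 c4 v) = sgb A B v := fun A B s v => by
    rw [← g0, Bool.eq_iff_iff, s, s, b.sg]
  have l2 : ∀ k i, lin (0, 1, 0, 0) c2 0 0 (k, i, 0, 0) = lin (0, 1, 0, 0) c2 c3 c4 (k, i, 0, 0) :=
    fun k i => by simp [lin]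
  have l3 : ∀ k i j, lin (0, 1, 0, 0) c2 c3 0 (k, i, j, 0) = lin (0, 1, 0, 0) c2 c3 c4 (k, i, j, 0) :=
    fun k i j => by simp [lin]
  have s := h.sb decide_eq_true_iff decide_eq_true_iff
  obtain ⟨h1, h2⟩ := k2 _ _ c2 (fun k i => by rw [l2, f _ _ s]) c3 fun j i k => by rw [l3, f _ _ s]
  rw [h1, h2] at s
  obtain ⟨α, γ, e2⟩ := k3 c2 (fun k i => by rw [l2, f _ _ s]) c3 (fun j i k => by rw [l3, f _ _ s]) c4
    fun j i k => f _ _ s _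
  exact ⟨s, _, fun v => (b.mul ((h.rj_l α γ).mul b') v).trans (by beta_reduce; rw [g0, e2, ← g0, iv])⟩

theorem sg (v : V4) : IsConj z (fj z l y v) ↔ v ≠ 0 ∧ Th v = 0 := by
  rw [← h.fu.1]; revert v; decide +kernel

theorem sigv {U : Subgroup G} (hU : (Nat.card U).Coprime 3)
    (n : ∀ u, ∀ x ∈ U, fj z l y u * x * (fj z l y u)⁻¹ ∈ U) {v : V4} (hv : v ≠ 0 ∧ Th v = 0) (k : G)
    (hk : k ∈ U) (c : k * fj z l y v = fj z l y v * k) : k ∈ (⊥ : Subgroup G) := by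
  obtain ⟨M, φ, ψ, e, b, -⟩ := h.fus ((h.sg v).2 hv)
  have hC : M⁻¹ * k * M * z = z * (M⁻¹ * k * M) := by
    have := H87.U6.cm_conj c M⁻¹
    rw [← e] at this
    simpa [mul_assoc] using this
  have e1 := b (0, 1, 0, 0)
  rw [h.jH, h.q0] at e1
  have e2 := H87.U6.eq_one_of_cop hU (mul_mem (n (φ (0, 1, 0, 0)) k hk) (inv_mem hk)) (n := 1) (by
    have := h.Q3 (mul_mem (h.lQ (1, 0, 0, 0)) (inv_mem (h.nQ' hC (h.lQ (1, 0, 0, 0)))))
    rw [← e1, show M * l (1, 0, 0, 0) * M⁻¹ * k * (M * l (1, 0, 0, 0) * M⁻¹)⁻¹ * k⁻¹ = M * (l (1, 0, 0, 0) *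
      (M⁻¹ * k * M * l (1, 0, 0, 0) * (M⁻¹ * k * M)⁻¹)⁻¹) * M⁻¹ by group, pow_one, conj_pow, this]
    simp)
  obtain ⟨χ, d⟩ := h.exists_ac hC
  obtain ⟨j, e3⟩ := d.2 (1, 0, 0, 0)
  rw [show M⁻¹ * k * M * l (1, 0, 0, 0) * (M⁻¹ * k * M)⁻¹ = M⁻¹ * (M * l (1, 0, 0, 0) * M⁻¹ * k *
    (M * l (1, 0, 0, 0) * M⁻¹)⁻¹ * k⁻¹)⁻¹ * M * l (1, 0, 0, 0) by group, e1, e2, inv_one, mul_one,
    inv_mul_cancel, one_mul, ← h.q0] at e3
  have e4 := h.stab d (h.q_inj e3).1.symm (by decide)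
  rw [← h.p.pow (mem_Ce.2 hC), h.p.pk _ (pow_mem (mem_Ce.2 hC) _)] at e4
  have e5 := h.Q3 e4
  rw [← pow_mul, ← inv_inv M, inv_inv M⁻¹, conj_pow, conj_eq_one_iff] at e5
  exact H87.U6.eq_one_of_cop hU hk (n := 2) e5

theorem sig {U : Subgroup G} (hU : (Nat.card U).Coprime 3)
    (n : ∀ u, ∀ x ∈ U, fj z l y u * x * (fj z l y u)⁻¹ ∈ U) : U = ⊥ := by
  refine eq_bot_iff.2 (H87.U6.gen9 hU (h.j3 (1, 0, 0, 0)) (h.j3 (0, 1, 0, 0)) (h.jc _ _)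
    (fun e => absurd (h.inj e) (by decide)) (fun e => ?_) (n _) (n _) (h.sigv hU n (by decide))
    (h.sigv hU n (by decide)) ?_ ?_)
  · rw [h.jz, h.jH] at e
    exact absurd (h.q_zp e) (by decide)
  · rw [← h.add]; exact h.sigv hU n (by decide)
  · rw [← h.jneg, ← h.add]; exact h.sigv hU n (by decide)

end B1

end H54.T3.A
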