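import Cfsg.Agent.Lib.HN3.Defs

/-! The `3`-local characterisation of `HN`: permutations. -/

set_option autoImplicit false
set_option synthInstance.maxSize 1024

namespace H54.T3

open Subgroup Equiv Equiv.Perm H58.SE H58.Cd
open H58.N9 (P9 e1 e2 e3 ce1 ce2 ce3 c1 isConj_of_cube cube_supp)
open H40.Alt (xp xa carm_hom alt_le_closure_xp)

/-- Carmichael's generators `(i, n, n + 1)` -/
def xz (n : ℕ) (i : Fin n) : Perm (Fin (n + 2)) :=
  swap (Fin.castAdd 2 i) (Fin.natAdd n 1) * swap (Fin.castAdd 2 i) (Fin.natAdd n 0)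

/-- the relabelling -/
def eF (n : ℕ) : Fin (n + 2) ≃ Fin n ⊕ Bool :=
  finSumFinEquiv.symm.trans (Equiv.sumCongr (Equiv.refl _) finTwoEquiv)

theorem force_eq_B2 : True := by
  have := @xz.eq_1
  have := @eF.eq_1
  trivial

theorem eF_xz (n : ℕ) (i : Fin n) : (eF n).permCongrHom (xz n i) = xp i := by
  have k : ∀ a b : Fin (n + 2), (eF n).permCongrHom (swap a b) = swap (eF n a) (eF n b) :=
    fun a b => symm_trans_swap_trans a b (eF n)
  rw [xz, map_mul, k, k, xp]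
  simp [eF]
  rfl

theorem genF {n : ℕ} {F : Subgroup (Perm (Fin (n + 2)))} (hF : ∀ i, xz n i ∈ F)
    {p : Perm (Fin (n + 2))} (hp : sign p = 1) : p ∈ F := by
  have h : closure (Set.range (xp (ι := Fin n))) ≤ F.comap (eF n).permCongrHom.symm.toMonoidHom :=
    (closure_le _).2 (by
      rintro _ ⟨i, rfl⟩
      rw [← eF_xz]
      change (eF n).permCongrHom.symm _ ∈ F
      rw [MulEquiv.symm_apply_apply]
      exact hF i)
  exact (eF n).permCongrHom.symm_apply_apply p ▸ h (alt_le_closure_xp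
    (show (eF n).permCongrHom p ∈ alternatingGroup _ by simpa using hp))

variable {G : Type*} [Group G]

theorem carmF {n : ℕ} (hn : 3 ≤ n) (Y : Fin n → G) (h3 : ∀ i, Y i ^ 3 = 1)
    (h2 : ∀ i j, i ≠ j → (Y i * Y j) ^ 2 = 1) {i : Fin n} (hi : Y i ≠ 1) :
    ∃ m : PH (Perm (Fin (n + 2))) G, (∀ {p}, p ∈ m.S ↔ sign p = 1) ∧ ∀ i, m.f (xz n i) = Y i := by
  obtain ⟨φ, hφ⟩ := carm_hom Y h3 h2
  have hinj := carm_inj (by simpa using hn) (hφ i ▸ hi)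
  refine ⟨(PH.ofHom _ φ hinj).comapEquiv (eF n).permCongrHom, fun {p} => ?_, fun j => ?_⟩
  · simp [PH.comapEquiv, PH.ofHom, mem_alternatingGroup]
  · rw [← hφ]
    change (PH.ofHom _ φ hinj).f ((eF n).permCongrHom _) = _
    rw [eF_xz]
    exact PH.ofHom_f _ _ _ (xa j).2

theorem sign_xz (n : ℕ) (i : Fin n) : sign (xz n i) = 1 := by
  have := H40.Alt.sign_xp i
  rw [← eF_xz] at this
  simpa using this

theorem wrd {n : ℕ} {m : PH (Perm (Fin (n + 2))) G} (hS : ∀ {p}, p ∈ m.S ↔ sign p = 1)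
    (a b c : Fin n) : m.f ((xz n c)⁻¹ * (xz n b)⁻¹ * xz n a * xz n b * xz n c) =
      (m.f (xz n c))⁻¹ * (m.f (xz n b))⁻¹ * m.f (xz n a) * m.f (xz n b) * m.f (xz n c) := by
  let x : Fin n → m.S := fun i => ⟨xz n i, hS.2 (sign_xz n i)⟩
  change m.hom ((x c)⁻¹ * (x b)⁻¹ * x a * x b * x c) = _
  simp only [map_mul, map_inv]
  rfl

theorem cinv {p q : G} (h : q * p = p * q) : q * p⁻¹ = p⁻¹ * q := (Commute.inv_right h).eq

theorem ci1 : code e1⁻¹ = 36344967426 := by decide +kernel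
theorem ci3 : code e3⁻¹ = 31815119376 := by decide +kernel
theorem ci12 : code (e1 * e2)⁻¹ = 36343861506 := by decide +kernel
theorem ci123 : code (e1 * e2 * e3)⁻¹ = 31814013186 := by decide +kernel
theorem cxB3 : code (n := 9) (xz 7 3) = 15138583056 := by decide +kernel

/-- an element of order three commuting with an element of order four is a three-cycle -/
theorem three9 {p q : P9} (h3 : p ^ 3 = 1) (h1 : p ≠ 1) (hc : q * p = p * q) (h4 : q ^ 4 = 1)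
    (h2 : q ^ 2 ≠ 1) : p.support.card = 3 := by
  have key : ∀ r : P9, r ^ 3 = 1 → (∀ q : P9, q * r = r * q → q ^ 4 = 1 → q ^ 2 = 1) →
      p.support.card ≠ r.support.card := fun r hr h e => by
    obtain ⟨k, rfl⟩ := isConj_iff.1 (isConj_of_cube h3 hr e)
    exact h2 (by simpa using h (k * q * k⁻¹) (conj_comm hc) (by simp [h4]))
  obtain ⟨k, e, k1, k2⟩ := cube_supp h3 h1
  rcases (show k = 1 ∨ k = 2 ∨ k = 3 by omega) with rfl | rfl | rfl
  · exact e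
  · refine absurd (e.trans (by decide +kernel)) (key (e1 * e2) (by decide +kernel) fun q hq => ?_)
    simp only [H58.Cd.eq_iff (n := 9), code_pow, c1]
    refine fc 9 _ (code q) ⟨_, q, ci12, rfl, cinv hq⟩ ?_
    decide +kernel
  · refine absurd (e.trans (by decide +kernel)) (key (e1 * e2 * e3) (by decide +kernel) fun q hq => ?_)
    simp only [H58.Cd.eq_iff (n := 9), code_pow, c1]
    refine fc 9 _ (code q) ⟨_, q, ci123, rfl, cinv hq⟩ ?_
    decide +kernel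

theorem nm2 {q : P9} (h : q * e3 = e3 * q) : q ^ 3 = 1 → q.support.card = 3 → q ≠ e3 → q ≠ e3⁻¹ →
    ∃ i j l : Fin 9, (swap 3 i * swap 4 j * swap 5 l) * e3 = e3 * (swap 3 i * swap 4 j * swap 5 l) ∧
      (swap 3 i * swap 4 j * swap 5 l) * e2 = q * (swap 3 i * swap 4 j * swap 5 l) := by
  simp only [ne_eq, H58.Cd.eq_iff (n := 9), code_mul, code_inv, code_pow, card_support, ce2, ce3, c1]
  refine fc 9 _ (code q) ⟨_, q, ci3, rfl, cinv h⟩ ?_
  decide +kernel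

theorem nm1 {q : P9} (h : q * e3 = e3 * q) : q * e2 = e2 * q → q ^ 3 = 1 → q.support.card = 3 →
    q ≠ e3 → q ≠ e3⁻¹ → q ≠ e2 → q ≠ e2⁻¹ → q = e1 ∨ q = e1⁻¹ := by
  simp only [ne_eq, H58.Cd.eq_iff (n := 9), code_mul, code_inv, code_pow, card_support, ce1, ce2,
    ce3, c1]
  refine fc 9 _ (code q) ⟨_, q, ci3, rfl, cinv h⟩ ?_
  decide +kernel

/-- three commuting three-cycles -/
structure Tr (p q r : P9) : Prop where
  c : p ^ 3 = 1 ∧ q ^ 3 = 1 ∧ r ^ 3 = 1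
  s : p.support.card = 3 ∧ q.support.card = 3 ∧ r.support.card = 3
  m : p * q = q * p ∧ p * r = r * p ∧ q * r = r * q
  n : p ≠ q ∧ p ≠ q⁻¹ ∧ p ≠ r ∧ p ≠ r⁻¹ ∧ q ≠ r ∧ q ≠ r⁻¹

theorem Tr.cj {p q r : P9} (h : Tr p q r) (k : P9) :
    Tr (k * p * k⁻¹) (k * q * k⁻¹) (k * r * k⁻¹) := by
  obtain ⟨h1, h2, h3, h4⟩ := h
  refine ⟨by simpa using h1, by simpa only [card_support_conj] using h2,
    ⟨conj_comm h3.1, conj_comm h3.2.1, conj_comm h3.2.2⟩, ?_⟩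
  simpa only [ne_eq, conj_inv, mul_left_inj, mul_right_inj] using h4

theorem Tr.nrm {p q r : P9} (h : Tr p q r) :
    ∃ k : P9, k * e1 * k⁻¹ = p ∧ k * e2 * k⁻¹ = q ∧ k * e3 * k⁻¹ = r := by
  have k1 : ∀ p, Tr p e2 e3 → ∃ k : P9, k * e1 * k⁻¹ = p ∧ k * e2 * k⁻¹ = e2 ∧ k * e3 * k⁻¹ = e3 :=
    fun p h => by
    rcases nm1 h.m.2.1 h.m.1 h.c.1 h.s.1 h.n.2.2.1 h.n.2.2.2.1 h.n.1 h.n.2.1 with rfl | rfl
    exacts [⟨1, by simp⟩, ⟨swap 0 1, by decide +kernel⟩]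
  have k2 : ∀ p q, Tr p q e3 → ∃ k : P9, k * e1 * k⁻¹ = p ∧ k * e2 * k⁻¹ = q ∧ k * e3 * k⁻¹ = e3 :=
    fun p q h => by
    obtain ⟨i, j, l, a1, a2⟩ := nm2 h.m.2.2 h.c.2.1 h.s.2.1 h.n.2.2.2.2.1 h.n.2.2.2.2.2
    generalize swap 3 i * swap 4 j * swap 5 l = c at a1 a2
    have := h.cj c⁻¹
    rw [show c⁻¹ * q * c⁻¹⁻¹ = e2 by rw [inv_inv, mul_assoc, ← a2]; simp,
      show c⁻¹ * e3 * c⁻¹⁻¹ = e3 by rw [inv_inv, mul_assoc, ← a1]; simp] at this
    obtain ⟨k, b1, b2, b3⟩ := k1 _ this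
    refine ⟨c * k, ?_, ?_, ?_⟩ <;> rw [mul_inv_rev, ← mul_assoc, mul_assoc c, mul_assoc c]
    · rw [b1]; group
    · rw [b2, a2]; group
    · rw [b3, a1]; group
  obtain ⟨c, hc⟩ := isConj_iff.1 (isConj_of_cube h.c.2.2 (q := e3) (by decide +kernel)
    (h.s.2.2.trans (by decide +kernel)))
  have := h.cj c
  rw [hc] at this
  obtain ⟨k, b1, b2, b3⟩ := k2 _ _ this
  refine ⟨c⁻¹ * k, ?_, ?_, ?_⟩ <;> rw [mul_inv_rev, ← mul_assoc, mul_assoc c⁻¹, mul_assoc c⁻¹]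
  · rw [b1]; group
  · rw [b2]; group
  · rw [b3, ← hc]; group

theorem xst {q : P9} (h : q * e1 = e1 * q) : q ^ 3 = 1 → (q * e3) ^ 2 = 1 → q * e3 ≠ 1 →
    sign q = 1 → ∃ i j : Fin 3, e2 ^ i.val * e3 ^ j.val * q = xz 7 3 * (e2 ^ i.val * e3 ^ j.val) := by
  simp only [ne_eq, H58.Cd.eq_iff (n := 9), code_mul, code_pow, sign_eq_one, ce2, ce3, c1, cxB3]
  refine fc 9 _ (code q) ⟨_, q, ci1, rfl, cinv h⟩ ?_
  decide +kernel

end H54.T3
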