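import Cfsg.Agent.Lib.HN3.B1
import Cfsg.Agent.Lib.HN3.B2

/-! The `3`-local characterisation of `HN`: the subgroup `A₁₂`. -/

set_option autoImplicit false
set_option synthInstance.maxSize 1024

namespace H54.T3

open Subgroup H20.L43 Equiv Equiv.Perm H58.SE
open H58.N9 (W P9 e1 e2 e3 Spl exists_model)

theorem tbB : ∀ u ∈ ([(0, 1, 0, 0), (0, 0, 1, 0), (0, 0, 0, 1)] : List V4), u ≠ 0 ∧
    (∃ w, mv (am w) u + -u = u) ∧ ∃ w, mv (am w) u = u ∧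
      am w * am w * (am w * am w) = 1 ∧ am w * am w ≠ 1 := by decide +kernel

/-- the cyclic shift of the first three coordinates -/
def mR : M4 := ⟨0, 0, 1, 0, 1, 0, 0, 0, 0, 1, 0, 0, 0, 0, 0, 1⟩

/-- the permutation of Carmichael's generators -/
def sgB : Fin 10 → Fin 10 := ![3, 4, 5, 6, 7, 8, 0, 1, 2, 9]

theorem force_eq_B : True := by
  have := @mR.eq_1
  have := @sgB.eq_1
  trivial

theorem sgB_pair : ∀ i j : Fin 10, i ≠ j → ∃ a c : Fin 7, a ≠ c ∧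
    (i = a.addNat 3 ∧ j = c.addNat 3 ∨ sgB i = a.addNat 3 ∧ sgB j = c.addNat 3 ∨
      sgB (sgB i) = a.addNat 3 ∧ sgB (sgB j) = c.addNat 3) := by decide +kernel

variable {G : Type*} [Group G] {b : V4 → G}

/-- the subgroup `A₉` -/
structure Nine (b : V4 → G) (k : PH P9 G) : Prop where
  sp : Spl k.range (b (1, 0, 0, 0))
  S : ∀ {p}, p ∈ k.S ↔ sign p = 1
  f1 : k.f e1 = b (0, 1, 0, 0)
  f2 : k.f e2 = b (0, 0, 1, 0)
  f3 : k.f e3 = b (0, 0, 0, 1)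

theorem Fr.nine [Finite G] (h : Fr b) : ∃ k, Nine b k := by
  obtain ⟨s, -, hs, -⟩ := h.fA
  choose L hL using h.la_am hs
  obtain ⟨K, hK, ⟨e⟩⟩ := h.cent hs hL
  obtain ⟨k, kS, rfl⟩ := exists_model e
  have LC : ∀ w, L w * b (1, 0, 0, 0) = b (1, 0, 0, 0) * L w := fun w =>
    mem_Ce.1 (Nb_le ⟨w, (hL w).1⟩)
  have key : ∀ u ∈ ([(0, 1, 0, 0), (0, 0, 1, 0), (0, 0, 0, 1)] : List V4),
      ∃ p ∈ k.S, k.f p = b u ∧ p ^ 3 = 1 ∧ p.support.card = 3 := fun u hu => by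
    obtain ⟨u0, ⟨w, hw⟩, w', h1, h2, h3⟩ := tbB u hu
    have := hK.cm (L w) (b u) (LC w) (h.cm _ _)
    rw [(hL w).1, ← h.ah.neg, ← h.add, hw] at this
    obtain ⟨p, hp, ep⟩ := k.mem_range.1 this
    have l2 := (hL w').mul (hL w')
    have l4 : L w' ^ 4 = 1 := by
      simpa [pow_succ, mul_assoc] using h.la_eq hs (l2.mul l2) (h2 ▸ la_one)
    obtain ⟨q, hq, eq⟩ := k.mem_range.1 (hK.cop _ 4 (LC w') l4 (by norm_num))
    have p3 := (k.pow_eq_one_iff hp 3).1 (ep ▸ h.cube u)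
    refine ⟨p, hp, ep, p3, three9 (q := q) p3 ((k.eq_one_iff hp).not.1 (ep ▸ h.ne u0))
      ((k.comm_iff hq hp).1 (ep ▸ eq ▸ (hL w').1.cm h1)) ((k.pow_eq_one_iff hq 4).1 (eq ▸ l4))
      fun e => h3 (h.uniq l2.1 ?_)⟩
    rw [← sq, ← eq, (k.pow_eq_one_iff hq 2).2 e]
    exact rl_one
  obtain ⟨p, hp, ep, p3, ps⟩ := key (0, 1, 0, 0) (by simp)
  obtain ⟨q, hq, eq, q3, qs⟩ := key (0, 0, 1, 0) (by simp)
  obtain ⟨r, hr, er, r3, rs⟩ := key (0, 0, 0, 1) (by simp)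
  have ne : ∀ {p q u v}, q ∈ k.S → k.f p = b u → k.f q = b v → u ≠ v ∧ u ≠ -v →
      p ≠ q ∧ p ≠ q⁻¹ := fun {p q u v} hq ep eq huv =>
    ⟨fun e => huv.1 (h.injv (by rw [← ep, ← eq, e])),
      fun e => huv.2 (h.injv (by rw [h.ah.neg, ← ep, ← eq, e, k.inv hq]))⟩
  have n1 := ne hq ep eq (by decide)
  have n2 := ne hr ep er (by decide)
  have n3 := ne hr eq er (by decide)
  obtain ⟨c, c1, c2, c3⟩ := Tr.nrm ⟨⟨p3, q3, r3⟩, ⟨ps, qs, rs⟩,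
    ⟨(k.comm_iff hp hq).1 (by rw [ep, eq, h.cm]), (k.comm_iff hp hr).1 (by rw [ep, er, h.cm]),
      (k.comm_iff hq hr).1 (by rw [eq, er, h.cm])⟩, n1.1, n1.2, n2.1, n2.2, n3⟩
  refine ⟨k.comapEquiv (MulAut.conj c), by rwa [PH.range_comapEquiv], fun {p} => ?_,
    (congrArg k.f c1).trans ep, (congrArg k.f c2).trans eq, (congrArg k.f c3).trans er⟩
  simp [PH.comapEquiv, kS, mem_alternatingGroup, mul_right_comm]

theorem Fr.rho (h : Fr b) {k : PH P9 G} (hk : Nine b k) :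
    ∃ ρ, Rl b ρ mR ∧ ρ ^ 3 = 1 ∧ ρ * k.f (xz 7 0) * ρ⁻¹ = k.f (xz 7 3) := by
  obtain ⟨s, -, hs, -⟩ := h.fA
  obtain ⟨r, hr⟩ := h.la_wd hs [1, 1, 0, 1, 0, 1]
  rw [show wd [1, 1, 0, 1, 0, 1] = mR by decide +kernel] at hr
  have r3 : r * r * r = 1 := h.la_eq hs ((hr.mul hr).mul hr) (by convert la_one; decide +kernel)
  have m0 := hk.S.2 (sign_xz 7 0)
  have m1 : e1 ∈ k.S := hk.S.2 (by decide +kernel)
  have m2 : e2 ∈ k.S := hk.S.2 (by decide +kernel)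
  have m3 : e3 ∈ k.S := hk.S.2 (by decide +kernel)
  have a1 : r * b (1, 0, 0, 0) * r⁻¹ = b (0, 1, 0, 0) := hr.1 _
  have a3 : r * b (0, 0, 1, 0) * r⁻¹ = b (1, 0, 0, 0) := hr.1 _
  have a4 : r * b (0, 0, 0, 1) * r⁻¹ = b (0, 0, 0, 1) := hr.1 _
  have c1 := conj_comm (g := r) ((k.comm_iff m0 m2).2 (by decide +kernel))
  have c2 := conj_comm (g := r) (hk.sp.comm (k.f_mem m0))
  rw [hk.f2, a3] at c1
  rw [a1, ← hk.f1] at c2
  have e4 : r * k.f (xz 7 0) * r⁻¹ * k.f e3 = r * k.f (xz 7 0 * e3) * r⁻¹ := by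
    rw [k.mul m0 m3, ← conj_mul, hk.f3, a4]
  have e5 : (r * k.f (xz 7 0) * r⁻¹ * k.f e3) ^ 2 = 1 := by
    rw [e4, conj_pow, (k.pow_eq_one_iff (mul_mem m0 m3) 2).2 (by decide +kernel)]; simp
  obtain ⟨q, hq, eq⟩ := k.mem_range.1 ((mul_mem_cancel_right (k.f_mem m3)).1 (hk.sp.cop _ 2
    (by rw [mul_assoc, hk.sp.comm (k.f_mem m3), ← mul_assoc, c1, mul_assoc]) e5 (by norm_num)))
  obtain ⟨i, j, e⟩ := xst (q := q) ((k.comm_iff hq m1).1 (eq ▸ c2))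
    ((k.pow_eq_one_iff hq 3).1 (by
      rw [eq, conj_pow, (k.pow_eq_one_iff m0 3).2 (by decide +kernel)]; simp))
    ((k.pow_eq_one_iff (mul_mem hq m3) 2).1 (by rw [k.mul hq m3, eq, e5]))
    ((k.mul_eq_one_iff hq m3).not.1 (by
      rw [eq, e4, conj_eq_one_iff, k.eq_one_iff (mul_mem m0 m3)]; decide +kernel)) (hk.S.1 hq)
  let v : V4 := i.val • (0, 0, 1, 0) + j.val • (0, 0, 0, 1) + -(i.val • (1, 0, 0, 0))
  refine ⟨b v * r, by simpa using (h.rlJ v).mul hr.1, ?_, ?_⟩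
  · calc _ = b v * (r * b v * r⁻¹) * (r * r * b v * (r * r)⁻¹) * (r * r * r) := by
          simp only [pow_succ]; group
      _ = 1 := by
        rw [r3, hr.1, (hr.mul hr).1, ← h.add, ← h.add, mul_one, ← h.ah.zero]
        congr 1
        simp only [v]; clear * -; revert i j; decide +kernel
  · have m5 := mul_mem (pow_mem m2 i.val) (pow_mem m3 j.val)
    have c3 : Commute (k.f q) (b (1, 0, 0, 0) ^ i.val) :=
      (show Commute _ _ from hk.sp.comm (k.f_mem hq)).pow_right _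
    rw [← (k.conj_iff m5 hq (hk.S.2 (sign_xz 7 3))).2 (mul_inv_eq_iff_eq_mul.2 e),
      k.mul (pow_mem m2 _) (pow_mem m3 _), k.pow m2, k.pow m3, hk.f2, hk.f3, h.add, h.add,
      h.ah.neg, h.ah.nsmul, h.ah.nsmul, h.ah.nsmul]
    generalize b (0, 0, 1, 0) ^ i.val * b (0, 0, 0, 1) ^ j.val = t
    calc _ = t * ((b (1, 0, 0, 0) ^ i.val)⁻¹ * (r * k.f (xz 7 0) * r⁻¹ * b (1, 0, 0, 0) ^ i.val)) *
          t⁻¹ := by group
      _ = _ := by rw [← eq, c3.eq, inv_mul_cancel_left]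

theorem Fr.exists_tw {G : Type*} [Group G] [Finite G] {b : V4 → G} (h : Fr b) :
    ∃ m : PH P12 G, Tw m := by
  obtain ⟨k, hk⟩ := h.nine
  obtain ⟨ρ, hρ, r3, r0⟩ := h.rho hk
  have mx : ∀ i, xz 7 i ∈ k.S := fun i => hk.S.2 (sign_xz 7 i)
  have m1 : e1 ∈ k.S := hk.S.2 (by decide +kernel)
  have m2 : e2 ∈ k.S := hk.S.2 (by decide +kernel)
  have a1 : ρ * b (1, 0, 0, 0) * ρ⁻¹ = b (0, 1, 0, 0) := hρ _
  have a2 : ρ * k.f e1 * ρ⁻¹ = k.f e2 := by rw [hk.f1, hk.f2]; exact hρ _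
  have x6 : k.f (xz 7 6) = b (0, 0, 0, 1) := by rw [← hk.f3]; congr 1; decide +kernel
  have st : ∀ i j i' j', ρ * k.f (xz 7 i) * ρ⁻¹ = k.f (xz 7 j) →
      e1 * xz 7 i * e1⁻¹ = xz 7 i' ∧ e2 * xz 7 j * e2⁻¹ = xz 7 j' →
      ρ * k.f (xz 7 i') * ρ⁻¹ = k.f (xz 7 j') := fun i j i' j' e e' => by
    rw [← e'.1, ← e'.2, k.conj m1 (mx _), k.conj m2 (mx _), ← a2, ← e]; group
  have r1 := st 0 3 1 4 r0 (by decide +kernel)
  have r2 := st 1 4 2 5 r1 (by decide +kernel)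
  have rr : ∀ x, ρ * (ρ * x * ρ⁻¹) * ρ⁻¹ = ρ⁻¹ * x * ρ := fun x => by
    calc _ = ρ * ρ * x * (ρ * ρ)⁻¹ := by group
      _ = _ := by
        rw [eq_inv_of_mul_eq_one_left (show ρ * ρ * ρ = 1 by rw [← r3]; simp [pow_succ]), inv_inv]
  let y : Fin 7 → G := fun i => k.f (xz 7 i)
  let Y : Fin 10 → G := ![ρ⁻¹ * y 0 * ρ, ρ⁻¹ * y 1 * ρ, ρ⁻¹ * y 2 * ρ, y 0, y 1, y 2, y 3, y 4, y 5,
    y 6]
  have hY : ∀ a : Fin 7, Y (a.addNat 3) = y a := fun a => by fin_cases a <;> rfl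
  have hs : ∀ i, ρ * Y i * ρ⁻¹ = Y (sgB i) := fun i => by
    fin_cases i
    exacts [show ρ * (ρ⁻¹ * y 0 * ρ) * ρ⁻¹ = y 0 by group,
      show ρ * (ρ⁻¹ * y 1 * ρ) * ρ⁻¹ = y 1 by group, show ρ * (ρ⁻¹ * y 2 * ρ) * ρ⁻¹ = y 2 by group,
      r0, r1, r2, (congrArg (ρ * · * ρ⁻¹) r0.symm).trans (rr _),
      (congrArg (ρ * · * ρ⁻¹) r1.symm).trans (rr _), (congrArg (ρ * · * ρ⁻¹) r2.symm).trans (rr _),
      show ρ * k.f (xz 7 6) * ρ⁻¹ = k.f (xz 7 6) by rw [x6]; exact hρ _]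
  have y3 : ∀ i, y i ^ 3 = 1 := fun i => (k.pow_eq_one_iff (mx i) 3).2 (by revert i; decide +kernel)
  have dn : ∀ i j, (Y (sgB i) * Y (sgB j)) ^ 2 = 1 → (Y i * Y j) ^ 2 = 1 := fun i j e => by
    rwa [← hs, ← hs, conj_mul, conj_pow, conj_eq_one_iff] at e
  obtain ⟨m, mS, mY⟩ := carmF (n := 10) (by norm_num) Y (fun i => by
      have c : ∀ i, (ρ⁻¹ * y i * ρ) ^ 3 = 1 := fun i => by
        simpa using conj_cube (g := ρ⁻¹) (y3 i)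
      fin_cases i
      exacts [c 0, c 1, c 2, y3 0, y3 1, y3 2, y3 3, y3 4, y3 5, y3 6])
    (fun i j hij => by
      obtain ⟨a, c, ac, e⟩ := sgB_pair i j hij
      have : (Y (a.addNat 3) * Y (c.addNat 3)) ^ 2 = 1 := by
        rw [hY, hY, ← k.mul (mx a) (mx c), k.pow_eq_one_iff (mul_mem (mx a) (mx c))]
        clear * - ac; revert a c; decide +kernel
      rcases e with e | e | e <;> rw [← e.1, ← e.2] at this
      exacts [this, dn _ _ this, dn _ _ (dn _ _ this)])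
    (i := 9) (x6.trans_ne (h.ne (by decide)))
  have w1 := wrd hk.S 0 1 2
  have w2 := wrd hk.S 3 4 5
  have v0 := wrd mS 0 1 2
  have v1 := wrd mS 3 4 5
  have v2 := wrd mS 6 7 8
  rw [show (xz 7 2)⁻¹ * (xz 7 1)⁻¹ * xz 7 0 * xz 7 1 * xz 7 2 = e1 by decide +kernel, hk.f1] at w1
  rw [show (xz 7 5)⁻¹ * (xz 7 4)⁻¹ * xz 7 3 * xz 7 4 * xz 7 5 = e2 by decide +kernel, hk.f2] at w2
  simp only [mY] at v0 v1 v2
  have f0 : m.f (ee 0) = b (1, 0, 0, 0) := by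
    refine ((congrArg m.f (by decide +kernel)).trans v0).trans ?_
    change (ρ⁻¹ * y 2 * ρ)⁻¹ * (ρ⁻¹ * y 1 * ρ)⁻¹ * (ρ⁻¹ * y 0 * ρ) * (ρ⁻¹ * y 1 * ρ) *
      (ρ⁻¹ * y 2 * ρ) = _
    calc _ = ρ⁻¹ * ((y 2)⁻¹ * (y 1)⁻¹ * y 0 * y 1 * y 2) * ρ := by group
      _ = _ := by rw [← w1, ← a1]; group
  have f1 : m.f (ee 3) = b (0, 1, 0, 0) :=
    ((congrArg m.f (by decide +kernel)).trans v1).trans w1.symm
  have f2 : m.f (ee 6) = b (0, 0, 1, 0) :=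
    ((congrArg m.f (by decide +kernel)).trans v2).trans w2.symm
  have f3 : m.f (ee 9) = b (0, 0, 0, 1) :=
    ((congrArg m.f (by decide +kernel)).trans (mY 9)).trans x6
  have me : ∀ i ∈ ([0, 3, 6, 9] : List (Fin 12)), ee i ∈ m.S := fun i hi =>
    mS.2 (by revert i; decide +kernel)
  have e0 := me 0 (by simp)
  have e3 := me 3 (by simp)
  have e6 := me 6 (by simp)
  have e9 := me 9 (by simp)
  refine ⟨m, mS, fun g hg => ?_, ?_⟩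
  · rw [f0] at hg
    obtain ⟨i, hi⟩ := hk.sp.dec g hg
    obtain ⟨p, hp, e⟩ := k.mem_range.1 hi
    obtain ⟨q, hq, rfl⟩ := genF (n := 7) (F := (m.range.comap k.hom).map k.S.subtype) (fun a =>
      ⟨⟨_, mx a⟩, show y a ∈ m.range from hY a ▸ mY _ ▸ m.f_mem (mS.2 (sign_xz _ _)), rfl⟩)
      (hk.S.1 hp)
    exact (mul_mem_cancel_right (pow_mem (f0 ▸ m.f_mem e0) i)).1 (e ▸ hq)
  · convert h using 2 with u
    rw [jj, m.mul (mul_mem (mul_mem (pw_mem e0 _) (pw_mem e3 _)) (pw_mem e6 _)) (pw_mem e9 _),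
      m.mul (mul_mem (pw_mem e0 _) (pw_mem e3 _)) (pw_mem e6 _), m.mul (pw_mem e0 _) (pw_mem e3 _)]
    simp only [pw, m.pow e0, m.pow e3, m.pow e6, m.pow e9, f0, f1, f2, f3, ← h.ah.nsmul, ← h.add]
    congr 1
    revert u; decide +kernel

end H54.T3
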