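import Cfsg.Agent.Lib.HN3.Defs

/-! The `3`-local characterisation of `HN`: the centraliser `3 × A₉`. -/

set_option autoImplicit false
set_option synthInstance.maxSize 1024

namespace H54.T3

open Subgroup H20.L43 H58.SE H53.Odd
open H58.N9 (W act mw Hn Spl md_J z1 z2)

theorem am_mul : ∀ w w', am (mw w w') = am w * am w' := by decide +kernel

theorem am_zero : am 0 = 1 := by decide +kernel

theorem am_v : ∀ w k u, mv (am w) (k, u) = (k, act w u) := by decide +kernel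

theorem am_wd : ∀ w, ∃ l ∈ [[], [0, 0, 2, 1, 2, 2, 1, 0], [1, 0, 0, 2, 1, 0, 2, 1, 1],
    [0, 1, 0, 0, 2, 2, 1, 0, 0], [0, 2, 1, 0, 1, 1, 2, 1], [0, 2, 2, 1, 0, 0, 1, 2],
    [0, 2, 1, 0, 2, 1, 1, 1, 2], [0, 2, 2, 1, 0, 0, 2, 2, 1], [0, 1, 0, 1, 1, 2, 1, 0, 0],
    [0, 0, 1, 0, 2, 2, 1, 2, 2], [1, 2, 1, 2, 1, 1], [0, 1, 2, 1, 0, 0], [1, 0, 2, 1, 2, 1, 1, 0],
    [1, 0, 1, 0], [0, 2, 1, 0, 1, 2, 1, 1], [2, 1, 0, 2, 2, 1, 0], [0, 1, 2, 1, 0, 1, 0, 1],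
    [2, 2, 1, 0, 2, 1, 0], [0, 0, 1, 2, 1, 0, 1, 0, 1, 2], [1, 0, 0, 2, 2, 1, 0, 0, 2],
    [1, 1, 1, 2, 1, 2], [1, 1, 1, 0, 1, 2, 1, 0, 0, 1], [2, 1, 0, 0, 1, 0, 2, 1, 1],
    [0, 0, 1, 0, 2, 1, 2]], wd l = am w := by decide +kernel

theorem am_inv : ∀ w, ∃ w', am w * am w' = 1 := by decide +kernel

theorem am_q8 : ∀ w w', am w * am w = am w' * am w' →
    am w * am w = am w * am w' * (am w * am w') → am w * am w = 1 := by decide +kernel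

theorem act_inj : ∀ w w', act w (1, 0, 0) = act w' (1, 0, 0) → act w (0, 1, 0) = act w' (0, 1, 0) →
    w = w' := by decide +kernel

theorem am_e : ∀ w, mv (am w) (1, 0, 0, 0) = (1, 0, 0, 0) := by decide +kernel

theorem nn : ∀ c : V4, -(c + c) = c := by decide +kernel

theorem mv_mo : ∀ u, mv (-1) u = -u := by decide +kernel

variable {G : Type*} [Group G] {b : V4 → G} {s g k : G} {m n : M4}

/-- the realisation commuting with `s` -/
def La (b : V4 → G) (s g : G) (m : M4) : Prop := Rl b g m ∧ g * s = s * g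

theorem La.mul (h : La b s g m) (h' : La b s k n) : La b s (g * k) (m * n) :=
  ⟨h.1.mul h'.1, by rw [mul_assoc, h'.2, ← mul_assoc, h.2, mul_assoc]⟩

theorem la_one : La b s 1 1 := ⟨rl_one, by simp⟩

/-- the normaliser of `J` in the centraliser of `b₁` -/
def Nb (b : V4 → G) : Subgroup G where
  carrier := {g | ∃ w, Rl b g (am w)}
  one_mem' := ⟨0, am_zero ▸ rl_one⟩
  mul_mem' := by rintro _ _ ⟨w, h⟩ ⟨w', h'⟩; exact ⟨mw w w', am_mul w w' ▸ h.mul h'⟩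
  inv_mem' := by
    rintro _ ⟨w, h⟩
    obtain ⟨w', e⟩ := am_inv w
    exact ⟨w', h.inv e⟩

theorem force_eq_B1 : True := by
  have := @La.eq_1.{0}
  have := @Nb.eq_1.{0}
  trivial

theorem Rl.cm (h : Rl b g m) {u : V4} (e : mv m u = u) : g * b u = b u * g := by
  rw [← mul_inv_eq_iff_eq_mul, h, e]

theorem Nb_le : Nb b ≤ Ce (b (1, 0, 0, 0)) := fun _ ⟨w, h⟩ =>
  mem_Ce.2 (h.cm (am_e w))

namespace Fr

variable (h : Fr b)
include h

theorem ah : AH b := h.add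

theorem injv : Function.Injective b := h.ah.inj h.inj

theorem cm (u v : V4) : b u * b v = b v * b u := by rw [← h.add, ← h.add, add_comm]

theorem cube (u : V4) : b u ^ 3 = 1 := by
  rw [← h.ah.nsmul, show 3 • u = 0 by revert u; decide +kernel, h.ah.zero]

theorem ne {u : V4} (hu : u ≠ 0) : b u ≠ 1 := fun e => hu (h.inj u e)

theorem pwb (u : V4) (k : ZMod 3) : pw (b u) k = b (k • u) := by
  rw [pw, ← h.ah.nsmul, show k.val • u = k • u by revert k u; decide +kernel]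

theorem bz : g ∈ zpowers (b (1, 0, 0, 0)) ↔ ∃ k, b (k, 0, 0, 0) = g := by
  simp [mem_zp (h.cube _), h.pwb]

theorem rlJ (u : V4) : Rl b (b u) 1 := fun v => by rw [h.cm, mv_one, mul_inv_cancel_right]

theorem bN (u : V4) : b u ∈ Nb b := ⟨0, am_zero ▸ h.rlJ u⟩

theorem bC (u v : V4) : b u ∈ Ce (b v) := mem_Ce.2 (h.cm u v)

theorem uniq (h1 : Rl b g m) (h2 : Rl b g n) : m = n :=
  mv_ext fun u => h.injv ((h1 u).symm.trans (h2 u))

theorem dif (h1 : Rl b g m) (h2 : Rl b k m) : ∃ u, k = g * b u := by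
  obtain ⟨u, e⟩ := h.cJ (g⁻¹ * k) fun u => by
    rw [mv_one]
    calc _ = g⁻¹ * (k * b u * k⁻¹) * g := by group
      _ = _ := by rw [h2, ← h1]; group
  exact ⟨u, by rw [e]; group⟩

theorem la_ex (hs : Rl b s (-1)) (hg : Rl b g m) : ∃ k, La b s k m := by
  obtain ⟨c, e⟩ := h.dif (g := g * s) (k := s * g) (hg.mul hs) (by simpa using hs.mul hg)
  have e1 := hs (c + c)
  rw [mv_mo, nn, h.add, mul_inv_eq_iff_eq_mul] at e1
  refine ⟨g * b c, by simpa using hg.mul (h.rlJ c), ?_⟩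
  rw [← mul_assoc, e, mul_assoc, ← e1]; group

theorem la_eq (hs : Rl b s (-1)) (h1 : La b s g m) (h2 : La b s k m) : g = k := by
  obtain ⟨u, rfl⟩ := h.dif h1.1 h2.1
  have e := hs u
  have e2 : s * b u = b u * s := by
    have := h2.2
    rw [← mul_assoc s, ← h1.2, mul_assoc, mul_assoc] at this
    exact (mul_left_cancel this).symm
  rw [e2, mul_inv_cancel_right, mv_mo] at e
  rw [(by decide +kernel : ∀ u : V4, u = -u → u = 0) u (h.injv e), h.ah.zero, mul_one]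

theorem la_wd (hs : Rl b s (-1)) (l : List (Fin 3)) : ∃ k, La b s k (wd l) :=
  (h.gen l).elim fun _ hg => h.la_ex hs hg

theorem la_am (hs : Rl b s (-1)) (w : W) : ∃ k, La b s k (am w) := by
  obtain ⟨l, -, e⟩ := am_wd w
  exact e ▸ h.la_wd hs l

variable {L : W → G}

theorem dec (hL : ∀ w, La b s (L w) (am w)) (hg : g ∈ Nb b) : ∃ u w, b u * L w = g := by
  obtain ⟨w, hw⟩ := hg
  obtain ⟨u, rfl⟩ := h.dif (hL w).1 hw
  exact ⟨_, w, by rw [← (hL w).1 u]; group⟩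

theorem not_top : ¬ Ce (b (1, 0, 0, 0)) ≤ Nb b := by
  intro hC
  obtain ⟨s, f, hs, hf, fs, fc⟩ := h.fA
  obtain ⟨c, rfl⟩ := isConj_iff.1 fc
  obtain ⟨i, hi⟩ := h.la_wd hs [1, 0, 1, 2, 1, 1]
  obtain ⟨j, hj⟩ := h.la_wd hs [1, 1, 1, 0, 1, 2]
  have key : ∀ {i m}, La b s i m → m * mU = mU * m → ∃ w, Rl b (c⁻¹ * i * c) (am w) :=
    fun {i m} hi e => hC (mem_Ce.2 (by
      have := h.la_eq hs (hi.mul ⟨hf, fs⟩) (e ▸ La.mul ⟨hf, fs⟩ hi)
      calc _ = c⁻¹ * (i * (c * b (1, 0, 0, 0) * c⁻¹)) * c := by group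
        _ = _ := by rw [this]; group))
  obtain ⟨w, hw⟩ := key hi (by decide +kernel)
  obtain ⟨w', hw'⟩ := key hj (by decide +kernel)
  have ss : La b s s (-1) := ⟨hs, rfl⟩
  have e1 : i * i = s := h.la_eq hs (hi.mul hi) (by convert ss; decide +kernel)
  have e2 : j * j = s := h.la_eq hs (hj.mul hj) (by convert ss; decide +kernel)
  have e3 : i * j * (i * j) = s :=
    h.la_eq hs ((hi.mul hj).mul (hi.mul hj)) (by convert ss; decide +kernel)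
  have e4 : s * s = 1 := h.la_eq hs (ss.mul ss) (by simpa using la_one)
  have r1 := hw.mul hw
  have r2 := hw'.mul hw'
  have r3 := (hw.mul hw').mul (hw.mul hw')
  rw [show c⁻¹ * i * c * (c⁻¹ * i * c) = c⁻¹ * s * c by rw [← e1]; group] at r1
  rw [show c⁻¹ * j * c * (c⁻¹ * j * c) = c⁻¹ * s * c by rw [← e2]; group] at r2
  rw [show c⁻¹ * i * c * (c⁻¹ * j * c) * (c⁻¹ * i * c * (c⁻¹ * j * c)) = c⁻¹ * s * c by
    rw [← e3]; group] at r3
  obtain ⟨u, hu⟩ := h.cJ _ (am_q8 w w' (h.uniq r1 r2) (h.uniq r1 r3) ▸ r1)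
  have h3 := h.cube u
  have : s = 1 := by
    have : s ^ 3 = 1 := by simpa [hu, mul_assoc] using conj_cube (g := c) h3
    rwa [pow_succ, sq, e4, one_mul] at this
  exact absurd (h.uniq hs (this ▸ rl_one)) (by decide +kernel)

variable [Finite G]

theorem hn (hs : Rl b s (-1)) (hL : ∀ w, La b s (L w) (am w)) :
    Hn (im (b (1, 0, 0, 0)) (Nb b))
      fun p => pr (b (1, 0, 0, 0)) (b (0, p.1)) * pr (b (1, 0, 0, 0)) (L p.2) := by
  have LC : ∀ w, L w ∈ Ce (b (1, 0, 0, 0)) := fun w => Nb_le ⟨w, (hL w).1⟩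
  have L0 : L 0 = 1 := h.la_eq hs (hL 0) (am_zero ▸ la_one)
  have sp : ∀ k u, pr (b (1, 0, 0, 0)) (b (k, u)) = pr (b (1, 0, 0, 0)) (b (0, u)) := fun k u =>
    (pr_eq_iff (h.bC _ _) (h.bC _ _)).2 (h.bz.2 ⟨-k, by rw [← h.ah.sub]; simp; rfl⟩)
  have M : Mdl (im (b (1, 0, 0, 0)) (Nb b)) H58.N9.mul
      fun p => pr (b (1, 0, 0, 0)) (b (0, p.1)) * pr (b (1, 0, 0, 0)) (L p.2) := by
    refine mdl_sd (f := fun u => pr (b (1, 0, 0, 0)) (b (0, u)))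
      (s := fun w => pr (b (1, 0, 0, 0)) (L w)) (fun u v => ?_) (fun u v e => ?_) (fun w w' => ?_)
      (fun w u => ?_) (fun w w' e => act_inj w w' (e _) (e _)) fun γ => ⟨fun hγ => ?_, ?_⟩
    · rw [← pr_mul (h.bC _ _) (h.bC _ _), ← h.add]; rfl
    · obtain ⟨k, hk⟩ := h.bz.1 ((pr_eq_iff (h.bC _ _) (h.bC _ _)).1 e)
      rw [← h.ah.sub] at hk
      exact neg_add_eq_zero.1 (congrArg Prod.snd (h.injv hk)).symm
    · rw [← pr_mul (LC _) (LC _), h.la_eq hs (hL _) (am_mul w w' ▸ (hL w).mul (hL w'))]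
    · rw [pr_conj (LC _) (h.bC _ _), (hL w).1, am_v]
    · obtain ⟨g, hg, -, rfl⟩ := mem_im.1 hγ
      obtain ⟨⟨k, u⟩, w, rfl⟩ := h.dec hL hg
      exact ⟨u, w, by rw [pr_mul (h.bC _ _) (LC _), sp k]⟩
    · rintro ⟨u, w, rfl⟩
      exact mul_mem (mem_im.2 ⟨_, h.bN _, h.bC _ _, rfl⟩) (mem_im.2 ⟨_, ⟨w, (hL w).1⟩, LC _, rfl⟩)
  refine ⟨M, fun γ hγ => ?_, fun u hu X hX hc hn => ?_⟩
  · obtain ⟨g, hg, rfl⟩ := pr_surj γ
    refine mem_im.2 ⟨g, h.st g (mem_Ce.1 hg) fun ⟨k, u⟩ => ?_, hg, rfl⟩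
    obtain ⟨v, e⟩ := md_J M hγ u
    simp only [L0, pr_one, mul_one] at e
    rw [← sp k, pr_conj hg (h.bC _ _), eq_comm,
      pr_eq_iff (h.bC _ _) (mul_mem (mul_mem hg (h.bC _ _)) (inv_mem hg)), h.bz] at e
    obtain ⟨l, e⟩ := e
    exact ⟨(0, v) + (l, 0, 0, 0), by rw [h.add, e, mul_inv_cancel_left]⟩
  · refine sig_quot (Y := Set.range b) (by rintro _ ⟨v, rfl⟩; exact h.bC _ _)
      (fun U hU hU' => h.sig U hU fun v => hU' _ ⟨v, rfl⟩) (h.cube _) hc ?_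
    rintro _ ⟨v, rfl⟩ x hx
    refine (mem_normalizer_iff.1 (hn (mem_centralizer_singleton_iff.2 ?_)) x).1 hx
    simp only [L0, pr_one, mul_one]
    rw [← pr_mul (h.bC _ _) (h.bC _ _), h.cm, pr_mul (h.bC _ _) (h.bC _ _)]

theorem spl (hs : Rl b s (-1)) (hL : ∀ w, La b s (L w) (am w))
    (hi : ¬ 3 ∣ ((Nb b).subgroupOf (Ce (b (1, 0, 0, 0)))).index) : ∃ K, Spl K (b (1, 0, 0, 0)) := by
  let C : Subgroup G := Ce (b (1, 0, 0, 0))
  choose ψ ω hψ using fun x : (Nb b).subgroupOf C => h.dec hL (show (x.1 : G) ∈ Nb b from x.2)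
  have un : ∀ x u w, b u * L w = x.1 → ψ x = u := fun x u w e => by
    have k : ∀ u w, s * (b u * L w) * s⁻¹ * (b u * L w)⁻¹ = b u := fun u w => by
      calc _ = s * b u * s⁻¹ * (s * L w * s⁻¹ * (L w)⁻¹) * (b u)⁻¹ := by group
        _ = _ := by
          rw [← (hL w).2, hs, mv_mo, mul_inv_cancel_right, mul_inv_cancel, mul_one, ← h.ah.neg,
            ← h.add, ← neg_add, nn]
    exact h.injv (by rw [← k _ (ω x), hψ, ← e, k])
  let τ := MonoidHom.transfer (H := (Nb b).subgroupOf C) (MonoidHom.mk'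
    (fun x => Multiplicative.ofAdd (ψ x).1) fun x y => by
      rw [un (x * y) (ψ x + mv (am (ω x)) (ψ y)) (mw (ω x) (ω y)) (by
        rw [h.la_eq hs (hL _) (am_mul _ _ ▸ (hL (ω x)).mul (hL (ω y))), h.add, ← (hL _).1]
        change _ = (x.1 : G) * y.1
        rw [← hψ, ← hψ]; group), ← ofAdd_add]
      congr 1
      rw [show ψ y = ((ψ y).1, (ψ y).2) from rfl, am_v]; rfl)
  let j : C := ⟨b (1, 0, 0, 0), mem_Ce.2 rfl⟩
  have hj : τ j ≠ 1 := by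
    have key : ∀ (k : ℕ) (g : C), g⁻¹ * j ^ k * g ∈ (Nb b).subgroupOf C →
        g⁻¹ * j ^ k * g = j ^ k := fun k g _ => by
      rw [mul_assoc, ← ((show Commute g j from Subtype.ext (mem_Ce.1 g.2)).pow_right k).eq]; simp
    rw [MonoidHom.transfer_eq_pow _ j key, MonoidHom.mk'_apply, Ne, ofAdd_eq_one,
      un _ (((Nb b).subgroupOf C).index • (1, 0, 0, 0)) 0 (by
        rw [h.la_eq hs (hL 0) (am_zero ▸ la_one), mul_one, h.ah.nsmul]; rfl)]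
    simpa [ZMod.natCast_eq_zero_iff] using hi
  have hm : ∀ c : C, τ c = 1 → (c : G) ∈ τ.ker.map C.subtype := fun c hc => ⟨c, hc, rfl⟩
  refine ⟨τ.ker.map C.subtype, map_subtype_le _, fun ⟨c, hc, e⟩ => hj ?_, fun g hg => ?_,
    fun g n hg hn hc => hm ⟨g, mem_Ce.2 hg⟩ ?_, fun g g' hg hg' => hm
      (⟨g, mem_Ce.2 hg⟩ * ⟨g', mem_Ce.2 hg'⟩ * (⟨g, mem_Ce.2 hg⟩)⁻¹ * (⟨g', mem_Ce.2 hg'⟩)⁻¹)
      (by simp only [map_mul, map_inv]; simp)⟩
  · rwa [← show c = j from Subtype.ext e]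
  · obtain ⟨i, hi⟩ : ∃ i : Fin 3, τ ⟨g, mem_Ce.2 hg⟩ * τ j ^ i.val = 1 := z1 _ hj _
    exact ⟨i, hm (⟨g, mem_Ce.2 hg⟩ * j ^ i.val) (by simpa using hi)⟩
  · have h1 : τ ⟨g, mem_Ce.2 hg⟩ ^ n = 1 := by
      rw [← map_pow, show (⟨g, mem_Ce.2 hg⟩ : C) ^ n = 1 from Subtype.ext hn, map_one]
    have h2 : τ ⟨g, mem_Ce.2 hg⟩ ^ 3 = 1 := z2 _
    simpa [hc.gcd_eq_one] using pow_gcd_eq_one.2 ⟨h1, h2⟩

/-- `C(b₁) = ⟨b₁⟩ × A₉` -/
theorem cent (hs : Rl b s (-1)) (hL : ∀ w, La b s (L w) (am w)) :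
    ∃ K, Spl K (b (1, 0, 0, 0)) ∧ Nonempty (K ≃* alternatingGroup (Fin 9)) := by
  have H := h.hn hs hL
  obtain e | ⟨⟨e⟩⟩ := H.main
  · exact absurd (fun g hg => (pr_mem_im (h.bN _) hg).1 (e ▸ mem_top _)) h.not_top
  obtain ⟨K, hK⟩ := h.spl hs hL (by
    have e1 : (Nb b).subgroupOf (Ce (b (1, 0, 0, 0))) =
        (im (b (1, 0, 0, 0)) (Nb b)).comap (QuotientGroup.mk' _) := by
      ext g
      rw [mem_subgroupOf, ← pr_mem_im (h.bN (1, 0, 0, 0)) g.2, pr_eq g.2]; rfl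
    have e2 := (im (b (1, 0, 0, 0)) (Nb b)).index_mul_card
    rw [H.toMdl.card, Nat.card_congr e.toEquiv, nat_card_alternatingGroup] at e2
    rw [e1, index_comap_of_surjective _ (QuotientGroup.mk'_surjective _)]
    simp [Nat.factorial] at e2
    omega)
  let f : K →* Ga (b (1, 0, 0, 0)) :=
    MonoidHom.mk' (fun g => pr (b (1, 0, 0, 0)) g) fun g k => pr_mul (hK.le g.2) (hK.le k.2)
  refine ⟨K, hK, ⟨(MulEquiv.ofBijective f ⟨(injective_iff_map_eq_one f).2 fun g hg => ?_,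
    fun γ => ?_⟩).trans e⟩⟩
  · obtain ⟨k, hk⟩ := (mem_zp (h.cube _)).1 ((pr_eq_one (hK.le g.2)).1 hg)
    rcases zm3 k with rfl | rfl | rfl
    · exact Subtype.ext (by simpa using hk.symm)
    · exact absurd (by simpa [← hk] using g.2) hK.nm
    · exact absurd (by simpa [← hk, pw_neg_one (h.cube _)] using g.2) hK.nm
  · obtain ⟨g, hg, rfl⟩ := pr_surj γ
    obtain ⟨i, hi⟩ := hK.dec g (mem_Ce.1 hg)
    exact ⟨⟨_, hi⟩, ((pr_eq_iff hg (hK.le hi)).2 (by simp)).symm⟩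

end Fr

end H54.T3
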