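import Cfsg.Agent.Lib.HN3.Defs

/-! Computations in `A₁₂`. -/

set_option autoImplicit false
set_option maxRecDepth 100000
set_option synthInstance.maxSize 100000
set_option synthInstance.maxHeartbeats 400000

namespace H54.T3

open Equiv Equiv.Perm H58.Cd H20.L43

/-- the alternating group -/
abbrev AA := alternatingGroup (Fin 12)

theorem ev {p : P12} (h : invs 12 (code p) % 2 = 0) : p ∈ AA := mem_alternatingGroup.2 (sign_eq_one.2 h)

/-- codes -/
def cd (p : AA) : ℕ := code p.1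

theorem cd_mul (p q : AA) : cd (p * q) = cm 12 (cd p) (cd q) := code_mul _ _
theorem cd_inv (p : AA) : cd p⁻¹ = ci 12 (cd p) := code_inv _
theorem cd_pow (p : AA) (n : ℕ) : cd (p ^ n) = cp 12 (cd p) n := code_pow p.1 n
theorem cd_eq {p q : AA} : p = q ↔ cd p = cd q := Subtype.ext_iff.trans code_inj.symm

def tt : AA := ⟨swap 0 1 * swap 3 4 * swap 6 7 * swap 9 10, ev (by decide +kernel)⟩
def a1 : AA := ⟨swap 2 5 * swap 5 8, ev (by decide +kernel)⟩
def a2 : AA := ⟨swap 0 3 * swap 3 6 * (swap 1 4 * swap 4 7), ev (by decide +kernel)⟩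
def sg : AA := ⟨swap 0 3 * swap 1 4, ev (by decide +kernel)⟩
def sp : AA := ⟨swap 9 10 * swap 2 5, ev (by decide +kernel)⟩
def x0 : AA := ⟨swap 0 3 * swap 1 4 * swap 6 9 * swap 7 10, ev (by decide +kernel)⟩
def x1 : AA := ⟨swap 0 9 * swap 1 10 * swap 3 6 * swap 4 7, ev (by decide +kernel)⟩
def x2 : AA := ⟨swap 0 3 * swap 1 4 * swap 6 10 * swap 7 9, ev (by decide +kernel)⟩
def x3 : AA := ⟨swap 0 6 * swap 1 7 * swap 3 10 * swap 4 9, ev (by decide +kernel)⟩
def v0 : AA := ⟨swap 2 5 * swap 8 11, ev (by decide +kernel)⟩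
def p0 : AA := ⟨swap 0 1 * swap 3 4, ev (by decide +kernel)⟩
def gd : AA := ⟨swap 1 3 * swap 7 9, ev (by decide +kernel)⟩
def r1 : AA := ⟨swap 0 3 * swap 3 1 * swap 1 4 * swap 2 5 * (swap 6 9 * swap 9 7 * swap 7 10) * swap 8 11, ev (by decide +kernel)⟩
def r2 : AA := ⟨swap 0 3 * swap 3 1 * swap 1 4 * swap 2 5 * (swap 6 10 * swap 10 7 * swap 7 9) * swap 8 11, ev (by decide +kernel)⟩

/-- products of five elements -/
def pr5 {H : Type*} [Monoid H] (p q r s t : H) (n : ℕ) : H :=
  p ^ (n % 2) * q ^ (n / 2 % 2) * r ^ (n / 4 % 2) * s ^ (n / 8 % 2) * t ^ (n / 16 % 2)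

/-- the group `2^{1+4}` -/
def ww (k : ℕ) : AA := pr5 x0 x1 x2 x3 tt k

/-- coset representatives -/
def rr (r : ℕ) : AA := a1 ^ (r % 3) * a2 ^ (r / 3 % 3) * sg ^ (r / 9)

def tb (T k : ℕ) : ℕ := Nat.land (Nat.shiftRight T (Nat.mul 48 k)) 281474976710655

def WW : ℕ := 0xb7689a501243ba9867534210b4380159a276b108345672a9ba9867543201b7689a510234b1083457629ab438015a9267b1084356729ab4381059a267ba9876534201b768a9501234b3480159a267b0183456729ab6789a501234b9a867534201b678a9510234b9a876543201b348105a9267b0184357629ab9a876534210b678a9501243b018435672a9b3481059a276b018345762a9b348015a9276b9a867543210b6789a510243b438105a9276b108435762a9b768a9510243ba9876543210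

def RR : ℕ := 0xba9543276810ba9243876510ba9843576210ba9510243876ba9210843576ba9810543276ba9576210843ba9276810543ba9876510243ba9543210876ba9243810576ba9843510276ba9510276843ba9210876543ba9810576243ba9576243810ba9276843510ba9876543210

theorem ctt : cd tt = 204132939153921 := by decide +kernel
theorem ca1 : cd a1 = 205138216367376 := by decide +kernel
theorem ca2 : cd a2 = 205162271957571 := by decide +kernel
theorem csg : cd sg = 205163982815811 := by decide +kernel
theorem csp : cd sp = 204133187728656 := by decide +kernel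
theorem cx0 : cd x0 = 201660145140291 := by decide +kernel
theorem cx1 : cd x1 = 194649047655081 := by decide +kernel
theorem cx2 : cd x2 = 200629101331011 := by decide +kernel
theorem cx3 : cd x3 = 197122093326966 := by decide +kernel
theorem cv0 : cd v0 = 152400306648336 := by decide +kernel
theorem cp0 : cd p0 = 205163982963201 := by decide +kernel
theorem cgd : cd gd = 205027080933936 := by decide +kernel
theorem cr1 : cd r1 = 147865676551491 := by decide +kernel
theorem cr2 : cd r2 = 148896217044291 := by decide +kernel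
theorem c1 : cd 1 = 205163983024656 := by decide +kernel

theorem cww : ∀ k < 32, cd (ww k) = tb WW k := by
  simp only [ww, pr5, cd_mul, cd_pow, ctt, cx0, cx1, cx2, cx3]
  decide +kernel

theorem crr : ∀ r < 18, cd (rr r) = tb RR r := by
  simp only [rr, cd_mul, cd_pow, ca1, ca2, csg]
  decide +kernel

def okl (L : List (ℕ × ℕ)) (c k : ℕ) : Bool :=
  L.all fun p => Nat.blt k (ap p.1 k) || Nat.beq (ap c (ap p.1 k)) (ap p.2 (ap c k))

theorem fcl {L : List (ℕ × ℕ)} {P : ℕ → Prop} [DecidablePred P]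
    (h : dfs 12 (okl L) (fun c => decide (P c)) 12 0 0 = true) {q : P12}
    (hq : ∀ p ∈ L, ∃ a b : P12, code a = p.1 ∧ code b = p.2 ∧ q * a = b * q) : P (code q) :=
  of_decide_eq_true (dfs_sound h q fun k hk => List.all_eq_true.2 fun p hp => by
    obtain ⟨a, b, e1, e2, e⟩ := hq p hp
    have h1 := ap_code a ⟨k, hk⟩
    simp only at h1
    rw [← e1, ← e2, Bool.or_eq_true, Nat.blt_eq, Nat.beq_eq, h1]
    by_cases h2 : k < (a ⟨k, hk⟩ : ℕ)
    · exact Or.inl h2
    · right
      rw [ap_pre q (by omega), ap_pre q (by omega), val_fin,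
        show val q k = q ⟨k, hk⟩ from val_fin q ⟨k, hk⟩, ap_code, ← mul_apply, e, mul_apply])

theorem cK1 {q : AA} (h1 : q * a1 = a1 * q) (h2 : q * tt = tt * q) :
    ∃ k < 32, ∃ r < 18, q = ww k * rr r := by
  obtain ⟨r, hr, k, hk, e⟩ := fcl (L := [(204132939153921, 204132939153921), (205151094978576, 205151094978576)])
    (P := fun c => invs 12 c % 2 = 0 → ∃ r < 18, (fun d => ∃ k < 32, d = tb WW k)
      (cm 12 c (ci 12 (tb RR r)))) (by decide +kernel) (q := q) (by
      simp only [List.forall_mem_cons, List.not_mem_nil, IsEmpty.forall_iff, implies_true, and_true]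
      exact ⟨⟨tt, tt, ctt, ctt, congrArg Subtype.val h2⟩, (a1⁻¹ : AA), (a1⁻¹ : AA), by decide +kernel,
        by decide +kernel, congrArg Subtype.val (Commute.inv_right h1).eq⟩)
    (sign_eq_one.1 (mem_alternatingGroup.1 q.2))
  change cm 12 (cd q) _ = _ at e
  rw [← crr r hr, ← cww k hk, ← cd_inv, ← cd_mul, ← cd_eq, mul_inv_eq_iff_eq_mul] at e
  exact ⟨k, hk, r, hr, e⟩

macro "pk12" : tactic => `(tactic| simp only [cd_eq, ne_eq, cd_mul, cd_pow,
  cd_inv, ctt, ca1, ca2, csg, csp, cx0, cx1, cx2, cx3, cv0, cp0, cgd, cr1, cr2, c1])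

macro "pk" : tactic => `(tactic| (pk12; decide +kernel))

theorem kf1 : ∀ k < 32, ∀ r < 18, (ww k * rr r) ^ 12 = 1 ∧
    ((ww k * rr r) ^ 4 = 1 → (ww k * rr r * (a2 * (ww k * rr r) * a2⁻¹)) ^ 4 = 1 → r = 0) ∧
    (ww k * rr r * (ww k * rr r) = tt → r = 0) := by
  intro k hk r hr
  pk12
  rw [cww k hk, crr r hr]
  revert r; revert k; decide +kernel

theorem kf2 : ∀ k < 32, ∀ r < 18, (ww k * rr r * a2 = a2 * (ww k * rr r) → k % 16 = 0 ∧ r < 9) ∧
    (ww k * rr r * x0 = x0 * (ww k * rr r) → ww k * rr r * x1 = x1 * (ww k * rr r) → k % 16 < 4 ∧ r < 3) ∧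
    (ww k * rr r * sp * x0 = x0 * (ww k * rr r * sp) → ww k * rr r * sp * x1 ≠ x1 * (ww k * rr r * sp)) ∧
    (ww k * rr r * sp * a2 = a2 * (ww k * rr r * sp) → ww k * rr r * sp * (ww k * rr r * sp) = 1 →
      k % 16 = 0 ∧ r < 3) ∧
    (ww k * rr r * sg = sg * (ww k * rr r) → ww k * rr r * (ww k * rr r) = 1 →
      ww k * rr r * (a2 * (ww k * rr r) * a2⁻¹) = a2⁻¹ * (ww k * rr r) * a2 → ww k * rr r = 1 ∨
        ww k * rr r = p0 ∨ ww k * rr r = x0 ∨ ww k * rr r = x2) := by
  intro k hk r hr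
  pk12
  rw [cww k hk, crr r hr]
  revert r; revert k; decide +kernel

theorem kmul : ∀ k < 32, ∀ l < 32, ww k * ww l = ww ((k ^^^ l) % 16) ∨ ww k * ww l = ww ((k ^^^ l) % 16) * tt := by
  intro k hk l hl
  pk12
  rw [cww k hk, cww l hl, cww _ (by omega)]
  revert l; revert k; decide +kernel

theorem kw : ∀ k < 32, ww k * tt = tt * ww k ∧ ww k * a1 = a1 * ww k ∧
    ww k * v0 = v0 * ww k ∧ (ww k = ww (k % 16) ∨ ww k = ww (k % 16) * tt) ∧
    ((∀ l < 16, ww k * ww l = ww l * ww k) → k % 16 = 0) := by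
  intro k hk
  have : ∀ l, l < 16 → cd (ww l) = tb WW l := fun l hl => cww l (by omega)
  pk12
  simp +contextual only [this]
  rw [cww k hk, cww _ (by omega)]
  revert k; decide +kernel

theorem kgen1 : ∀ k < 32, ww k * ww k = tt → ∀ l < 32, ∃ n < 32,
    ww l = pr5 (ww k) (a2 * ww k * a2⁻¹) p0 (a2 * p0 * a2⁻¹) tt n := by
  intro k hk h l hl
  revert h
  simp only [pr5]
  pk12
  rw [cww k hk, cww l hl]
  revert l; revert k; decide +kernel

theorem kgen2 : ∀ k < 32, ww k * ww k = tt → ∀ l < 32, ∃ n < 32,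
    ww l = pr5 (ww k) (a2 * ww k * a2⁻¹) (sg * ww k * sg⁻¹) (a2 * (sg * ww k * sg⁻¹) * a2⁻¹) tt n := by
  intro k hk h l hl
  revert h
  simp only [pr5]
  pk12
  rw [cww k hk, cww l hl]
  revert l; revert k; decide +kernel

end H54.T3
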