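import Cfsg.Agent.Lib.HN3.Defs

/-! Computations in `SL₂(5)`. -/

set_option autoImplicit false
set_option maxRecDepth 100000
set_option synthInstance.maxSize 100000
set_option synthInstance.maxHeartbeats 400000

namespace H54.T3

open Subgroup

def Y0 : M5 := ⟨0, 4, 1, 4⟩
def V0 : M5 := ⟨1, 1, 3, 4⟩
def J0 : M5 := ⟨0, 2, 2, 0⟩

/-- elements of the quaternion groups normalised by `Y0` -/
def Gd (V : M5) : Prop := V.det = 1 ∧ V ^ 4 = 1 ∧ (V * (Y0 * V * Y0.iv)) ^ 4 = 1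

/-- the quaternion group of `V` -/
def InQ (V X : M5) : Prop := ∃ k < 3, ∃ e < 4, X = Y0 ^ k * V ^ e * Y0.iv ^ k

instance instDecGd (V : M5) : Decidable (Gd V) := inferInstanceAs (Decidable (_ ∧ _))
instance instDecInQ (V X : M5) : Decidable (InQ V X) := inferInstanceAs (Decidable (∃ k < 3, _))

theorem force_eq_C5 : True := by
  have := @Y0.eq_1
  have := @V0.eq_1
  have := @J0.eq_1
  have := @Gd.eq_1
  have := @InQ.eq_1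
  trivial

theorem M5.det_mul (p q : M5) : (p * q).det = p.det * q.det := by
  simp only [M5.det, M5.mul_def]; ring

theorem M5.iv_det (p : M5) : p.iv.det = p.det := by simp only [M5.det, M5.iv]; ring

theorem M5.iv_mul : ∀ p : M5, p.det = 1 → p.iv * p = 1 ∧ p * p.iv = 1 := by decide +kernel

theorem m1 : ∀ Y : M5, Y.det = 1 → Y ^ 3 = 1 → Y ≠ 1 → ∃ g : M5, g.det = 1 ∧ g * Y * g.iv = Y0 := by
  decide +kernel

theorem m2 : ∀ X : M5, X.det = 1 → X ^ 3 = 1 → X ≠ 1 → ∀ V : M5, V.det = 1 → X * V = V * X → V * V ≠ mo5 := by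
  decide +kernel

theorem m7 : ∀ X : M5, X.det = 1 → X ^ 60 = 1 ∧ (X * X = 1 → X = 1 ∨ X = mo5) ∧
    (X ^ 4 = 1 → X = 1 ∨ X = mo5 ∨ (X * X = mo5 ∧ ∃ g : M5, g.det = 1 ∧ (X * (g * X * g.iv)) ^ 4 ≠ 1)) ∧
    (X ^ 5 = 1 → (X * (Y0 * X * Y0.iv)) ^ 5 = 1 → X = 1) ∧
    (X * Y0 * X.iv = Y0.iv → X * X = mo5 ∧ ∃ k < 3, ∃ e < 4, J0 = Y0 ^ k * X ^ e) := by
  decide +kernel

theorem m3 : ∀ V, Gd V → V * V = mo5 → ∀ J : M5, J.det = 1 → J * Y0 * J.iv = Y0.iv →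
    ∀ X, Gd X → InQ V X ∨ InQ V (J.iv * X * J) := by
  have h : ∀ V, Gd V → V ∈ [(⟨1, 0, 0, 1⟩ : M5), ⟨1, 1, 3, 4⟩, ⟨1, 2, 4, 4⟩, ⟨2, 0, 1, 3⟩, ⟨2, 0, 3, 3⟩,
      ⟨2, 2, 0, 3⟩, ⟨2, 4, 0, 3⟩, ⟨3, 0, 2, 2⟩, ⟨3, 0, 4, 2⟩, ⟨3, 1, 0, 2⟩, ⟨3, 3, 0, 2⟩, ⟨4, 0, 0, 4⟩,
      ⟨4, 3, 1, 1⟩, ⟨4, 4, 2, 1⟩] := by decide +kernel
  intro V hV h1 J h2 h3 X hX
  have := h X hX
  clear hX
  revert X J
  have := h V hV
  clear hV
  revert V
  decide +kernel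

theorem m4 : ∀ X : M5, X.det = 1 → ∃ e ∈ [1, J0, V0 * J0, Y0 * V0 * Y0.iv * J0, V0 * (Y0 * V0 * Y0.iv) * J0],
    ∃ i < 3, InQ V0 (Y0 ^ i * X * e) := by decide +kernel

variable {G : Type*} [Group G] {C N : Subgroup G} {π : G → M5}

theorem S5.tw (h : S5 C N π) {g : M5} (hg : g.det = 1) : S5 C N fun x => g * π x * g.iv := by
  obtain ⟨e1, e2⟩ := M5.iv_mul g hg
  refine ⟨h.le, fun x hx y hy => ?_, fun x hx => ?_, fun x hx => ?_, fun m hm => ?_⟩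
  · rw [h.pm x hx y hy, mul_assoc (g * π x), ← mul_assoc g.iv, ← mul_assoc g.iv, e1, one_mul, mul_assoc,
      mul_assoc, mul_assoc]
  · rw [M5.det_mul, M5.det_mul, M5.iv_det, hg, h.pd x hx, one_mul, one_mul]
  · rw [← h.pk x hx]
    refine ⟨fun e => ?_, fun e => by rw [e, mul_one, e2]⟩
    have := congrArg (g.iv * · * g) e
    simpa [mul_assoc, e1, ← mul_assoc g.iv g] using this
  · obtain ⟨x, hx, e⟩ := h.ps (g.iv * m * g) (by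
      rw [M5.det_mul, M5.det_mul, M5.iv_det, hg, hm, one_mul, one_mul])
    exact ⟨x, hx, by simp [e, mul_assoc, e2, ← mul_assoc g g.iv]⟩

theorem S5.gen [Finite G] (h : S5 C N π) {H : Subgroup G} (hN : N ≤ H) {y v j : G} (hy : y ∈ C) (hv : v ∈ C)
    (hj : j ∈ C) (y1 : y ∈ H) (v1 : v ∈ H) (j1 : j ∈ H) (py : π y = Y0) (pv : Gd (π v))
    (pv' : π v * π v = mo5) (pj : π j * Y0 * (π j).iv = Y0.iv) : C ≤ H := by
  let R : M5 → Prop := fun X => ∃ g ∈ C, g ∈ H ∧ π g = X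
  have mul : ∀ {X Y}, R X → R Y → R (X * Y) := by
    rintro _ _ ⟨a, a1, a2, rfl⟩ ⟨b, b1, b2, rfl⟩
    exact ⟨_, mul_mem a1 b1, mul_mem a2 b2, h.pm _ a1 _ b1⟩
  have iv : ∀ {X}, R X → R X.iv := by
    rintro _ ⟨a, a1, a2, rfl⟩
    exact ⟨_, inv_mem a1, inv_mem a2, h.inv a1⟩
  have pw : ∀ {X} (n : ℕ), R X → R (X ^ n) := by
    rintro _ n ⟨a, a1, a2, rfl⟩
    exact ⟨_, pow_mem a1 n, pow_mem a2 n, h.pow a1 n⟩
  have ry : R Y0 := ⟨y, hy, y1, py⟩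
  have rj : R (π j) := ⟨j, hj, j1, rfl⟩
  have rq : ∀ {V X}, R V → InQ V X → R X := by
    rintro V _ a ⟨k, -, e, -, rfl⟩
    exact mul (mul (pw k ry) (pw e a)) (pw k (iv ry))
  obtain ⟨e1, e2⟩ := M5.iv_mul _ (h.pd j hj)
  have rv : R V0 := by
    rcases m3 _ pv pv' _ (h.pd j hj) pj V0 (by decide +kernel) with e | e
    · exact rq ⟨v, hv, v1, rfl⟩ e
    · have := mul (mul rj (rq ⟨v, hv, v1, rfl⟩ e)) (iv rj)
      rwa [← mul_assoc, ← mul_assoc, e2, one_mul, mul_assoc, e2, mul_one] at this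
  obtain ⟨-, k, -, l, -, e⟩ := (m7 _ (h.pd j hj)).2.2.2.2 pj
  have rJ : R J0 := e ▸ mul (pw k ry) (pw l rj)
  intro g hg
  obtain ⟨e, he, i, -, q⟩ := m4 _ (h.pd g hg)
  have rw := mul (mul ry rv) (iv ry)
  obtain ⟨a, a1, a2, rfl⟩ : R e := by
    simp only [List.mem_cons, List.not_mem_nil, or_false] at he
    rcases he with rfl | rfl | rfl | rfl | rfl
    exacts [pow_zero Y0 ▸ pw 0 ry, rJ, mul rv rJ, mul rw rJ, mul (mul rv rw) rJ]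
  obtain ⟨b, b1, b2, e⟩ := rq rv q
  rw [← py, ← h.pow hy, ← h.pm _ (pow_mem hy i) _ hg, ← h.pm _ (mul_mem (pow_mem hy i) hg) _ a1] at e
  have := mul_mem (inv_mem (hN (h.eq b1 (mul_mem (mul_mem (pow_mem hy i) hg) a1) e))) b2
  rw [mul_inv_rev, inv_inv, inv_mul_cancel_right] at this
  exact (mul_mem_cancel_left (pow_mem y1 i)).1 ((mul_mem_cancel_right a2).1 this)

end H54.T3
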