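import Cfsg.Agent.Lib.HN3.C0
import Cfsg.Agent.Lib.HN3.C5

/-! The subgroup `P = 3²` of the involution centraliser. -/

set_option autoImplicit false
set_option maxRecDepth 100000
set_option synthInstance.maxSize 100000
set_option linter.unusedSectionVars false
set_option maxHeartbeats 400000

namespace H54.T3

open Equiv Equiv.Perm H58.Cd H20.L43 Subgroup H58.SE

def EE (i : Fin 12) : AA := ⟨ee i, ev (by revert i; decide +kernel)⟩

def JJ (u : V4) : AA := pw (EE 0) u.1 * pw (EE 3) u.2.1 * pw (EE 6) u.2.2.1 * pw (EE 9) u.2.2.2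

/-- the elements of `P` -/
def pp (u : ZMod 3 × ZMod 3) : AA := pw a1 u.1 * pw a2 u.2

/-- the first `3`-central element -/
def z1 : AA := a1 * a2

theorem force_eq_C1 : True := by
  have := @EE.eq_1
  have := @JJ.eq_1
  have := @pp.eq_1
  have := @z1.eq_1
  trivial

variable {G : Type*} [Group G]

/-- the working hypothesis -/
structure W0 (φ : AA →* G) : Prop where
  inj : Function.Injective φ
  c1 : ∀ g, g * φ (EE 0) = φ (EE 0) * g → ∃ p, φ p = g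
  fr : Fr fun u => φ (JJ u)

theorem Tw.w0 {m : PH P12 G} (h : Tw m) : ∃ φ : AA →* G, W0 φ := by
  have e : AA = m.S := Subgroup.ext fun p => mem_alternatingGroup.trans h.S.symm
  refine ⟨m.hom.comp (MulEquiv.subgroupCongr e).toMonoidHom,
    m.hom_injective.comp (MulEquiv.injective _), fun g hg => ?_, ?_⟩
  · obtain ⟨p, hp, rfl⟩ := m.mem_range.1 (h.c1 g hg)
    exact ⟨⟨p, e ▸ hp⟩, rfl⟩
  · convert h.fr using 2
    simp only [JJ, jj, pw]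
    rfl

theorem ic (φ : AA →* G) {p q : AA} (g : P12)
    (h : invs 12 (code g) % 2 = 0 ∧ cm 12 (code g) (cd p) = cm 12 (cd q) (code g) := by decide +kernel) :
    IsConj (φ p) (φ q) :=
  φ.map_isConj (_root_.isConj_iff.2 ⟨⟨g, ev h.1⟩, by
    rw [mul_inv_eq_iff_eq_mul, cd_eq, cd_mul, cd_mul]; exact h.2⟩)

theorem pp_add : ∀ u v, pp (u + v) = pp u * pp v := by
  simp only [pp, pw]; pk

theorem pp_sub : ∀ u, pp u ^ 3 = 1 ∧ pp u * tt = tt * pp u ∧ (pp u = 1 → u = 0) := by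
  simp only [pp, pw]; pk

theorem cjφ (φ : AA →* G) (p q : AA) : φ p * φ q * (φ p)⁻¹ = φ (p * q * p⁻¹) := by simp

theorem cmφ (φ : AA →* G) {p q : AA} (h : p * q = q * p) : φ p * φ q = φ q * φ p := by
  rw [← map_mul, h, map_mul]

/-- the subgroup `P` -/
def PP (φ : AA →* G) : Subgroup G where
  carrier := {g | ∃ u, φ (pp u) = g}
  mul_mem' := by rintro _ _ ⟨u, rfl⟩ ⟨v, rfl⟩; exact ⟨u + v, by rw [pp_add, map_mul]⟩
  one_mem' := ⟨0, by simp [pp]⟩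
  inv_mem' := by
    rintro _ ⟨u, rfl⟩
    exact ⟨-u, eq_inv_of_mul_eq_one_left (by rw [← map_mul, ← pp_add]; simp [pp])⟩

variable {φ : AA →* G}

theorem pp3 (u : ZMod 3 × ZMod 3) : φ (pp u) ^ 3 = 1 := by rw [← map_pow, (pp_sub u).1, map_one]

theorem PP3 : IsPGroup 3 (PP φ) := pg3 (n := 1) (by rintro _ ⟨u, rfl⟩; exact pp3 u)

theorem PPK : PP φ ≤ Ce (φ tt) := by rintro _ ⟨u, rfl⟩; exact mem_Ce.2 (cmφ φ (pp_sub u).2.1)

theorem a1P : φ a1 ∈ PP φ := ⟨(1, 0), by simp [pp]⟩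

theorem a2P : φ a2 ∈ PP φ := ⟨(0, 1), by simp [pp]⟩

theorem z1P : φ z1 ∈ PP φ := map_mul φ a1 a2 ▸ mul_mem a1P a2P

theorem PPc {x y : G} (hx : x ∈ PP φ) (hy : y ∈ PP φ) : x * y = y * x := by
  obtain ⟨u, rfl⟩ := hx
  obtain ⟨v, rfl⟩ := hy
  exact cmφ φ (by rw [← pp_add, add_comm, pp_add])

theorem tt2 : φ tt * φ tt = 1 := by rw [← map_mul, show tt * tt = 1 by pk, map_one]

theorem z13 : φ z1 ^ 3 = 1 := by rw [← map_pow, show z1 ^ 3 = 1 by rw [z1]; pk, map_one]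

namespace W0

variable (h : W0 φ)
include h

theorem ne {p q : AA} (e : p ≠ q) : φ p ≠ φ q := h.inj.ne e

theorem t1 : φ tt ≠ 1 := map_one φ ▸ h.ne (by pk)

theorem cA {g : G} (hg : g * φ a1 = φ a1 * g) : ∃ p, φ p = g := by
  let k : AA := ⟨swap 0 2 * swap 2 8 * swap 8 7 * swap 7 6 * swap 6 4 * swap 4 1 * swap 1 5 * swap 5 3,
    ev (by decide +kernel)⟩
  rw [show a1 = k * EE 0 * k⁻¹ by pk, ← cjφ] at hg
  obtain ⟨p, e⟩ := h.c1 ((φ k)⁻¹ * g * φ k) (by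
    calc _ = (φ k)⁻¹ * (g * (φ k * φ (EE 0) * (φ k)⁻¹)) * φ k := by group
      _ = _ := by rw [hg]; group)
  exact ⟨k * p * k⁻¹, by rw [← cjφ, e]; group⟩

theorem kA {g : G} (hg : g * φ a1 = φ a1 * g) (ht : g ∈ Ce (φ tt)) :
    ∃ k < 32, ∃ r < 18, g = φ (ww k * rr r) := by
  obtain ⟨p, rfl⟩ := h.cA hg
  obtain ⟨k, hk, r, hr, e⟩ := cK1 (q := p) (h.inj (by simpa using hg)) (h.inj (by simpa using mem_Ce.1 ht))
  exact ⟨k, hk, r, hr, e ▸ rfl⟩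

theorem kN {g : G} (hg : g * φ a1 * g⁻¹ = (φ a1)⁻¹) (ht : g ∈ Ce (φ tt)) :
    ∃ k < 32, ∃ r < 18, g = φ (ww k * rr r * sp) := by
  obtain ⟨k, hk, r, hr, e⟩ := h.kA (g := g * (φ sp)⁻¹) (by
    have e : (φ sp)⁻¹ * φ a1 * φ sp = (φ a1)⁻¹ := by
      rw [← map_inv, ← map_mul, ← map_mul, ← map_inv, show sp⁻¹ * a1 * sp = a1⁻¹ by pk]
    rw [← mul_inv_eq_iff_eq_mul, show g * (φ sp)⁻¹ * φ a1 * (g * (φ sp)⁻¹)⁻¹ =
      g * ((φ sp)⁻¹ * φ a1 * φ sp) * g⁻¹ by group, e, ← conj_inv, hg, inv_inv]) (mul_mem ht (inv_mem (mem_Ce.2 (cmφ φ (by pk)))))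
  exact ⟨k, hk, r, hr, by rw [map_mul, ← e]; group⟩

theorem cP {g : G} (h1 : g * φ a1 = φ a1 * g) (h2 : g * φ a2 = φ a2 * g) (ht : g ∈ Ce (φ tt)) :
    ∃ u, g = φ (pp u) ∨ g = φ (pp u) * φ tt := by
  obtain ⟨k, hk, r, hr, rfl⟩ := h.kA h1 ht
  obtain ⟨e1, e2⟩ := (kf2 k hk r hr).1 (h.inj (by simpa using h2))
  have : ∀ r < 9, ∃ u, rr r = pp u := by simp only [rr, pp, pw]; pk
  obtain ⟨u, e⟩ := this r e2
  refine ⟨u, ?_⟩
  rw [← map_mul, ← e]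
  rcases (show k = 0 ∨ k = 16 by omega) with rfl | rfl
  · simp [ww, pr5]
  · exact .inr (by rw [e, (pp_sub u).2.1]; simp [ww, pr5])

theorem cb {u : V4} (l : List (Fin 3)) (e : mv (wd l) (1, 0, 0, 0) = u) : IsConj (φ a1) (φ (JJ u)) := by
  obtain ⟨g, hg⟩ := h.fr.gen l
  exact (ic φ (swap 0 2 * swap 2 8 * swap 8 7 * swap 7 6 * swap 6 4 * swap 4 1 * swap 1 5 * swap 5 3)).symm.trans
    (_root_.isConj_iff.2 ⟨g, e ▸ hg _⟩)

theorem nAB : ¬ IsConj (φ a1) (φ z1) := fun e => h.fr.nc ((h.cb [] (by decide)).symm.trans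
  (e.trans (ic φ (swap 1 3 * swap 2 6 * swap 5 7 * swap 9 10)).symm))

theorem cl (u : ZMod 3 × ZMod 3) (h0 : u ≠ 0) : (u.1 * u.2 = 0 → IsConj (φ a1) (φ (pp u))) ∧
    (u.1 * u.2 ≠ 0 → IsConj (φ z1) (φ (pp u))) := by
  have e1 : IsConj (φ a1) (φ a2) := (h.cb (u := (1, 1, 0, 0)) [0, 1, 0, 0] (by decide +kernel)).trans
    (ic φ (swap 1 3 * swap 2 6 * swap 6 5 * swap 5 7))
  have key : ∀ u : ZMod 3 × ZMod 3, u ≠ 0 → ∃ g ∈ [1, sg, sp, sg * sp],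
      (u.1 * u.2 = 0 → pp u = g * a1 * g⁻¹ ∨ pp u = g * a2 * g⁻¹) ∧ (u.1 * u.2 ≠ 0 → pp u = g * z1 * g⁻¹) := by
    simp only [pp, pw, z1, List.mem_cons, List.not_mem_nil, or_false, exists_eq_or_imp, exists_eq_left]; pk
  obtain ⟨g, -, k1, k2⟩ := key u h0
  have c : ∀ p, IsConj (φ p) (φ (g * p * g⁻¹)) := fun p => φ.map_isConj (_root_.isConj_iff.2 ⟨g, rfl⟩)
  exact ⟨fun e => (k1 e).elim (fun e => e ▸ c _) fun e => e ▸ e1.trans (c _), fun e => k2 e ▸ c _⟩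

theorem pA {u : ZMod 3 × ZMod 3} (e : IsConj (φ a1) (φ (pp u))) : u ≠ 0 ∧ u.1 * u.2 = 0 := by
  have h0 : u ≠ 0 := by
    rintro rfl
    exact h.ne (p := a1) (q := 1) (by pk) (by simpa [pp] using e)
  exact ⟨h0, by_contra fun f => h.nAB (e.trans ((h.cl u h0).2 f).symm)⟩

theorem pB {u : ZMod 3 × ZMod 3} (e : IsConj (φ z1) (φ (pp u))) : u.1 * u.2 ≠ 0 := fun f => by
  by_cases h0 : u = 0
  · subst h0
    exact h.ne (p := z1) (q := 1) (by rw [z1]; pk) (by simpa [pp] using e)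
  · exact h.nAB (((h.cl u h0).1 f).trans e.symm)

theorem lin {g : G} {α β : ZMod 3 × ZMod 3} (e1 : g * φ a1 * g⁻¹ = φ (pp α))
    (e2 : g * φ a2 * g⁻¹ = φ (pp β)) (u : ZMod 3 × ZMod 3) :
    g * φ (pp u) * g⁻¹ = φ (pp (u.1 • α + u.2 • β)) := by
  have s : ∀ (k : ZMod 3) v, pp (k • v) = pw (pp v) k := by simp only [pp, pw]; pk
  have m : ∀ p k, φ (pw p k) = pw (φ p) k := fun p k => map_pow φ p _
  rw [pp_add, s, s, pp, map_mul, map_mul, m, m, m, m, ← e1, ← e2, ← pw_conj, ← pw_conj]; group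

theorem sylP {g : G} (hg : g ∈ Ce (φ tt)) (hn : ∀ x ∈ PP φ, g * x * g⁻¹ ∈ PP φ) (h3 : g ^ 3 ∈ PP φ) :
    g ∈ PP φ := by
  obtain ⟨α, e1⟩ := hn _ a1P
  obtain ⟨β, e2⟩ := hn _ a2P
  have l := h.lin e1.symm e2.symm
  have i : ∀ {u v}, φ (pp u) = φ (pp v) → u = v := fun {u v} e => sub_eq_zero.1 ((pp_sub _).2.2 (h.inj (by
    rw [sub_eq_add_neg, pp_add, map_mul, e, ← map_mul, ← pp_add]; simp [pp])))
  have l3 : ∀ u, (fun u : ZMod 3 × ZMod 3 => u.1 • α + u.2 • β)^[3] u = u := fun u => i (by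
    simp only [Function.iterate_succ, Function.comp, Function.iterate_zero, id]
    rw [← l, ← l, ← l, show g * (g * (g * φ (pp u) * g⁻¹) * g⁻¹) * g⁻¹ = g ^ 3 * φ (pp u) * (g ^ 3)⁻¹ by
      simp [pow_succ, mul_assoc], ← PPc ⟨u, rfl⟩ h3, mul_inv_cancel_right])
  have a := h.pA (e1 ▸ _root_.isConj_iff.2 ⟨g, rfl⟩)
  have b := h.pA (u := β) (e2 ▸ ((h.cl (0, 1) (by decide)).1 (by decide)).trans
    (_root_.isConj_iff.2 ⟨g, by simp [pp]⟩))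
  obtain ⟨rfl, rfl⟩ : α = (1, 0) ∧ β = (0, 1) := by
    have l4 := l3 (1, 0)
    have l5 := l3 (0, 1)
    clear * - a b l4 l5
    revert α β; decide +kernel
  obtain ⟨u, rfl | rfl⟩ := h.cP (g := g) (mul_inv_eq_iff_eq_mul.1 (by simpa [pp] using e1.symm))
    (mul_inv_eq_iff_eq_mul.1 (by simpa [pp] using e2.symm)) hg
  · exact ⟨u, rfl⟩
  · obtain ⟨v, e⟩ := h3
    rw [Commute.mul_pow (cmφ φ (pp_sub u).2.1), pp3, one_mul, pow_three, tt2, mul_one] at e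
    have := pp3 (φ := φ) v
    rw [e, pow_three, tt2, mul_one] at this
    exact absurd this h.t1

variable [Finite G]

theorem n2 : ¬ IsConj (φ tt) (φ p0) := fun e => by
  obtain ⟨g, e⟩ := _root_.isConj_iff.1 e.symm
  have F := h.fr
  let T : Subgroup G :=
    { carrier := {y | ∃ a b, g * φ (JJ (0, 0, a, b)) * g⁻¹ = y}
      mul_mem' := by
        rintro _ _ ⟨a, b, rfl⟩ ⟨c, d, rfl⟩
        exact ⟨a + c, b + d, by rw [conj_mul, ← F.add]; rfl⟩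
      one_mem' := ⟨0, 0, by simp [JJ]⟩
      inv_mem' := by
        rintro _ ⟨a, b, rfl⟩
        exact ⟨-a, -b, eq_inv_of_mul_eq_one_left (by rw [conj_mul, ← F.add]; simp [JJ])⟩ }
  have k : ∀ a b, JJ (0, 0, a, b) ^ 3 = 1 ∧ JJ (0, 0, a, b) * p0 = p0 * JJ (0, 0, a, b) := by
    simp only [JJ, pw]; pk
  obtain ⟨k, -, hk⟩ := conj_into (N := Ce (φ tt)) (T := T) PP3 (fun g a b c => h.sylP a b c) PPK
    (pg3 (n := 1) (by rintro _ ⟨a, b, rfl⟩; rw [conj_pow, pow_one, ← map_pow, (k a b).1]; simp))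
    (by rintro _ ⟨a, b, rfl⟩; rw [mem_Ce, ← e, conj_mul, conj_mul, cmφ φ (k a b).2])
  obtain ⟨α, e1⟩ := hk _ ⟨1, 0, rfl⟩
  obtain ⟨β, e2⟩ := hk _ ⟨0, 1, rfl⟩
  have c : ∀ a b, ¬(a = 0 ∧ b = 0) → IsConj (φ a1) (k * (g * φ (JJ (0, 0, a, b)) * g⁻¹) * k⁻¹) := fun a b e => by
    obtain ⟨l, -, e⟩ := (show ∀ a b, ¬(a = 0 ∧ b = 0) → ∃ l ∈ ([[1, 0, 2, 1], [0, 0, 2, 2], [1, 0, 0, 1], [0, 2, 1, 0], [0, 1, 2], [1, 2, 1, 0], [0, 0, 1, 0], [1]] : List (List (Fin 3))), mv (wd l) (1, 0, 0, 0) = (0, 0, a, b) by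
      decide +kernel) a b e
    exact (h.cb l e).trans (_root_.isConj_iff.2 ⟨k * g, by group⟩)
  have a := h.pA (e1 ▸ c 1 0 (by decide))
  have b := h.pA (e2 ▸ c 0 1 (by decide))
  have c1 := h.pA (u := α + β) (by
    rw [pp_add, map_mul, e1, e2, conj_mul, conj_mul, ← F.add]; exact c _ _ (by decide))
  have c2 := h.pA (u := α + β + β) (by
    rw [pp_add, pp_add, map_mul, map_mul, e1, e2, conj_mul, conj_mul, conj_mul, conj_mul, ← F.add, ← F.add]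
    exact c _ _ (by decide))
  clear * - a b c1 c2
  revert α β; decide +kernel

theorem gen3 {X M : Subgroup G} (hX : (Nat.card X).Coprime 3) (hn : PP φ ≤ normalizer (X : Set G))
    (hM : ∀ p ∈ [a1, a2, z1, sg * z1 * sg⁻¹], ∀ g ∈ X, g * φ p = φ p * g → g ∈ M) : X ≤ M := by
  refine H2.le_of_forall_centralizer_le ⟨⟨fun x y => Subtype.ext (PPc x.2 y.2)⟩⟩ (fun hc => ?_) hn ?_ ?_
  · obtain ⟨⟨_, u, rfl⟩, k⟩ := hc.exists_generator
    have m : ∀ p, φ p ∈ PP φ → ∃ i, pw (pp u) i = p := fun p hp => by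
      obtain ⟨i, e⟩ := k ⟨_, hp⟩
      obtain ⟨i, e⟩ := (mem_zp (pp3 u)).1 ⟨i, congrArg Subtype.val e⟩
      exact ⟨i, h.inj ((map_pow φ _ _).trans e)⟩
    obtain ⟨i, e1⟩ := m _ a1P
    obtain ⟨j, e2⟩ := m _ a2P
    clear * - e1 e2
    revert u i j
    simp only [pp, pw]; pk
  · obtain ⟨n, hn⟩ := IsPGroup.iff_card.1 (PP3 (φ := φ))
    rw [hn]; exact Nat.Coprime.pow_left n hX.symm
  · rintro _ ⟨u, rfl⟩ h1 g hg
    have key : ∀ u, pp u ≠ 1 → ∃ p ∈ [a1, a2, z1, sg * z1 * sg⁻¹], p = pp u ∨ p = (pp u)⁻¹ := by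
      simp only [pp, pw, z1, List.mem_cons, List.not_mem_nil, or_false, exists_eq_or_imp, exists_eq_left]; pk
    obtain ⟨p, hp, e⟩ := key u fun e => h1 (by rw [e, map_one])
    have c : Commute g (φ (pp u)) := mem_centralizer_singleton_iff.1 hg.2
    refine hM p hp g hg.1 ?_
    rcases e with rfl | rfl
    exacts [c, map_inv φ _ ▸ c.inv_right]

end W0

end H54.T3
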