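import Cfsg.Agent.Lib.HN3.C1

/-! The element `j` and the two commuting groups `2^{1+4}`. -/

set_option autoImplicit false
set_option maxRecDepth 100000
set_option synthInstance.maxSize 100000
set_option linter.unusedSectionVars false
set_option maxHeartbeats 400000

namespace H54.T3

open Equiv Equiv.Perm H58.Cd H20.L43 Subgroup H58.SE

variable {G : Type*} [Group G] {φ : AA →* G} {π : G → M5} {j : G}

theorem cc {g a b : G} (h : a * b = b * a) : g * a * g⁻¹ * (g * b * g⁻¹) = g * b * g⁻¹ * (g * a * g⁻¹) := by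
  rw [conj_mul, conj_mul, h]

theorem cc' {g a b : G} (h : g * a * g⁻¹ * (g * b * g⁻¹) = g * b * g⁻¹ * (g * a * g⁻¹)) : a * b = b * a := by
  rw [conj_mul, conj_mul] at h; simpa using h

theorem S5.conj {a b : G} (h : S5 (Ce a ⊓ Ce b) (zpowers a) π) (g : G) :
    S5 (Ce (g * a * g⁻¹) ⊓ Ce (g * b * g⁻¹)) (zpowers (g * a * g⁻¹)) fun x => π (g⁻¹ * x * g) := by
  have m : ∀ {x c}, x ∈ Ce (g * c * g⁻¹) ↔ g⁻¹ * x * g ∈ Ce c := fun {x c} => by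
    rw [mem_Ce, mem_Ce]
    exact ⟨fun e => cc' (g := g) (by simpa [mul_assoc] using e), fun e => by simpa [mul_assoc] using cc (g := g) e⟩
  have m' : ∀ {x}, x ∈ Ce (g * a * g⁻¹) ⊓ Ce (g * b * g⁻¹) ↔ g⁻¹ * x * g ∈ Ce a ⊓ Ce b := and_congr m m
  have z : ∀ {x}, x ∈ zpowers (g * a * g⁻¹) ↔ g⁻¹ * x * g ∈ zpowers a :=
    ⟨by rintro ⟨n, rfl⟩; exact ⟨n, by change a ^ n = _; beta_reduce; rw [conj_zpow]; group⟩, fun ⟨n, e⟩ => ⟨n, by
      change (g * a * g⁻¹) ^ n = _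
      rw [conj_zpow, show a ^ n = _ from e]; group⟩⟩
  refine ⟨fun x hx => m'.2 (h.le (z.1 hx)), fun x hx y hy => ?_, fun x hx => h.pd _ (m'.1 hx),
    fun x hx => (h.pk _ (m'.1 hx)).trans z.symm, fun M hM => ?_⟩
  · rw [← h.pm _ (m'.1 hx) _ (m'.1 hy)]; congr 1; group
  · obtain ⟨x, hx, e⟩ := h.ps M hM
    exact ⟨g * x * g⁻¹, m'.2 (by simpa [mul_assoc] using hx), by simpa [mul_assoc] using e⟩

theorem pr5_mem {S : Subgroup G} {p q r s t : AA} (hp : φ p ∈ S) (hq : φ q ∈ S) (hr : φ r ∈ S) (hs : φ s ∈ S)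
    (ht : φ t ∈ S) (n : ℕ) : φ (pr5 p q r s t n) ∈ S := by
  simp only [pr5, map_mul, map_pow]
  exact mul_mem (mul_mem (mul_mem (mul_mem (pow_mem hp _) (pow_mem hq _)) (pow_mem hr _)) (pow_mem hs _))
    (pow_mem ht _)

theorem mC {p : AA} (h1 : p * z1 = z1 * p := by rw [z1]; pk) (h2 : p * tt = tt * p := by pk) :
    φ p ∈ Ce (φ z1) ⊓ Ce (φ tt) := ⟨mem_Ce.2 (cmφ φ h1), mem_Ce.2 (cmφ φ h2)⟩

theorem zp {g : G} (hg : g ∈ zpowers (φ z1)) : ∃ k, g = φ (pp (k, k)) := by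
  obtain ⟨k, rfl⟩ := (mem_zp z13).1 hg
  exact ⟨k, by rw [show ∀ k, pp (k, k) = pw z1 k by simp only [pp, pw, z1]; pk]; exact (map_pow φ _ _).symm⟩

theorem ppa : pp (1, 0) = a1 ∧ pp (0, 1) = a2 ∧ pp (1, 1) = z1 := by simp [pp, z1]

theorem pp_neg (u : ZMod 3 × ZMod 3) : φ (pp (-u)) = (φ (pp u))⁻¹ :=
  eq_inv_of_mul_eq_one_left (by rw [← map_mul, ← pp_add]; simp [pp])

/-- the first configuration -/
structure Wj (φ : AA →* G) (π : G → M5) (j : G) : Prop extends W0 φ where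
  s5 : S5 (Ce (φ z1) ⊓ Ce (φ tt)) (zpowers (φ z1)) π
  py : π (φ a1) = Y0
  jz : j ∈ Ce (φ z1) ⊓ Ce (φ tt)
  j2 : j * j = φ tt
  ja : j * φ a1 * j⁻¹ = φ a2
  js : j * φ sg * j⁻¹ = φ sp ∨ j * φ sg * j⁻¹ = φ sp * φ tt

/-- the second configuration -/
structure W1 (φ : AA →* G) (π : G → M5) (j : G) : Prop extends Wj φ π j where
  jv : j * φ p0 * j⁻¹ = φ v0
  com : ∀ k < 32, ∀ l < 32, φ (ww k) * (j * φ (ww l) * j⁻¹) = j * φ (ww l) * j⁻¹ * φ (ww k)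

theorem jj_cj (e : j * j = φ tt) {x : G} (hx : x ∈ Ce (φ tt)) : j * (j * x * j⁻¹) * j⁻¹ = x := by
  rw [show j * (j * x * j⁻¹) * j⁻¹ = j * j * x * (j * j)⁻¹ by group, e, ← mem_Ce.1 hx, mul_inv_cancel_right]

theorem W0.nz (h : W0 φ) {g : G} (e : IsConj (φ a1) g) : g ∉ zpowers (φ z1) := fun hg => by
  obtain ⟨k, rfl⟩ := zp hg
  have := h.pA e
  clear * - this
  revert k; decide

theorem W0.pt (h : W0 φ) (s : S5 (Ce (φ z1) ⊓ Ce (φ tt)) (zpowers (φ z1)) π) : π (φ tt) = mo5 := by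
  have mt : φ tt ∈ Ce (φ z1) ⊓ Ce (φ tt) := mC (h2 := rfl)
  refine ((m7 _ (s.pd _ mt)).2.1 (by rw [← s.pm _ mt _ mt, tt2, s.one])).resolve_left fun e => ?_
  obtain ⟨k, e⟩ := zp ((s.pk _ mt).1 e)
  have := pp3 (φ := φ) (k, k)
  rw [← e, pow_three, tt2, mul_one] at this
  exact h.t1 this

theorem W0.exists_j (h : W0 φ) : ∃ π j, Wj φ π j := by
  let g : AA := ⟨swap 1 3 * swap 2 6 * swap 5 7 * swap 9 10, ev (by decide +kernel)⟩
  obtain ⟨π, s⟩ := h.fr.cz (φ (g⁻¹ * tt * g)) (by rw [← map_mul, show g⁻¹ * tt * g * (g⁻¹ * tt * g) = 1 by pk, map_one])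
    (map_one φ ▸ h.ne (by pk)) (mem_Ce.2 (cmφ φ (by pk)))
  have s := s.conj (φ g)
  rw [cjφ, cjφ, show g * JJ (1, 1, 1, 0) * g⁻¹ = z1 by rw [z1]; pk, show g * (g⁻¹ * tt * g) * g⁻¹ = tt by group] at s
  generalize (fun x => π ((φ g)⁻¹ * x * φ g)) = π at s
  have ma : φ a1 ∈ Ce (φ z1) ⊓ Ce (φ tt) := mC
  have mt : φ tt ∈ Ce (φ z1) ⊓ Ce (φ tt) := mC (h2 := rfl)
  obtain ⟨g, hg, py⟩ := m1 _ (s.pd _ ma) (by rw [← s.pow ma, ← map_pow, show a1 ^ 3 = 1 by pk, map_one, s.one])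
    (_root_.mt (s.pk _ ma).1 (h.nz (IsConj.refl _)))
  have s := s.tw hg
  generalize hπ : (fun x => g * π x * g.iv) = π' at s
  replace py : π' (φ a1) = Y0 := hπ ▸ py
  clear hπ
  have pt := h.pt s
  obtain ⟨j, hj, pj⟩ := s.ps J0 (by decide)
  have z := mem_Ce.1 hj.1
  obtain ⟨k, e⟩ := zp (s.eq (mul_mem (mul_mem hj ma) (inv_mem hj)) (inv_mem ma)
    (by rw [s.cj hj ma, s.inv ma, pj, py]; decide))
  rw [inv_inv, ← ppa.1, ← eq_mul_inv_iff_mul_eq, ← pp_neg, ← map_mul, ← pp_add, ppa.1] at e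
  have e' : j * φ a2 * j⁻¹ = φ (pp (-((k, k) + -(1, 0)) + (1, 1))) := by
    rw [pp_add, map_mul, pp_neg, ← e, ppa.2.2, show a2 = a1⁻¹ * z1 by simp [z1], map_mul, map_inv,
      ← conj_mul, conj_inv, z, mul_inv_cancel_right]
  obtain rfl : k = 1 := by
    have a := h.pA (e ▸ _root_.isConj_iff.2 ⟨j, rfl⟩)
    have b := h.pA (u := -((k, k) + -(1, 0)) + (1, 1)) (by
      rw [← e']
      exact ((h.cl (0, 1) (by decide)).1 (by decide)).trans (_root_.isConj_iff.2 ⟨j, by rw [ppa.2.1]⟩))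
    clear * - a b
    revert k; decide
  rw [show ((1, 1) + -(1, 0) : ZMod 3 × ZMod 3) = (0, 1) by decide, ppa.2.1] at e
  obtain ⟨k, e2⟩ := zp (s.eq (mul_mem hj hj) mt (by rw [s.pm _ hj _ hj, pj, pt]; decide))
  have mk : φ (pp (k, k)) ∈ Ce (φ z1) ⊓ Ce (φ tt) := ⟨mem_Ce.2 (PPc ⟨_, rfl⟩ z1P), PPK ⟨_, rfl⟩⟩
  have ck : Commute (φ (pp (k, k))) j := e2 ▸ ((Commute.refl j).mul_left (Commute.refl j)).mul_left
    (Commute.inv_left (mem_Ce.1 hj.2).symm)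
  have hj1 := mul_mem hj mk
  have q1 : j * φ (pp (k, k)) * (j * φ (pp (k, k))) = φ tt := by
    rw [mul_assoc, ← mul_assoc _ j, ck.eq, ← mul_assoc, ← mul_assoc, mul_inv_eq_iff_eq_mul.1 e2,
      mem_Ce.1 mk.2, mul_assoc, mul_assoc, ← pow_three, pp3, mul_one]
  have q2 : j * φ (pp (k, k)) * φ a1 * (j * φ (pp (k, k)))⁻¹ = φ a2 := by
    rw [← e, mul_assoc j, PPc ⟨_, rfl⟩ a1P]; group
  generalize j * φ (pp (k, k)) = j at hj1 q1 q2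
  have q3 : j * φ a2 * j⁻¹ = φ a1 := q2 ▸ jj_cj q1 ma.2
  obtain ⟨k, hk, r, hr, e⟩ := h.kN (g := j * φ sg * j⁻¹) (by
    rw [← q3, show j * φ sg * j⁻¹ * (j * φ a2 * j⁻¹) * (j * φ sg * j⁻¹)⁻¹ = j * (φ sg * φ a2 * (φ sg)⁻¹) * j⁻¹ by
      group, cjφ, show sg * a2 * sg⁻¹ = a2⁻¹ by pk, map_inv, conj_inv])
    (mul_mem (mul_mem hj1.2 (mem_Ce.2 (cmφ φ (by pk)))) (inv_mem hj1.2))
  obtain ⟨e1, e2⟩ := (kf2 k hk r hr).2.2.2.1 (h.inj (by
    rw [map_mul, map_mul _ a2, ← e, ← q2]; exact cc (cmφ φ (by pk)))) (h.inj (by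
      rw [map_mul, ← e, conj_mul, ← map_mul, show sg * sg = 1 by pk]; simp))
  have c : ∀ {x}, x ∈ PP φ → (φ a1 ^ r)⁻¹ * x * φ a1 ^ r = x := fun hx => by
    rw [mul_assoc, PPc hx (pow_mem a1P r), inv_mul_cancel_left]
  have mr := pow_mem ma r
  refine ⟨π', φ a1 ^ r * j * (φ a1 ^ r)⁻¹, h, s, py, mul_mem (mul_mem mr hj1) (inv_mem mr), ?_, ?_, ?_⟩
  · rw [conj_mul, q1, mem_Ce.1 mr.2, mul_inv_cancel_right]
  · rw [show ∀ a x : G, a * j * a⁻¹ * x * (a * j * a⁻¹)⁻¹ = a * (j * (a⁻¹ * x * a) * j⁻¹) * a⁻¹ by intros; group,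
      c a1P, q2, ← PPc a2P (pow_mem a1P r), mul_inv_cancel_right]
  · rw [show ∀ a x : G, a * j * a⁻¹ * x * (a * j * a⁻¹)⁻¹ = a * (j * (a⁻¹ * x * a) * j⁻¹) * a⁻¹ by intros; group,
      mul_assoc _ (φ sg), ((show Commute (φ sg) (φ a1) from cmφ φ (by pk)).pow_right r).eq, inv_mul_cancel_left, e,
      ← map_pow, cjφ, ← map_mul, h.inj.eq_iff, h.inj.eq_iff]
    clear * - e1 e2 hk
    rcases (show k = 0 ∨ k = 16 by omega) with rfl | rfl <;> revert r <;> simp only [ww, rr, pr5] <;> pk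

namespace Wj

variable (h : Wj φ π j)
include h

theorem ja' : j * φ a2 * j⁻¹ = φ a1 := h.ja ▸ jj_cj h.j2 (PPK a1P)

theorem ji {x : G} (hx : x ∈ Ce (φ tt)) : j⁻¹ * x * j = j * x * j⁻¹ := by
  rw [← jj_cj h.j2 hx]; nth_rewrite 2 [jj_cj h.j2 hx]; group

theorem jK {x : G} (hx : x ∈ Ce (φ tt)) : j * x * j⁻¹ ∈ Ce (φ tt) :=
  mul_mem (mul_mem h.jz.2 hx) (inv_mem h.jz.2)

theorem jt : j * φ tt * j⁻¹ = φ tt := by rw [mem_Ce.1 h.jz.2, mul_inv_cancel_right]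

theorem kB {g : G} (hg : g * φ a2 = φ a2 * g) (ht : g ∈ Ce (φ tt)) :
    ∃ k < 32, ∃ r < 18, g = j * φ (ww k * rr r) * j⁻¹ := by
  obtain ⟨k, hk, r, hr, e⟩ := h.kA (g := j * g * j⁻¹) (h.ja' ▸ cc hg) (h.jK ht)
  exact ⟨k, hk, r, hr, by rw [← e, jj_cj h.j2 ht]⟩

theorem jv [Finite G] : j * φ p0 * j⁻¹ = φ v0 := by
  obtain ⟨k, hk, r, hr, e⟩ := h.kB (g := φ v0) (cmφ φ (by pk)) (mem_Ce.2 (cmφ φ (by pk)))
  have c : IsConj (φ p0) (φ (ww k * rr r)) := (ic φ (swap 0 2 * swap 1 5 * swap 3 8 * swap 8 6 * swap 4 11 *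
    swap 11 10 * swap 10 9 * swap 9 7)).trans (e ▸ (_root_.isConj_iff.2 ⟨j, rfl⟩).symm)
  rcases (kf2 k hk r hr).2.2.2.2 (h.inj (by
    rw [map_mul, map_mul _ sg]
    refine cc' (g := j) ?_
    rw [← e]
    rcases h.js with f | f <;> rw [f]
    exacts [cmφ φ (by pk), by rw [← map_mul]; exact cmφ φ (by pk)])) (h.inj (by
      have := congrArg (j⁻¹ * · * j) (show φ v0 * φ v0 = 1 by rw [← map_mul, show v0 * v0 = 1 by pk, map_one])
      rw [e] at this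
      simpa [mul_assoc] using this)) (h.inj (by
      have := congrArg (j⁻¹ * · * j) (show φ v0 * (φ a1 * φ v0 * (φ a1)⁻¹) = (φ a1)⁻¹ * φ v0 * φ a1 by
        simp only [← map_inv, ← map_mul]; exact congrArg φ (by pk))
      rw [e, ← h.ja'] at this
      simpa [mul_assoc] using this)) with f | f | f | f <;> rw [f] at e c
  · exact absurd (isConj_one_left.1 (map_one φ ▸ c)) (map_one φ ▸ h.ne (by pk))
  · exact e.symm
  · exact absurd ((ic φ (swap 1 3 * swap 7 9)).trans c.symm) h.n2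
  · exact absurd ((ic φ (swap 1 3 * swap 2 5 * swap 7 10 * swap 10 9)).trans c.symm) h.n2

end Wj

end H54.T3
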