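import Cfsg.Agent.Lib.HN3.C2

/-! The two groups `2^{1+4}` commute. -/

set_option autoImplicit false
set_option maxRecDepth 100000
set_option synthInstance.maxSize 100000
set_option linter.unusedSectionVars false
set_option maxHeartbeats 400000

namespace H54.T3

open Equiv Equiv.Perm H58.Cd H20.L43 Subgroup H58.SE

variable {G : Type*} [Group G] {φ : AA →* G} {π : G → M5} {j g k : G} {m : M4}

theorem rlp (p : AA) (m : M4) (h : ∀ u, p * JJ u = JJ (mv m u) * p := by simp only [JJ, pw, z1]; pk) :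
    Rl (fun u => φ (JJ u)) (φ p) m := fun u => by rw [cjφ, h, mul_inv_cancel_right]

theorem rlt : Rl (fun u => φ (JJ u)) (φ tt) (-1) := rlp _ _

theorem mvm : ∀ u, mv (-1) u = -u := by decide +kernel

namespace W0

variable (h : W0 φ)
include h

theorem jn (u : V4) : φ (JJ (-u)) = (φ (JJ u))⁻¹ :=
  eq_inv_of_mul_eq_one_left (by rw [← h.fr.add]; simp [JJ])

theorem rlJ (u : V4) : Rl (fun u => φ (JJ u)) (φ (JJ u)) 1 := fun v => by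
  rw [mv_one, ← h.fr.add, add_comm, h.fr.add, mul_inv_cancel_right]

theorem dv (a : Rl (fun u => φ (JJ u)) g m) (b : Rl (fun u => φ (JJ u)) k m) : ∃ u, g = k * φ (JJ u) := by
  obtain ⟨u, e⟩ := h.fr.cJ (k⁻¹ * g) fun u => by
    have := (a u).trans (b u).symm
    rw [mv_one]
    calc _ = k⁻¹ * (g * φ (JJ u) * g⁻¹) * k := by group
      _ = _ := by rw [this]; group
  exact ⟨u, by rw [e]; group⟩

theorem tj (u : V4) : φ (JJ u) * φ tt = φ tt * φ (JJ (-u)) := by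
  have := rlt (φ := φ) (-u)
  rw [mvm, neg_neg] at this
  beta_reduce at this
  rw [← this]; group

theorem eqr (a : Rl (fun u => φ (JJ u)) g m) (b : Rl (fun u => φ (JJ u)) k m) (hg : g ∈ Ce (φ tt))
    (hk : k ∈ Ce (φ tt)) : g = k := by
  obtain ⟨u, rfl⟩ := h.dv a b
  have := mem_Ce.1 ((mul_mem_cancel_left hk).1 hg)
  rw [h.tj, mul_right_inj, ← mul_inv_eq_one, ← h.jn, ← h.fr.add] at this
  rw [show u = 0 by have := h.fr.inj _ this; clear * - this; revert u; decide +kernel]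
  simp [JJ]

theorem fixs (a : Rl (fun u => φ (JJ u)) g (-1)) : ∃ u, φ (JJ u) * g * (φ (JJ u))⁻¹ = φ tt := by
  obtain ⟨u, rfl⟩ := h.dv a rlt
  refine ⟨-u, ?_⟩
  rw [← mul_assoc, h.tj, ← h.jn, neg_neg, mul_assoc, mul_assoc, ← h.fr.add, ← h.fr.add,
    show ∀ u : V4, u + (u + u) = 0 by decide +kernel]
  simp [JJ]

theorem lift (a : Rl (fun u => φ (JJ u)) g m) {n : M4} (e : m * n = 1) :
    ∃ k ∈ Ce (φ tt), Rl (fun u => φ (JJ u)) k m := by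
  obtain ⟨u, f⟩ := h.fixs (g := g * φ tt * g⁻¹) (by
    simpa [e] using (a.mul rlt).mul (a.inv e))
  exact ⟨φ (JJ u) * g, mem_Ce.2 (by nth_rewrite 2 [← f]; group), by simpa using (h.rlJ u).mul a⟩

theorem exists_f : ∃ f ∈ Ce (φ z1) ⊓ Ce (φ tt), IsConj (φ a1) f ∧ IsConj (φ a1) (f * φ z1) ∧
    φ r1 * f = f * φ r1 ∧ φ r2 * (f * φ z1) = f * φ z1 * φ r2 := by
  obtain ⟨s, f, hs, hf, e, c⟩ := h.fr.fA
  obtain ⟨u, e1⟩ := h.fixs hs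
  have a : Rl (fun u => φ (JJ u)) (φ (JJ u) * f * (φ (JJ u))⁻¹) mU := by
    simpa using ((h.rlJ u).mul hf).mul ((h.rlJ u).inv (one_mul 1))
  have m : φ (JJ u) * f * (φ (JJ u))⁻¹ ∈ Ce (φ tt) := mem_Ce.2 (e1 ▸ cc e)
  have c' : IsConj (φ a1) (φ (JJ u) * f * (φ (JJ u))⁻¹) :=
    ((h.cb [] (by decide)).trans c).trans (_root_.isConj_iff.2 ⟨_, rfl⟩)
  generalize φ (JJ u) * f * (φ (JJ u))⁻¹ = f at a m c'
  have az : Rl (fun u => φ (JJ u)) (φ z1) ⟨0, 0, 1, 0, 1, 0, 0, 0, 0, 1, 0, 0, 0, 0, 0, 1⟩ := rlp _ _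
  have b1 : Rl (fun u => φ (JJ u)) (φ r1) ⟨0, 2, 0, 0, 1, 0, 0, 0, 0, 0, 0, 2, 0, 0, 1, 0⟩ := rlp _ _
  have b2 : Rl (fun u => φ (JJ u)) (φ r2) ⟨0, 2, 0, 0, 1, 0, 0, 0, 0, 0, 0, 1, 0, 0, 2, 0⟩ := rlp _ _
  have mz := PPK (z1P (φ := φ))
  have m1 : φ r1 ∈ Ce (φ tt) := mem_Ce.2 (cmφ φ (by pk))
  have m2 : φ r2 ∈ Ce (φ tt) := mem_Ce.2 (cmφ φ (by pk))
  obtain ⟨γ, hγ⟩ := h.fr.gen [1, 1, 1]
  have i : wd [1, 1, 1] * wd [1, 1, 1, 1, 1] = 1 := by decide +kernel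
  obtain ⟨γ, mγ, hγ⟩ := h.lift hγ i
  refine ⟨f, ⟨mem_Ce.2 (h.eqr (a.mul az) (by convert az.mul a using 1; decide +kernel) (mul_mem m mz)
    (mul_mem mz m)), m⟩, c', c'.trans (_root_.isConj_iff.2 ⟨γ, h.eqr (by
      convert (hγ.mul a).mul (hγ.inv i) using 1; decide +kernel) (a.mul az)
      (mul_mem (mul_mem mγ m) (inv_mem mγ)) (mul_mem m mz)⟩),
    h.eqr (b1.mul a) (by convert a.mul b1 using 1; decide +kernel) (mul_mem m1 m) (mul_mem m m1),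
    h.eqr (b2.mul (a.mul az)) (by convert (a.mul az).mul b2 using 1; decide +kernel)
      (mul_mem m2 (mul_mem m mz)) (mul_mem (mul_mem m mz) m2)⟩

end W0

theorem kcj : ∀ p ∈ [a1, sp], ∀ k < 32, ∃ m < 32, ww k = p * ww m * p⁻¹ := by
  have : ∀ p ∈ [cd a1, cd sp], ∀ k < 32, ∃ m < 32, tb WW k = cm 12 (cm 12 p (tb WW m)) (ci 12 p) := by
    rw [ca1, csp]; decide +kernel
  intro p hp k hk
  obtain ⟨m, hm, e⟩ := this (cd p) (List.mem_map_of_mem (f := cd) hp) k hk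
  exact ⟨m, hm, by rwa [cd_eq, cd_mul, cd_mul, cd_inv, cww k hk, cww m hm]⟩

theorem Wj.w1 [Finite G] (h : Wj φ π j) : W1 φ π j := by
  obtain ⟨f, mf, c1, c2, e1, e2⟩ := h.exists_f
  have s := h.s5
  have ma : φ a1 ∈ Ce (φ z1) ⊓ Ce (φ tt) := mC
  have c3 : IsConj (φ a1) f⁻¹ := ((h.cl (-1, 0) (by decide)).1 (by decide)).trans (by
    obtain ⟨g, rfl⟩ := _root_.isConj_iff.1 c1
    exact _root_.isConj_iff.2 ⟨g, by rw [conj_inv, ← ppa.1, ← pp_neg]; rfl⟩)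
  obtain ⟨g, hg, py⟩ := m1 _ (s.pd _ (inv_mem mf)) (by
    obtain ⟨g, e⟩ := _root_.isConj_iff.1 c3
    rw [← s.pow (inv_mem mf), ← e, conj_pow, ← map_pow, show a1 ^ 3 = 1 by pk]; simpa using s.one)
    (_root_.mt (s.pk _ (inv_mem mf)).1 (h.nz c3))
  obtain ⟨l, ml, rfl⟩ := s.ps g hg
  obtain ⟨k, e⟩ := zp (s.eq (mul_mem (mul_mem ml (inv_mem mf)) (inv_mem ml)) ma
    (by rw [s.cj ml (inv_mem mf), py, h.py]))
  rw [mul_inv_eq_iff_eq_mul, ← ppa.1, ← map_mul, ← pp_add] at e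
  have e' : l * (f * φ z1) * l⁻¹ = φ (pp (-((k, k) + (1, 0)) + (1, 1))) := by
    rw [pp_add, map_mul, pp_neg, ← e, ppa.2.2, ← conj_mul, mem_Ce.1 ml.1, mul_inv_cancel_right, ← conj_inv, inv_inv]
  obtain rfl : k = 0 := by
    have a := h.pA (e ▸ c3.trans (_root_.isConj_iff.2 ⟨l, rfl⟩))
    have b := h.pA (e' ▸ c2.trans (_root_.isConj_iff.2 ⟨l, rfl⟩))
    clear * - a b
    revert k; decide
  rw [show ((0, 0) + (1, 0) : ZMod 3 × ZMod 3) = (1, 0) by decide, ppa.1] at e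
  rw [show (-((0, 0) + (1, 0)) + (1, 1) : ZMod 3 × ZMod 3) = (0, 1) by decide, ppa.2.1] at e'
  have sq : ∀ p, p * p = tt → l * φ p * l⁻¹ * (l * φ p * l⁻¹) = φ tt := fun p e => by
    rw [conj_mul, ← map_mul, e, mem_Ce.1 ml.2, mul_inv_cancel_right]
  have mK : ∀ p, p * tt = tt * p → l * φ p * l⁻¹ ∈ Ce (φ tt) := fun p e =>
    mul_mem (mul_mem ml.2 (mem_Ce.2 (cmφ φ e))) (inv_mem ml.2)
  obtain ⟨k1, h1, r, hr, f1⟩ := h.kA (g := l * φ r1 * l⁻¹) (e ▸ cc (Commute.inv_right e1)) (mK _ (by pk))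
  have q1 : ww k1 * rr r * (ww k1 * rr r) = tt := h.inj (by rw [map_mul, ← f1, sq _ (by pk)])
  obtain rfl := (kf1 k1 h1 r hr).2.2 q1
  obtain ⟨k2, h2, r, hr, f2⟩ := h.kB (g := l * φ r2 * l⁻¹) (e' ▸ cc e2) (mK _ (by pk))
  have q2 : ww k2 * rr r * (ww k2 * rr r) = tt := h.inj (by
    have := sq r2 (by pk)
    rw [f2, conj_mul, ← h.jt] at this
    simpa using this)
  obtain rfl := (kf1 k2 h2 r hr).2.2 q2
  have c := cc (g := l) (cmφ φ (show r1 * r2 = r2 * r1 by pk))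
  rw [f1, f2] at c
  simp only [show rr 0 = 1 by simp [rr], mul_one] at q1 q2 c
  have wK : ∀ k < 32, φ (ww k) ∈ Ce (φ tt) := fun k hk => mem_Ce.2 (cmφ φ (kw k hk).1)
  have n2 : ∀ p, φ p ∈ Ce (j * φ (ww k2) * j⁻¹) → φ (a2 * p * a2⁻¹) ∈ Ce (j * φ (ww k2) * j⁻¹) := fun p hp => by
    have : φ a2 ∈ Ce (j * φ (ww k2) * j⁻¹) := mem_Ce.2 (h.ja ▸ cc (cmφ φ (kw k2 h2).2.1.symm))
    exact cjφ φ _ _ ▸ mul_mem (mul_mem this hp) (inv_mem this)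
  have p1 : φ p0 ∈ Ce (j * φ (ww k2) * j⁻¹) := mem_Ce.2 (by
    rw [← jj_cj h.j2 (x := φ p0) (mem_Ce.2 (cmφ φ (by pk))), h.jv]
    exact cc (cmφ φ (kw k2 h2).2.2.1.symm))
  let S := (centralizer {x | ∃ k < 32, φ (ww k) = x}).comap (MulAut.conj j).toMonoidHom
  have mS : ∀ {x}, x ∈ S ↔ ∀ k < 32, φ (ww k) * (j * x * j⁻¹) = j * x * j⁻¹ * φ (ww k) := fun {x} =>
    ⟨fun e k hk => e _ ⟨k, hk, rfl⟩, fun e => by rintro _ ⟨k, hk, rfl⟩; exact e k hk⟩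
  have s1 : φ (ww k2) ∈ S := mS.2 fun k hk => by
    obtain ⟨n, -, e⟩ := kgen1 k1 h1 q1 k hk
    rw [e]
    exact mem_Ce.1 (pr5_mem (mem_Ce.2 c) (n2 _ (mem_Ce.2 c)) p1 (n2 _ p1) (mem_Ce.2 (mem_Ce.1 (h.jK (wK _ h2))).symm) n)
  have n1 : ∀ p ∈ [a1, sp], ∀ q x : G, j * (q * x * q⁻¹) * j⁻¹ = φ p * (j * x * j⁻¹) * (φ p)⁻¹ → x ∈ S →
      q * x * q⁻¹ ∈ S := fun p hp q x e hx => mS.2 fun k hk => by
    obtain ⟨m, hm, f⟩ := kcj p hp k hk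
    rw [e, f, ← cjφ]
    exact cc (mS.1 hx m hm)
  have na : ∀ p, φ p ∈ S → φ (a2 * p * a2⁻¹) ∈ S := fun p hp =>
    cjφ φ _ _ ▸ n1 a1 (by simp) _ _ (by rw [← h.ja']; group) hp
  have ns : φ (sg * ww k2 * sg⁻¹) ∈ S := cjφ φ _ _ ▸ n1 sp (by simp) _ _ (by
    rw [show j * (φ sg * φ (ww k2) * (φ sg)⁻¹) * j⁻¹ = j * φ sg * j⁻¹ * (j * φ (ww k2) * j⁻¹) * (j * φ sg * j⁻¹)⁻¹ by
      group]
    rcases h.js with e | e <;> rw [e]
    rw [mul_assoc (φ sp), ← mem_Ce.1 (h.jK (wK _ h2))]; group) s1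
  refine ⟨h, h.jv, fun k hk l hl => ?_⟩
  obtain ⟨n, -, e⟩ := kgen2 k2 h2 q2 l hl
  rw [e]
  exact mS.1 (pr5_mem s1 (na _ s1) ns (na _ ns) (mS.2 fun k hk => h.jt.symm ▸ mem_Ce.1 (wK k hk)) n) k hk

end H54.T3
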