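import Cfsg.Agent.Lib.HN3.D2

set_option autoImplicit false
set_option maxRecDepth 100000
set_option synthInstance.maxSize 100000
set_option linter.unusedSectionVars false

namespace H54.T3

open Equiv Equiv.Perm H58.Cd H20.L43 Subgroup H58.SE H39.MS H95

variable {G : Type*} [Group G] [Finite G] {φ : AA →* G} {π : G → M5} {j v : G} {Q : Subgroup G} {c : G → ℕ}

namespace CO

/-- the code of the first factor -/
def cA (k : ℕ) : ℕ := 4 * (k % 16)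

/-- the code of the second factor -/
def cB (l : ℕ) : ℕ := l % 4 + 64 * (l / 4 % 4)

/-- the elements of `Q` -/
def el (φ : AA →* G) (j : G) (k l : ℕ) : G := φ (ww k) * (j * φ (ww l) * j⁻¹)

theorem t_mul : ∀ k < 32, ∀ l < 32, ∃ m < 32, ww k * ww l = ww m ∧ cA m = cA k ^^^ cA l ∧
    cB m = cB k ^^^ cB l := fun k hk l hl => by
  obtain ⟨m, hm, e, f⟩ := (show ∀ k < 32, ∀ l < 32, ∃ m < 32, cm 12 (tb WW k) (tb WW l) = tb WW m ∧
    cA m = cA k ^^^ cA l ∧ cB m = cB k ^^^ cB l by decide +kernel) k hk l hl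
  exact ⟨m, hm, cd_eq.2 (by rw [cd_mul, cww k hk, cww l hl, cww m hm, e]), f⟩

theorem t_cj {g : AA} {n : ℕ} (hg : cd g = n) {R : ℕ → ℕ → Prop}
    (h : ∀ k < 32, ∃ m < 32, cm 12 (cm 12 n (tb WW k)) (ci 12 n) = tb WW m ∧ R k m) :
    ∀ k < 32, ∃ m < 32, g * ww k * g⁻¹ = ww m ∧ R k m := fun k hk => by
  obtain ⟨m, hm, e, f⟩ := h k hk
  exact ⟨m, hm, cd_eq.2 (by rw [cd_mul, cd_mul, cd_inv, hg, cww k hk, cww m hm, e]), f⟩

theorem t_inv : ∀ k < 32, ∃ m < 32, (ww k)⁻¹ = ww m := fun k hk => by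
  obtain ⟨m, hm, e⟩ := (show ∀ k < 32, ∃ m < 32, ci 12 (tb WW k) = tb WW m by decide +kernel) k hk
  exact ⟨m, hm, cd_eq.2 (by rw [cd_inv, cww k hk, cww m hm, e])⟩

theorem t_sq : ∀ k < 32, ∀ l < 32, (ww k * ww k = 1 ∨ ww k * ww k = tt) ∧
    (qf (cA k ^^^ cB l) = 0 ↔ (ww k * ww k = 1 ↔ ww l * ww l = 1)) := by
  intro k hk l hl
  pk12
  rw [cww k hk, cww l hl]
  revert l; revert k; decide +kernel

theorem t_0 : ∀ k < 32, ∀ l < 32, cA k ^^^ cB l < 256 ∧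
    (cA k ^^^ cB l = 0 ↔ k % 16 = 0 ∧ l % 16 = 0) := by decide +kernel

theorem t_s : ∀ a < 256, ∃ k < 32, ∃ l < 32, cA k ^^^ cB l = a := fun a ha =>
  ⟨a / 4 % 16, by omega, a % 4 + 4 * (a / 64), by omega, by revert a; decide +kernel⟩

theorem w0 : ww 0 = 1 := by simp [ww, pr5]

theorem w16 : ww 16 = tt := by simp [ww, pr5]

theorem wK {k : ℕ} (hk : k < 32) : φ (ww k) ∈ Ce (φ tt) := mem_Ce.2 (cmφ φ (kw k hk).1)

theorem el0 (k : ℕ) : el φ j k 0 = φ (ww k) := by simp [el, w0]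

theorem el0' (l : ℕ) : el φ j 0 l = j * φ (ww l) * j⁻¹ := by simp [el, w0]

variable (h : W1 φ π j)
include h

theorem el_mul {k l k' l' : ℕ} (hl : l < 32) (hk' : k' < 32) :
    el φ j k l * el φ j k' l' = φ (ww k * ww k') * (j * φ (ww l * ww l') * j⁻¹) := by
  rw [el, el, mul_assoc, ← mul_assoc _ (φ (ww k')), ← h.com k' hk' l hl, map_mul, map_mul, ← conj_mul]
  simp only [mul_assoc]

theorem mul' {k l k' l' : ℕ} (hk : k < 32) (hl : l < 32) (hk' : k' < 32) (hl' : l' < 32) :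
    ∃ m < 32, ∃ n < 32, el φ j k l * el φ j k' l' = el φ j m n ∧
      cA m ^^^ cB n = (cA k ^^^ cB l) ^^^ (cA k' ^^^ cB l') := by
  obtain ⟨m, hm, e1, e2, -⟩ := t_mul k hk k' hk'
  obtain ⟨n, hn, e3, -, e4⟩ := t_mul l hl l' hl'
  refine ⟨m, hm, n, hn, by rw [el_mul h hl hk', e1, e3, el], ?_⟩
  rw [e2, e4]
  ac_rfl

/-- the group `Q` -/
def QQ : Subgroup G where
  carrier := {g | ∃ k < 32, ∃ l < 32, g = el φ j k l}
  mul_mem' := by
    rintro _ _ ⟨k, hk, l, hl, rfl⟩ ⟨k', hk', l', hl', rfl⟩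
    obtain ⟨m, hm, n, hn, e, -⟩ := mul' h hk hl hk' hl'
    exact ⟨m, hm, n, hn, e⟩
  one_mem' := ⟨0, by norm_num, 0, by norm_num, by rw [el0, w0, map_one]⟩
  inv_mem' := by
    rintro _ ⟨k, hk, l, hl, rfl⟩
    obtain ⟨m, hm, e1⟩ := t_inv k hk
    obtain ⟨n, hn, e2⟩ := t_inv l hl
    exact ⟨m, hm, n, hn, by
      rw [el, el, h.com m hm n hn, mul_inv_rev, conj_inv, ← map_inv, ← map_inv, e1, e2]⟩

theorem elK {k l : ℕ} (hk : k < 32) (hl : l < 32) : el φ j k l ∈ Ce (φ tt) :=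
  mul_mem (wK hk) (h.jK (wK hl))

theorem cen {k l : ℕ} (hk : k < 32) (hl : l < 32)
    (e : ∀ y ∈ QQ h, el φ j k l * y = y * el φ j k l) : cA k ^^^ cB l = 0 := by
  refine (t_0 k hk l hl).2.2 ⟨(kw k hk).2.2.2.2 fun m hm => ?_, (kw l hl).2.2.2.2 fun m hm => ?_⟩
  · have := e _ ⟨m, by omega, 0, by norm_num, rfl⟩
    rw [el_mul h hl (by omega), el_mul h (by norm_num) hk, w0, mul_one, one_mul] at this
    exact h.inj (mul_right_cancel this)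
  · have := e _ ⟨0, by norm_num, m, by omega, rfl⟩
    rw [el_mul h hl (by norm_num), el_mul h (by omega) hk, w0, mul_one, one_mul] at this
    exact h.inj (mul_left_cancel (mul_right_cancel (mul_left_cancel this)))

theorem zcen {x : G} (e : x = 1 ∨ x = φ tt) : ∀ y ∈ QQ h, x * y = y * x := by
  rintro _ ⟨k, hk, l, hl, rfl⟩
  rcases e with rfl | rfl
  exacts [by simp, (mem_Ce.1 (elK h hk hl)).symm]

theorem sq {k l : ℕ} (hk : k < 32) (hl : l < 32) :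
    (el φ j k l * el φ j k l = 1 ∨ el φ j k l * el φ j k l = φ tt) ∧
      (el φ j k l * el φ j k l = 1 ↔ qf (cA k ^^^ cB l) = 0) := by
  have n : tt ≠ 1 := by pk
  rw [el_mul h hl hk, (t_sq k hk l hl).2]
  rcases (t_sq k hk l hl).1 with a | a <;> rcases (t_sq l hl l hl).1 with b | b <;> rw [a, b] <;>
    simp [h.jt, tt2, n, h.t1]

theorem uniq {k l k' l' : ℕ} (hk : k < 32) (hl : l < 32) (hk' : k' < 32) (hl' : l' < 32)
    (e : el φ j k l = el φ j k' l') : cA k ^^^ cB l = cA k' ^^^ cB l' := by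
  obtain ⟨m, hm, n, hn, e1, e2⟩ := mul' h hk hl hk' hl'
  rw [cen h hm hn (zcen h (by rw [← e1, ← e]; exact (sq h hk hl).1))] at e2
  exact Nat.eq_of_xor_eq_zero e2.symm

theorem ex_c : ∃ c : G → ℕ, (∀ x, c x < 256) ∧ ∀ k < 32, ∀ l < 32, c (el φ j k l) = cA k ^^^ cB l := by
  classical
  have : ∀ x : G, ∃ a < 256, ∀ k < 32, ∀ l < 32, x = el φ j k l → a = cA k ^^^ cB l := fun x => by
    by_cases q : x ∈ QQ h
    · obtain ⟨k, hk, l, hl, rfl⟩ := q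
      exact ⟨_, (t_0 k hk l hl).1, fun k' hk' l' hl' e => uniq h hk hl hk' hl' e⟩
    · exact ⟨0, by norm_num, fun k hk l hl e => absurd ⟨k, hk, l, hl, e⟩ q⟩
  choose c h1 h2 using this
  exact ⟨c, h1, fun k hk l hl => h2 _ k hk l hl rfl⟩

theorem co (h1 : ∀ x, c x < 256) (h2 : ∀ k < 32, ∀ l < 32, c (el φ j k l) = cA k ^^^ cB l) :
    Co (φ tt) (QQ h) c := by
  have mul : ∀ {x y}, x ∈ QQ h → y ∈ QQ h → c (x * y) = c x ^^^ c y := by
    rintro _ _ ⟨k, hk, l, hl, rfl⟩ ⟨k', hk', l', hl', rfl⟩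
    obtain ⟨m, hm, n, hn, e1, e2⟩ := mul' h hk hl hk' hl'
    rw [e1, h2 m hm n hn, h2 k hk l hl, h2 k' hk' l' hl', e2]
  have zero : ∀ {x}, x ∈ QQ h → (c x = 0 ↔ x = 1 ∨ x = φ tt) := by
    rintro _ ⟨k, hk, l, hl, rfl⟩
    rw [h2 k hk l hl]
    refine ⟨fun e => ?_, fun e => cen h hk hl (zcen h e)⟩
    obtain ⟨e1, e2⟩ := (t_0 k hk l hl).2.1 e
    rcases (show k = 0 ∨ k = 16 by omega) with rfl | rfl <;>
      rcases (show l = 0 ∨ l = 16 by omega) with rfl | rfl <;> simp [el, w0, w16, h.jt, tt2]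
  have nd : ∀ x ∈ QQ h, (∀ y ∈ QQ h, x * y = y * x) → c x = 0 := by
    rintro _ ⟨k, hk, l, hl, rfl⟩ e
    rw [h2 k hk l hl, cen h hk hl e]
  refine ⟨⟨⟨16, by norm_num, 0, by norm_num, by rw [el0, w16]⟩, h.t1, tt2,
    fun x hx => (zcen h (Or.inr rfl) x hx).symm, fun x hx y hy => ?_,
    fun x hx e => (zero hx).1 (nd x hx e), ?_⟩, h1, fun a ha => ?_, mul, zero, ?_⟩
  · have m := inv_mem (mul_mem hy hx)
    have e := mul m (mul_mem hy hx)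
    rw [inv_mul_cancel, (zero (one_mem _)).2 (Or.inl rfl), mul hy hx, Nat.xor_comm (c y),
      ← mul hx hy, ← mul m (mul_mem hx hy)] at e
    exact ((zero (mul_mem m (mul_mem hx hy))).1 e.symm).imp (fun q => (inv_mul_eq_one.1 q).symm)
      inv_mul_eq_iff_eq_mul.1
  · by_contra! q
    have m : el φ j 1 0 ∈ QQ h := ⟨1, by norm_num, 0, by norm_num, rfl⟩
    exact absurd (cen h (by norm_num) (by norm_num) (q _ m)) (by decide)
  · obtain ⟨k, hk, l, hl, e⟩ := t_s a ha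
    exact ⟨_, ⟨k, hk, l, hl, rfl⟩, (h2 k hk l hl).trans e⟩
  · rintro _ ⟨k, hk, l, hl, rfl⟩
    rw [h2 k hk l hl]
    exact (sq h hk hl).2

theorem act (T : Co (φ tt) (QQ h) c) (h2 : ∀ k < 32, ∀ l < 32, c (el φ j k l) = cA k ^^^ cB l)
    {g : G} {M : ℕ} (hg : g ∈ Ce (φ tt))
    (a : ∀ k < 32, ∃ m < 32, ∃ n < 32, g * φ (ww k) * g⁻¹ = el φ j m n ∧ cA m ^^^ cB n = lm M (cA k))
    (b : ∀ k < 32, ∃ m < 32, ∃ n < 32, g * (j * φ (ww k) * j⁻¹) * g⁻¹ = el φ j m n ∧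
      cA m ^^^ cB n = lm M (cB k)) : Ac (φ tt) (QQ h) c g M := by
  have key : ∀ x ∈ QQ h, g * x * g⁻¹ ∈ QQ h ∧ c (g * x * g⁻¹) = lm M (c x) := by
    rintro _ ⟨k, hk, l, hl, rfl⟩
    obtain ⟨m, hm, n, hn, e1, e2⟩ := a k hk
    obtain ⟨m', hm', n', hn', e3, e4⟩ := b l hl
    have q1 : el φ j m n ∈ QQ h := ⟨m, hm, n, hn, rfl⟩
    have q2 : el φ j m' n' ∈ QQ h := ⟨m', hm', n', hn', rfl⟩
    rw [h2 k hk l hl, el, ← conj_mul, e1, e3, T.mul q1 q2, h2 m hm n hn, h2 m' hm' n' hn', e2, e4,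
      lin_lm M]
    exact ⟨mul_mem q1 q2, rfl⟩
  exact ⟨mem_NN hg fun x hx => (key x hx).1, fun x hx => (key x hx).2⟩

end CO

open CO

theorem W1.exists_w2 (h : W1 φ π j) : ∃ Q c, W2 φ π j Q c := by
  obtain ⟨c, h1, h2⟩ := ex_c h
  have T := co h h1 h2
  have z : (0 : ℕ) < 32 := by norm_num
  have cj : ∀ {g : G}, g ∈ Ce (φ tt) → ∀ x, g * (j * x * j⁻¹) * g⁻¹ =
      j * (j * g * j⁻¹ * x * (j * g * j⁻¹)⁻¹) * j⁻¹ := fun hg x => by rw [← h.ji hg]; group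
  have ms : φ sg ∈ Ce (φ tt) := mem_Ce.2 (cmφ φ (by pk))
  refine ⟨QQ h, c, h, T, fun k hk => ?_, fun k hk => ?_, act h T h2 (PPK a1P) (fun k hk => ?_)
    fun k hk => ?_, act h T h2 h.jz.2 (fun k hk => ?_) fun k hk => ?_,
    act h T h2 ms (fun k hk => ?_) fun k hk => ?_⟩
  · rw [← el0 (j := j), h2 k hk 0 z]
    exact ⟨⟨k, hk, 0, z, rfl⟩, Nat.xor_zero _⟩
  · rw [← el0', h2 0 z k hk]
    exact ⟨⟨0, z, k, hk, rfl⟩, Nat.zero_xor _⟩
  · exact ⟨k, hk, 0, z, by rw [el0, ← cmφ φ (kw k hk).2.1, mul_inv_cancel_right],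
      by revert k; decide +kernel⟩
  · obtain ⟨m, hm, e, f⟩ := t_cj ca2 (R := fun k m => cA 0 ^^^ cB m = lm MA (cB k))
      (by decide +kernel) k hk
    exact ⟨0, z, m, hm, by rw [el0', cj (PPK a1P), h.ja, cjφ, e], f⟩
  · exact ⟨0, z, k, hk, (el0' k).symm, by revert k; decide +kernel⟩
  · exact ⟨k, hk, 0, z, by rw [el0, jj_cj h.j2 (wK hk)], by revert k; decide +kernel⟩
  · obtain ⟨m, hm, e, f⟩ := t_cj csg (R := fun k m => cA m ^^^ cB 0 = lm MS (cA k))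
      (by decide +kernel) k hk
    exact ⟨m, hm, 0, z, by rw [el0, cjφ, e], f⟩
  · obtain ⟨m, hm, e, f⟩ := t_cj csp (R := fun k m => cA 0 ^^^ cB m = lm MS (cB k))
      (by decide +kernel) k hk
    refine ⟨0, z, m, hm, ?_, f⟩
    rw [el0', cj ms, ← e, ← cjφ]
    rcases h.js with q | q <;> rw [q]
    rw [mul_assoc (φ sp), ← mem_Ce.1 (wK hk)]
    group

end H54.T3
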