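import Cfsg.Agent.Lib.HN3.C2
import Cfsg.Agent.Lib.MSub.HT1

/-! Coordinates on the group `2^{1+8}` and the later configurations. -/

set_option autoImplicit false
set_option maxRecDepth 100000
set_option synthInstance.maxSize 100000
set_option linter.unusedSectionVars false

namespace H54.T3

open H20.L43 Subgroup H39.MS H95

/-- the matrix with given columns -/
def col8 (a b c d e f g h : ℕ) : ℕ :=
  a + 256 * (b + 256 * (c + 256 * (d + 256 * (e + 256 * (f + 256 * (g + 256 * h))))))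

/-- the product of two matrices -/
def mm (M N : ℕ) : ℕ := col8 (lm M (lm N 1)) (lm M (lm N 2)) (lm M (lm N 4)) (lm M (lm N 8))
  (lm M (lm N 16)) (lm M (lm N 32)) (lm M (lm N 64)) (lm M (lm N 128))

/-- the identity -/
def MI : ℕ := 0x8040201008040201
/-- the action of `a1` -/
def MA : ℕ := 0x40c0201008040302
/-- the action of `a2` -/
def MB : ℕ := 0x804010300c080201
/-- the action of `j` -/
def MJ : ℕ := 0x2010804002010804
/-- the action of `sg` -/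
def MS : ℕ := 0x030130100c04c040
/-- the action of `sp` -/
def MP : ℕ := 0xc0400c0430100301
/-- the action of `v` -/
def MV : ℕ := 0x8040a05008040a05
/-- the action of `sp * sg` -/
def MN : ℕ := 0x0201080420108040
/-- the action of `z1` -/
def MZ : ℕ := 0x40c010300c080302
/-- powers -/
def mp (M : ℕ) : ℕ → ℕ
  | 0 => MI
  | n + 1 => mm (mp M n) M
/-- the group of order four of `v` -/
def TV (k : ℕ) : ℕ := mm (mp MV (k % 2)) (mp (mm (mm MA MV) (mp MA 2)) (k / 2 % 2))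
/-- the group of order sixteen -/
def T16 (k : ℕ) : ℕ := mm (TV (k % 4)) (mm (mm MS (TV (k / 4 % 4))) MS)
/-- the stabiliser of the codes `4` and `8` -/
def T48 (k : ℕ) : ℕ := mm (T16 (k % 16)) (mp MA (k / 16))

theorem lm_lt (M a : ℕ) : lm M a < 256 := by
  have h : ∀ j, cb M a j < 2 ^ 8 := fun j => by
    change (a >>> j &&& 1) * (M >>> (8 * j) &&& 255) < _
    have h1 : a >>> j &&& 1 ≤ 1 := Nat.and_le_right
    have h2 : M >>> (8 * j) &&& 255 ≤ 255 := Nat.and_le_right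
    nlinarith
  exact Nat.xor_lt_two_pow (n := 8) (Nat.xor_lt_two_pow (Nat.xor_lt_two_pow (h 0) (h 1))
    (Nat.xor_lt_two_pow (h 2) (h 3))) (Nat.xor_lt_two_pow (Nat.xor_lt_two_pow (h 4) (h 5))
    (Nat.xor_lt_two_pow (h 6) (h 7)))

theorem lm_two (M : ℕ) : ∀ j < 8, lm M (2 ^ j) = M / 256 ^ j % 256 := by
  have h : ∀ j, Nat.land (Nat.shiftRight M (Nat.mul 8 j)) 255 = M / 256 ^ j % 256 := fun j => by
    change M >>> (8 * j) &&& (2 ^ 8 - 1) = _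
    rw [Nat.and_two_pow_sub_one_eq_mod, Nat.shiftRight_eq_div_pow, pow_mul]; rfl
  intro j hj
  simp only [lm, cb, h]
  interval_cases j <;> simp

theorem lm_col8 {a b c d e f g h : ℕ} (ha : a < 256) (hb : b < 256) (hc : c < 256) (hd : d < 256)
    (he : e < 256) (hf : f < 256) (hg : g < 256) (hh : h < 256) :
    ∀ j < 8, lm (col8 a b c d e f g h) (2 ^ j) = [a, b, c, d, e, f, g, h].getD j 0 := fun j hj => by
  rw [lm_two _ j hj, col8]
  interval_cases j <;> simp <;> omega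

theorem lm_fun {f : ℕ → ℕ} (hf : ∀ a < 256, ∀ b < 256, f (a ^^^ b) = f a ^^^ f b) (hl : ∀ a, f a < 256) :
    ∀ a < 256, lm (col8 (f 1) (f 2) (f 4) (f 8) (f 16) (f 32) (f 64) (f 128)) a = f a := fun a ha => by
  have := (lin_lm _).ext (g := fun a => f (a % 2 ^ 8)) (fun a b => by
    beta_reduce
    rw [Nat.xor_mod_two_pow]
    exact hf _ (Nat.mod_lt _ (by norm_num)) _ (Nat.mod_lt _ (by norm_num))) (fun j hj => by
    rw [lm_col8 (hl 1) (hl 2) (hl 4) (hl 8) (hl 16) (hl 32) (hl 64) (hl 128) j hj]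
    interval_cases j <;> rfl) a ha
  rwa [Nat.mod_eq_of_lt (b := 2 ^ 8) ha] at this

theorem lm_mm (M N : ℕ) : ∀ a < 256, lm (mm M N) a = lm M (lm N a) :=
  lm_fun (f := fun a => lm M (lm N a)) (fun a _ b _ => by simp only [lin_lm N a b, lin_lm M _ _])
    fun _ => lm_lt _ _

theorem lm_MI : ∀ a < 256, lm MI a = a := by decide +kernel

variable {G : Type*} [Group G]

/-- the normaliser of `Q` -/
def NN (z : G) (Q : Subgroup G) : Subgroup G := Ce z ⊓ normalizer (Q : Set G)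

/-- `g` normalises `Q` and acts on the codes by the matrix `M` -/
def Ac (z : G) (Q : Subgroup G) (c : G → ℕ) (g : G) (M : ℕ) : Prop :=
  g ∈ NN z Q ∧ ∀ x ∈ Q, c (g * x * g⁻¹) = lm M (c x)

/-- coordinates on an extraspecial group -/
structure Co (z : G) (Q : Subgroup G) (c : G → ℕ) : Prop extends ES Q z where
  lt : ∀ x, c x < 256
  surj : ∀ a < 256, ∃ x ∈ Q, c x = a
  mul : ∀ {x y}, x ∈ Q → y ∈ Q → c (x * y) = c x ^^^ c y
  zero : ∀ {x}, x ∈ Q → (c x = 0 ↔ x = 1 ∨ x = z)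
  qs : ∀ {x}, x ∈ Q → (x * x = 1 ↔ qf (c x) = 0)

/-- the centraliser of the group of order eight -/
def MM (φ : AA →* G) : Subgroup G := Ce (φ tt) ⊓ (Ce (φ x0) ⊓ Ce (φ x1))

/-- the third configuration -/
structure W2 (φ : AA →* G) (π : G → M5) (j : G) (Q : Subgroup G) (c : G → ℕ) : Prop extends W1 φ π j where
  co : Co (φ tt) Q c
  e1 : ∀ k < 32, φ (ww k) ∈ Q ∧ c (φ (ww k)) = 4 * (k % 16)
  e2 : ∀ k < 32, j * φ (ww k) * j⁻¹ ∈ Q ∧ c (j * φ (ww k) * j⁻¹) = k % 4 + 64 * (k / 4 % 4)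
  aA : Ac (φ tt) Q c (φ a1) MA
  aJ : Ac (φ tt) Q c j MJ
  aS : Ac (φ tt) Q c (φ sg) MS

/-- the fourth configuration -/
structure W3 (φ : AA →* G) (π : G → M5) (j : G) (Q : Subgroup G) (c : G → ℕ) (v : G) : Prop
    extends W2 φ π j Q c where
  vz : v ∈ Ce (φ z1) ⊓ Ce (φ tt)
  v2 : v * v = φ tt
  aV : Ac (φ tt) Q c v MV
  cz : Ce (φ z1) ⊓ Ce (φ tt) ≤ NN (φ tt) Q
  ker : ∀ g, Ac (φ tt) Q c g MI → g ∈ Q
  st : ∀ g ∈ MM φ, ∃ k < 48, Ac (φ tt) Q c g (T48 k)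

/-- the fifth configuration -/
structure W4 (φ : AA →* G) (π : G → M5) (j : G) (Q : Subgroup G) (c : G → ℕ) (v : G) : Prop
    extends W3 φ π j Q c v where
  tp : ∀ x ∈ Q, IsConj (φ tt) x ↔ x ≠ 1 ∧ dt (c x) = 0
  tr4 : ∀ x ∈ Q, c x ≠ 0 → dt (c x) = 0 → ∃ n ∈ NN (φ tt) Q, n * x * n⁻¹ = φ x0
  o4 : ∀ x ∈ Q, x * x ≠ 1 → ∃ n ∈ NN (φ tt) Q, n * x * n⁻¹ * φ a1 = φ a1 * (n * x * n⁻¹)
  card : Nat.card (NN (φ tt) Q) ≤ 3686400
  gen : ∀ i < 3, ∃ g, Act (φ tt) Q c g (gn i)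
  inv : ∀ g ∈ NN (φ tt) Q, g * g = 1 ∨ g * g = φ tt → g ∉ Q → ∃ n ∈ NN (φ tt) Q,
    ∃ r ∈ [v, φ sg, φ (sp * sg)], n * g * n⁻¹ = r ∨ n * g * n⁻¹ = r * φ tt

theorem force_eq_D2 : True := by
  have := @col8.eq_1
  have := @mm.eq_1
  have := @MI.eq_1
  have := @MA.eq_1
  have := @MB.eq_1
  have := @MJ.eq_1
  have := @MS.eq_1
  have := @MP.eq_1
  have := @MV.eq_1
  have := @MN.eq_1
  have := @MZ.eq_1
  have := @mp.eq_1
  have := @mp.eq_2
  have := @mp.eq_def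
  have := @TV.eq_1
  have := @T16.eq_1
  have := @T48.eq_1
  have := @NN.eq_1.{0}
  have := @Ac.eq_1.{0}
  have := @MM.eq_1.{0}
  trivial

variable {z : G} {Q : Subgroup G} {c : G → ℕ} {g k x y : G} {M N : ℕ}

theorem NN.cj (hg : g ∈ NN z Q) (hx : x ∈ Q) : g * x * g⁻¹ ∈ Q := conj_mem hg.2 hx

theorem NN.cj' (hg : g ∈ NN z Q) (hx : x ∈ Q) : g⁻¹ * x * g ∈ Q := by
  simpa using NN.cj (inv_mem hg) hx

theorem mem_NN [Finite G] (h1 : g ∈ Ce z) (h2 : ∀ x ∈ Q, g * x * g⁻¹ ∈ Q) : g ∈ NN z Q := ⟨h1, mem_norm h2⟩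

theorem Ac.act (a : Ac z Q c g M) : Act z Q c g (lm M) := ⟨mem_Ce.1 a.1.1, a.2⟩

namespace Co

variable (T : Co z Q c)
include T

theorem c_one : c 1 = 0 := (T.zero (one_mem _)).2 (Or.inl rfl)

theorem c_z : c z = 0 := (T.zero T.mem).2 (Or.inr rfl)

theorem c_mulz (hx : x ∈ Q) : c (x * z) = c x := by rw [T.mul hx T.mem, T.c_z, Nat.xor_zero]

theorem c_inv (hx : x ∈ Q) : c x⁻¹ = c x := by
  have := T.mul hx (inv_mem hx)
  rw [mul_inv_cancel, T.c_one] at this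
  exact (Nat.eq_of_xor_eq_zero this.symm).symm

theorem eq_iff (hx : x ∈ Q) (hy : y ∈ Q) : c x = c y ↔ y = x ∨ y = x * z := by
  rw [← Nat.xor_eq_zero_iff, ← T.c_inv hx, ← T.mul (inv_mem hx) hy, T.zero (mul_mem (inv_mem hx) hy),
    inv_mul_eq_one, inv_mul_eq_iff_eq_mul, eq_comm]

theorem n1 (h : c x ≠ 0) : x ≠ 1 := fun e => h (e ▸ T.c_one)

theorem nz (h : c x ≠ 0) : x ≠ z := fun e => h (e ▸ T.c_z)

theorem comm_iff (hx : x ∈ Q) (hy : y ∈ Q) : x * y = y * x ↔ bf (c x) (c y) = 0 := by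
  have key : ∀ x ∈ Q, (qf (c x) = 0 ∧ x * x = 1) ∨ (qf (c x) = 1 ∧ x * x = z) := fun x hx => by
    rcases (f_q _ (T.lt x)).1 with e | e
    · exact Or.inl ⟨e, (T.qs hx).2 e⟩
    · exact Or.inr ⟨e, (T.sq_mem hx).resolve_left fun f => by rw [(T.qs hx).1 f] at e; omega⟩
  have z1 := T.ne_one
  have zz := T.sq
  have e0 : bf (c x) (c y) = qf (c (x * y)) ^^^ (qf (c x) ^^^ qf (c y)) := by rw [T.mul hx hy]; rfl
  rw [e0]
  have k1 := key x hx
  have k2 := key y hy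
  have k3 := key _ (mul_mem hx hy)
  rcases T.comm y hy x hx with e | e
  · have e1 : x * y * (x * y) = x * x * (y * y) := by
      rw [mul_assoc, ← mul_assoc y, e]; group
    rw [e1] at k3
    refine iff_of_true e.symm ?_
    rcases k1 with ⟨a, b⟩ | ⟨a, b⟩ <;> rcases k2 with ⟨d, f⟩ | ⟨d, f⟩ <;>
      rcases k3 with ⟨g, h⟩ | ⟨g, h⟩ <;> simp_all
  · have e1 : x * y * (x * y) = x * x * (y * y) * z := by
      rw [mul_assoc, ← mul_assoc y, e, mul_assoc (x * y), ← T.central y hy]; group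
    rw [e1] at k3
    refine iff_of_false (fun f => z1 (by rwa [f, left_eq_mul] at e)) ?_
    rcases k1 with ⟨a, b⟩ | ⟨a, b⟩ <;> rcases k2 with ⟨d, f⟩ | ⟨d, f⟩ <;>
      rcases k3 with ⟨g, h⟩ | ⟨g, h⟩ <;> simp_all

theorem cardQ [Finite G] : Nat.card Q = 512 := by
  have := ncard_two (S := Q) (Set.toFinite _) c (· * z) (fun x hx => ⟨mul_mem hx T.mem,
    by simpa using T.ne_one⟩) fun x hx y hy => T.eq_iff hx hy
  rw [show c '' Q = (Finset.range 256 : Finset ℕ) from Set.ext fun a => ⟨by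
    rintro ⟨x, -, rfl⟩; simpa using T.lt x, fun h => T.surj a (by simpa using h)⟩, Set.ncard_coe_finset,
    Finset.card_range] at this
  exact this

theorem exists_cj (hx : x ∈ Q) (hy : y ∈ Q) (e : c x = c y) (h0 : c y ≠ 0) : ∃ q ∈ Q, q * x * q⁻¹ = y := by
  rcases (T.eq_iff hx hy).1 e with rfl | rfl
  · exact ⟨1, one_mem _, by simp⟩
  · exact T.exists_conj hx (T.n1 (e ▸ h0)) (T.nz (e ▸ h0))

theorem QN : Q ≤ NN z Q := le_inf T.le_centralizer le_normalizer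

theorem ac_mem (hg : g ∈ Q) : Ac z Q c g MI := ⟨T.QN hg, fun x hx => by
  rw [lm_MI _ (T.lt x)]
  rcases T.conj hx hg with e | e <;> rw [e]
  exact T.c_mulz hx⟩

theorem ac_mul (a : Ac z Q c g M) (b : Ac z Q c k N) : Ac z Q c (g * k) (mm M N) :=
  ⟨mul_mem a.1 b.1, fun x hx => by
    rw [lm_mm _ _ _ (T.lt x), ← b.2 x hx, ← a.2 _ (NN.cj b.1 hx)]; congr 1; group⟩

theorem ac_pow (a : Ac z Q c g M) : ∀ n, Ac z Q c (g ^ n) (mp M n)
  | 0 => pow_zero g ▸ T.ac_mem (one_mem _)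
  | n + 1 => pow_succ g n ▸ T.ac_mul (ac_pow a n) a

theorem ac_congr (a : Ac z Q c g M) (h : ∀ j < 8, lm M (2 ^ j) = lm N (2 ^ j)) : Ac z Q c g N :=
  ⟨a.1, fun x hx => (a.2 x hx).trans ((lin_lm M).ext (lin_lm N) h _ (T.lt x))⟩

theorem ac_inv (a : Ac z Q c g M) (h : mm N M = MI) : Ac z Q c g⁻¹ N := ⟨inv_mem a.1, fun x hx => by
  have m := NN.cj' a.1 hx
  have e := a.2 _ m
  rw [show g * (g⁻¹ * x * g) * g⁻¹ = x by group] at e
  rw [e, ← lm_mm _ _ _ (T.lt _), h, lm_MI _ (T.lt _), inv_inv]⟩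

theorem ac_eq (a : Ac z Q c g M) (b : Ac z Q c g N) : ∀ u < 256, lm M u = lm N u := fun u h => by
  obtain ⟨x, hx, rfl⟩ := T.surj u h
  exact (a.2 x hx).symm.trans (b.2 x hx)

theorem ac_col (a : Ac z Q c g M) : Ac z Q c g (col8 (lm M 1) (lm M 2) (lm M 4) (lm M 8) (lm M 16) (lm M 32)
    (lm M 64) (lm M 128)) :=
  ⟨a.1, fun x hx => by rw [a.2 x hx, lm_fun (fun a _ b _ => lin_lm M a b) (lm_lt M) _ (T.lt x)]⟩

theorem exists_ac (hg : g ∈ NN z Q) : ∃ M, Ac z Q c g M := by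
  choose! s s1 s2 using T.surj
  have key : ∀ x ∈ Q, c (g * s (c x) * g⁻¹) = c (g * x * g⁻¹) := fun x hx => by
    have m := s1 _ (T.lt x)
    rcases (T.eq_iff hx m).1 (s2 _ (T.lt x)).symm with e | e <;> rw [e]
    rw [← T.c_mulz (NN.cj hg hx), mul_assoc (g * x), (show Commute g z from mem_Ce.1 hg.1).inv_left.eq]
    simp only [mul_assoc]
  refine ⟨_, hg, fun x hx => (key x hx).symm.trans (lm_fun (f := fun a => c (g * s a * g⁻¹)) (fun a ha b hb => ?_)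
    (fun _ => T.lt _) _ (T.lt x)).symm⟩
  have := key _ (mul_mem (s1 a ha) (s1 b hb))
  rw [T.mul (s1 a ha) (s1 b hb), s2 a ha, s2 b hb] at this
  rw [this, ← T.mul (NN.cj hg (s1 a ha)) (NN.cj hg (s1 b hb)), conj_mul]

theorem ac_qf (a : Ac z Q c g M) : ∀ u < 256, qf (lm M u) = qf u := fun u hu => by
  obtain ⟨x, hx, rfl⟩ := T.surj u hu
  have e1 := T.qs hx
  have e2 := T.qs (NN.cj a.1 hx)
  rw [a.2 x hx, conj_mul, mul_inv_eq_one, mul_eq_left, e1] at e2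
  have e3 := (f_q _ hu).1
  have e4 := (f_q _ (lm_lt M (c x))).1
  omega

theorem ac_fix (a : Ac z Q c g M) (hx : x ∈ Q) (e : g * x = x * g) : lm M (c x) = c x := by
  rw [← a.2 x hx, e, mul_inv_cancel_right]

end Co

namespace W2

variable {φ : AA →* G} {π : G → M5} {j : G} (h : W2 φ π j Q c)
include h

theorem aJ' : Ac (φ tt) Q c j⁻¹ MJ := h.co.ac_inv h.aJ (by decide +kernel)

theorem aB : Ac (φ tt) Q c (φ a2) MB :=
  h.ja ▸ (show mm (mm MJ MA) MJ = MB by decide +kernel) ▸ h.co.ac_mul (h.co.ac_mul h.aJ h.aA) h.aJ'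

theorem aP : Ac (φ tt) Q c (φ sp) MP := by
  have a := (show mm (mm MJ MS) MJ = MP by decide +kernel) ▸ h.co.ac_mul (h.co.ac_mul h.aJ h.aS) h.aJ'
  rcases h.js with e | e <;> rw [e] at a
  · exact a
  · have b := h.co.ac_mul a (h.co.ac_mem h.co.mem)
    rwa [mul_assoc, tt2, mul_one, show mm MP MI = MP by decide +kernel] at b

theorem aN : Ac (φ tt) Q c (φ (sp * sg)) MN :=
  map_mul φ sp sg ▸ (show mm MP MS = MN by decide +kernel) ▸ h.co.ac_mul h.aP h.aS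

theorem aZ : Ac (φ tt) Q c (φ z1) MZ :=
  (map_mul φ a1 a2).symm ▸ (show mm MA MB = MZ by decide +kernel) ▸ h.co.ac_mul h.aA h.aB

theorem ex : (φ x0 ∈ Q ∧ c (φ x0) = 4) ∧ (φ x1 ∈ Q ∧ c (φ x1) = 8) ∧ (φ x2 ∈ Q ∧ c (φ x2) = 16) ∧
    (φ x3 ∈ Q ∧ c (φ x3) = 32) ∧ φ v0 ∈ Q ∧ c (φ v0) = 65 := by
  have e : ww 1 = x0 ∧ ww 2 = x1 ∧ ww 4 = x2 ∧ ww 8 = x3 ∧ (p0 = ww 5 ∨ p0 = ww 21) := by
    simp only [ww, pr5]; pk
  refine ⟨e.1 ▸ h.e1 1 (by norm_num), e.2.1 ▸ h.e1 2 (by norm_num), e.2.2.1 ▸ h.e1 4 (by norm_num),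
    e.2.2.2.1 ▸ h.e1 8 (by norm_num), ?_⟩
  rw [← h.jv]
  rcases e.2.2.2.2 with f | f <;> rw [f]
  exacts [h.e2 5 (by norm_num), h.e2 21 (by norm_num)]

theorem PN : PP φ ≤ NN (φ tt) Q := by
  rintro _ ⟨u, rfl⟩
  rw [pp, map_mul, H20.L43.pw, H20.L43.pw, map_pow, map_pow]
  exact mul_mem (pow_mem h.aA.1 _) (pow_mem h.aB.1 _)

end W2

end H54.T3
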