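import Cfsg.Agent.Lib.P3L.A1
import Cfsg.Agent.Lib.P3L.Tools
import Cfsg.Agent.Lib.A9.Main9

/-! The `3`-local characterisation of `HN`: the interfaces. -/

set_option autoImplicit false

namespace H54.T3

open Subgroup H20.L43 Equiv H58.SE

/-- two by two matrices over the field with five elements -/
@[ext] structure M5 where
  (a b c d : ZMod 5)
deriving DecidableEq, Fintype

instance : Mul M5 := ⟨fun p q => ⟨p.a * q.a + p.b * q.c, p.a * q.b + p.b * q.d,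
  p.c * q.a + p.d * q.c, p.c * q.b + p.d * q.d⟩⟩

instance : One M5 := ⟨⟨1, 0, 0, 1⟩⟩

theorem M5.mul_def (p q : M5) : p * q = ⟨p.a * q.a + p.b * q.c, p.a * q.b + p.b * q.d,
  p.c * q.a + p.d * q.c, p.c * q.b + p.d * q.d⟩ := rfl

theorem M5.one_def : (1 : M5) = ⟨1, 0, 0, 1⟩ := rfl

instance : Monoid M5 where
  mul_assoc p q r := by simp only [M5.mul_def, M5.ext_iff]; refine ⟨?_, ?_, ?_, ?_⟩ <;> ring
  one_mul p := by simp [M5.mul_def, M5.one_def]
  mul_one p := by simp [M5.mul_def, M5.one_def]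

/-- the determinant -/
def M5.det (p : M5) : ZMod 5 := p.a * p.d - p.b * p.c

/-- the inverse of an element of determinant one -/
def M5.iv (p : M5) : M5 := ⟨p.d, -p.b, -p.c, p.a⟩

/-- minus one -/
def mo5 : M5 := ⟨-1, 0, 0, -1⟩

variable {G : Type*} [Group G]

/-- `C / N ≅ SL₂(5)` -/
structure S5 (C N : Subgroup G) (π : G → M5) : Prop where
  le : N ≤ C
  pm : ∀ g ∈ C, ∀ k ∈ C, π (g * k) = π g * π k
  pd : ∀ g ∈ C, (π g).det = 1
  pk : ∀ g ∈ C, π g = 1 ↔ g ∈ N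
  ps : ∀ m : M5, m.det = 1 → ∃ g ∈ C, π g = m

/-- `g` acts on `J` as the matrix `m` -/
def Rl (b : V4 → G) (g : G) (m : M4) : Prop := ∀ u, g * b u * g⁻¹ = b (mv m u)

/-- a Siegel element -/
def mU : M4 := ⟨1, 1, 2, 2, 2, 1, 1, 2, 1, 2, 1, 2, 1, 1, 1, 1⟩

/-- a similarity -/
def mA : M4 := ⟨0, 1, 0, 1, 0, 1, 0, 2, 2, 0, 2, 0, 2, 0, 1, 0⟩

/-- a second Siegel element -/
def mE : M4 := ⟨1, 1, 1, 2, 2, 1, 2, 2, 2, 1, 1, 1, 1, 1, 2, 1⟩

/-- words in the three generators -/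
def wd (l : List (Fin 3)) : M4 := (l.map ![mU, mA, mE]).prod

/-- the stabiliser of the first basis vector -/
def am (w : H58.N9.W) : M4 := cols (1, 0, 0, 0) (0, H58.N9.act w (1, 0, 0)) (0, H58.N9.act w (0, 1, 0))
  (0, H58.N9.act w (0, 0, 1))

/-- the frame on `J = 3⁴` -/
structure Fr (b : V4 → G) : Prop where
  add : ∀ u v, b (u + v) = b u * b v
  inj : ∀ u, b u = 1 → u = 0
  cJ : ∀ g, Rl b g 1 → ∃ u, b u = g
  gen : ∀ l, ∃ g, Rl b g (wd l)
  st : ∀ g, g * b (1, 0, 0, 0) = b (1, 0, 0, 0) * g → (∀ u, ∃ v, g * b u * g⁻¹ = b v) →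
    ∃ w, Rl b g (am w)
  sig : ∀ U : Subgroup G, (Nat.card U).Coprime 3 → (∀ u, ∀ x ∈ U, b u * x * (b u)⁻¹ ∈ U) → U = ⊥
  nc : ¬ IsConj (b (1, 0, 0, 0)) (b (1, 1, 1, 0))
  fA : ∃ s f, Rl b s (-1) ∧ Rl b f mU ∧ f * s = s * f ∧ IsConj (b (1, 0, 0, 0)) f
  cz : ∀ t, t * t = 1 → t ≠ 1 → t ∈ Ce (b (1, 1, 1, 0)) →
    ∃ π, S5 (Ce (b (1, 1, 1, 0)) ⊓ Ce t) (zpowers (b (1, 1, 1, 0))) π

instance sm12 : H58.Cd.Sm 12 := ⟨by norm_num⟩

/-- permutations of twelve points -/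
abbrev P12 := Perm (Fin 12)

/-- the three-cycles -/
def ee (i : Fin 12) : P12 := swap i (i + 1) * swap (i + 1) (i + 2)

/-- the elements of `J` -/
def jj (u : V4) : P12 := pw (ee 0) u.1 * pw (ee 3) u.2.1 * pw (ee 6) u.2.2.1 * pw (ee 9) u.2.2.2

/-- the subgroup `A₁₂` -/
structure Tw (m : PH P12 G) : Prop where
  S : ∀ {p}, p ∈ m.S ↔ Perm.sign p = 1
  c1 : ∀ g, g * m.f (ee 0) = m.f (ee 0) * g → g ∈ m.range
  fr : Fr fun u => m.f (jj u)

theorem force_eq_T3 : True := by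
  have := @M5.det.eq_1
  have := @M5.iv.eq_1
  have := @mo5.eq_1
  have := @Rl.eq_1.{0}
  have := @mU.eq_1
  have := @mA.eq_1
  have := @mE.eq_1
  have := @wd.eq_1
  have := @am.eq_1
  have := @ee.eq_1
  have := @jj.eq_1
  trivial

variable {b : V4 → G} {g k : G} {m n : M4}

theorem Rl.mul (h : Rl b g m) (h' : Rl b k n) : Rl b (g * k) (m * n) := fun u => by
  rw [mv_mul, ← h, ← h']; group

theorem Rl.inv (h : Rl b g m) (e : m * n = 1) : Rl b g⁻¹ n := fun u => by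
  have := h (mv n u)
  rw [← mv_mul, e, mv_one] at this
  rw [← this]; group

theorem rl_one : Rl b 1 1 := fun u => by simp [mv_one]

namespace S5

variable {C N : Subgroup G} {π : G → M5} (h : S5 C N π)
include h

theorem one : π 1 = 1 := (h.pk 1 (one_mem _)).2 (one_mem _)

theorem inv {g : G} (hg : g ∈ C) : π g⁻¹ = (π g).iv := by
  have e := h.pm _ hg _ (inv_mem hg)
  rw [mul_inv_cancel, h.one] at e
  have : (π g).iv * π g = 1 := by
    have := h.pd g hg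
    simp only [M5.det, M5.iv, M5.mul_def, M5.one_def, M5.ext_iff] at this ⊢
    refine ⟨?_, ?_, ?_, ?_⟩
    exacts [by linear_combination this, by ring, by ring, by linear_combination this]
  rw [← one_mul (π g⁻¹), ← this, mul_assoc, ← e, mul_one]

theorem pow {g : G} (hg : g ∈ C) (n : ℕ) : π (g ^ n) = π g ^ n := by
  induction n with
  | zero => rw [pow_zero, pow_zero, h.one]
  | succ n ih => rw [pow_succ, h.pm _ (pow_mem hg n) _ hg, ih, pow_succ]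

theorem cj {g k : G} (hg : g ∈ C) (hk : k ∈ C) : π (g * k * g⁻¹) = π g * π k * (π g).iv := by
  rw [h.pm _ (mul_mem hg hk) _ (inv_mem hg), h.pm _ hg _ hk, h.inv hg]

theorem eq {g k : G} (hg : g ∈ C) (hk : k ∈ C) (e : π g = π k) : g * k⁻¹ ∈ N := by
  rw [← h.pk _ (mul_mem hg (inv_mem hk)), h.pm _ hg _ (inv_mem hk), e, ← h.pm _ hk _ (inv_mem hk),
    mul_inv_cancel, h.one]

end S5

end H54.T3
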