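import Cfsg.Agent.Lib.HN3.D2

/-! The normaliser of `2^{1+8}`: orbits, order and involutions. -/

set_option autoImplicit false
set_option maxRecDepth 100000
set_option synthInstance.maxSize 100000
set_option linter.unusedSectionVars false

namespace H54.T3

open Equiv Equiv.Perm H58.Cd H20.L43 Subgroup H58.SE H39.MS H95

namespace GA

/-- distance from the base points -/
def lv (a : ℕ) : ℕ := Nat.land (Nat.shiftRight 0x7552675454743546585456727555453656867565676445563345433553352224668485546864535776536641556542655755657667534465255532542554114358636484765554565675866368454546656547656652653444464445441333022341444354436665343253405564655455545554342156433443445434202310 (Nat.mul 4 a)) 15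

/-- the base points -/
def bs (a : ℕ) : ℕ := if dt a = 0 then 4 else if dt a = 1 then 65 else 40

/-- a table -/
def t48 (k : ℕ) : ℕ := Nat.land (Nat.shiftRight 0xc884e99708040907c8846ddb08040d0bc884a55f0804050fc884211308040103c48ce79e08040907c48c6bd608040d0bc48caf5a0804050fc48c231208040103cc88ee9908040907cc8866dd08040d0bcc88aa550804050fcc88221108040103c080e09008040907c08060d008040d0bc080a0500804050fc0802010080401034cc8e9970804070e4cc86ddb08040b064cc8a55f08040f0a4cc821130804030248c4e79e0804070e48c46bd608040b0648c4af5a08040f0a48c423120804030244ccee990804070e44cc66dd08040b0644ccaa5508040f0a44cc22110804030240c0e0900804070e40c060d008040b0640c0a05008040f0a40c0201008040302844ce99708040e09844c6ddb0804060d844ca55f08040a05844c2113080402018c48e79e08040e098c486bd60804060d8c48af5a08040a058c482312080402018844ee9908040e09884466dd0804060d8844aa5508040a0588442211080402018040e09008040e09804060d00804060d8040a05008040a058040201008040201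 (Nat.mul 64 k)) 18446744073709551615

/-- the stabiliser of the code `4` -/
def s96 (k : ℕ) : ℕ := mm (mp MS (k / 48)) (t48 (k % 48))

/-- words -/
def wm : List ℕ → ℕ
  | [] => MI
  | i :: L => mm ([MA, MJ, MS, MV].getD i MI) (wm L)

theorem eqns_GA : True := by
  have := @lv.eq_1
  have := @bs.eq_1
  have := @t48.eq_1
  have := @s96.eq_1
  have := @wm.eq_1
  have := @wm.eq_2
  have := @wm.eq_def
  trivial

theorem k48 : ∀ k < 48, T48 k = t48 k := by decide +kernel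

theorem korb : ∀ a < 256, a ≠ 0 → a = bs a ∨ ∃ M ∈ [MA, MJ, MS, MV], lv (lm M a) < lv a ∧ lm M a ≠ 0 ∧
    bs (lm M a) = bs a := by decide +kernel

theorem kbs : ∀ a < 256, (dt a = 0 → bs a = 4) ∧ (qf a ≠ 0 → a ≠ 0 ∧ bs a = 40) ∧
    (dt a = 0 ∨ qf a ≠ 0 ∨ a ≠ 0 ∧ bs a = 65) := by decide +kernel

theorem kline : (∀ y < 256, dt y = 0 → dt (4 ^^^ y) = 0 → dt (8 ^^^ y) = 0) ∧
    ∀ d < 256, (∀ y < 256, dt y = 0 → dt (4 ^^^ y) = 0 → dt (d ^^^ y) = 0) →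
      d = 0 ∨ d = 4 ∨ d = 8 ∨ d = 12 := by decide +kernel

theorem kbf : ∀ p q : Prop, ∃ b < 256, (bf b 4 = 0 ↔ p) ∧ (bf b 8 = 0 ↔ q) := fun p q => by
  have : ∀ p q : Bool, ∃ b < 256, (bf b 4 = 0 ↔ p) ∧ (bf b 8 = 0 ↔ q) := by decide +kernel
  classical
  simpa using this (decide p) (decide q)

theorem kgn : ∀ i < 3, ∃ L ∈ [[2], [3, 0, 3, 2, 3, 1, 2, 1, 0], [2, 0, 3, 2, 0, 0]],
    ∀ j < 8, lm (wm L) (2 ^ j) = gn i (2 ^ j) := by decide +kernel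

theorem kinv : ∀ k < 96, (∀ j < 8, lm (mm (s96 k) (s96 k)) (2 ^ j) = lm MI (2 ^ j)) → s96 k = MI ∨
    ∃ L ∈ [[], [0, 0], [0], [2], [3, 1, 2, 3, 1], [3, 1, 2, 3, 0, 0, 1, 0], [3, 1, 2, 3, 0, 1, 0, 0], [2, 0, 0],
      [3, 1, 2, 3, 0, 1, 0], [3, 1, 2, 3, 1, 0, 0], [3, 1, 2, 3, 0, 0, 1], [2, 0], [3, 0, 1, 2, 0, 0, 3, 1],
      [3, 1, 2, 3, 0, 1], [3, 1, 2, 3, 1, 0], [3], [3, 0, 0], [3, 0]],
    ∃ R ∈ [MV, MS, MN], mm (wm L) (s96 k) = mm R (wm L) := by decide +kernel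

theorem kfix : ∀ R ∈ [MV, MS, MN], ∀ a < 256, a ^^^ lm R a = 0 → ∃ b < 256, b ^^^ a ^^^ lm R b = 0 := by
  decide +kernel

theorem k75 : ((Finset.range 256).filter fun a => a ≠ 0 ∧ dt a = 0).card = 75 := by decide +kernel

variable {G : Type*} [Group G]

section
variable {z : G} {Q : Subgroup G} {c : G → ℕ} {g k x y : G} {M : ℕ} (T : Co z Q c)
include T

theorem cong (hg : g ∈ NN z Q) (hx : x ∈ Q) (hy : y ∈ Q) (e : c x = c y) :
    c (g * x * g⁻¹) = c (g * y * g⁻¹) := by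
  obtain ⟨M, a⟩ := T.exists_ac hg
  rw [a.2 x hx, a.2 y hy, e]

theorem cinj (hg : g ∈ NN z Q) (hx : x ∈ Q) (hy : y ∈ Q) (e : c (g * x * g⁻¹) = c (g * y * g⁻¹)) :
    c x = c y := by
  simpa [mul_assoc] using cong T (inv_mem hg) (NN.cj hg hx) (NN.cj hg hy) e

theorem same (a : Ac z Q c g M) (b : Ac z Q c k M) : Ac z Q c (g * k⁻¹) MI :=
  ⟨mul_mem a.1 (inv_mem b.1), fun x hx => by
    have m := NN.cj' b.1 hx
    rw [lm_MI _ (T.lt x), show g * k⁻¹ * x * (g * k⁻¹)⁻¹ = g * (k⁻¹ * x * k) * g⁻¹ by group, a.2 _ m,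
      ← b.2 _ m]
    congr 1; group⟩

theorem corr (hg : g ∈ Q) (hx : x ∈ Q) (hy : y ∈ Q) (e : c x = c y) (b : bf (c g) (c x) = 0 ↔ y = x) :
    g * y * g⁻¹ = x := by
  rw [← T.comm_iff hg hx] at b
  rcases (T.eq_iff hx hy).1 e with rfl | rfl
  · rw [b.2 rfl, mul_inv_cancel_right]
  · rw [← conj_mul, T.conj_of_ne hx hg (mt b.1 (by simpa using T.ne_one)), T.central g hg,
      mul_inv_cancel_right, mul_assoc, T.sq, mul_one]

theorem cz0 (hx : x = 1 ∨ x = z) : c x = 0 := by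
  rcases hx with rfl | rfl
  exacts [T.c_one, T.c_z]

end

variable [Finite G] {φ : AA →* G} {π : G → M5} {j v : G} {Q : Subgroup G} {c : G → ℕ}
  (h : W3 φ π j Q c v)
include h

theorem word : ∀ L, ∃ g, Ac (φ tt) Q c g (wm L)
  | [] => ⟨1, h.co.ac_mem (one_mem _)⟩
  | i :: L => by
    obtain ⟨g, a⟩ := word L
    have : ∃ k, Ac (φ tt) Q c k ([MA, MJ, MS, MV].getD i MI) := by
      rcases i with _ | _ | _ | _ | i
      exacts [⟨_, h.aA⟩, ⟨_, h.aJ⟩, ⟨_, h.aS⟩, ⟨_, h.aV⟩, ⟨1, h.co.ac_mem (one_mem _)⟩]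
    obtain ⟨k, b⟩ := this
    exact ⟨_, h.co.ac_mul b a⟩

theorem orb : ∀ n, ∀ x ∈ Q, lv (c x) = n → c x ≠ 0 → ∀ y ∈ Q, c y = bs (c x) →
    ∃ g ∈ NN (φ tt) Q, g * x * g⁻¹ = y := fun n => by
  induction n using Nat.strong_induction_on with
  | _ n ih =>
    intro x hx e h0 y hy f
    rcases korb _ (h.co.lt x) h0 with e1 | ⟨M, hM, e1, e2, e3⟩
    · obtain ⟨q, hq, e⟩ := h.co.exists_cj hx hy (e1.trans f.symm) (by rw [f, ← e1]; exact h0)
      exact ⟨q, h.co.QN hq, e⟩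
    · obtain ⟨k, a⟩ : ∃ k, Ac (φ tt) Q c k M := by
        simp only [List.mem_cons, List.not_mem_nil, or_false] at hM
        rcases hM with rfl | rfl | rfl | rfl
        exacts [⟨_, h.aA⟩, ⟨_, h.aJ⟩, ⟨_, h.aS⟩, ⟨_, h.aV⟩]
      rw [← a.2 x hx] at e1 e2 e3
      obtain ⟨g, hg, e⟩ := ih _ (e ▸ e1) _ (NN.cj a.1 hx) rfl e2 y hy (f.trans e3.symm)
      exact ⟨g * k, mul_mem hg a.1, by rw [← e]; group⟩

theorem tr4 : ∀ x ∈ Q, c x ≠ 0 → dt (c x) = 0 → ∃ n ∈ NN (φ tt) Q, n * x * n⁻¹ = φ x0 := fun x hx h0 e =>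
  orb h _ x hx rfl h0 _ h.ex.1.1 (h.ex.1.2.trans ((kbs _ (h.co.lt x)).1 e).symm)

theorem o4 : ∀ x ∈ Q, x * x ≠ 1 → ∃ n ∈ NN (φ tt) Q, n * x * n⁻¹ * φ a1 = φ a1 * (n * x * n⁻¹) :=
  fun x hx e => by
  obtain ⟨e1, e2⟩ := (kbs _ (h.co.lt x)).2.1 (mt (h.co.qs hx).2 e)
  obtain ⟨m, f⟩ := h.e1 10 (by norm_num)
  obtain ⟨n, hn, e⟩ := orb h _ x hx rfl e1 _ m (by rw [f, e2])
  exact ⟨n, hn, by rw [e]; exact cmφ φ (kw 10 (by norm_num)).2.1⟩

theorem tp : ∀ x ∈ Q, IsConj (φ tt) x ↔ x ≠ 1 ∧ dt (c x) = 0 := fun x hx => by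
  refine ⟨fun e => ⟨fun f => h.t1 (isConj_one_left.1 (f ▸ e)), ?_⟩, fun ⟨e1, e2⟩ => ?_⟩
  · rcases (kbs _ (h.co.lt x)).2.2 with f | f | ⟨f1, f2⟩
    · exact f
    · obtain ⟨g, rfl⟩ := _root_.isConj_iff.1 e
      exact absurd ((h.co.qs hx).1 (by rw [conj_mul, tt2]; simp)) f
    · obtain ⟨n, -, f⟩ := orb h _ x hx rfl f1 _ h.ex.2.2.2.2.1 (h.ex.2.2.2.2.2.trans f2.symm)
      exact absurd ((e.trans (_root_.isConj_iff.2 ⟨n, f⟩)).trans (_root_.isConj_iff.2 ⟨j, h.jv⟩).symm) h.n2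
  · by_cases h0 : c x = 0
    · rw [((h.co.zero hx).1 h0).resolve_left e1]
    · obtain ⟨n, -, f⟩ := tr4 h x hx h0 e2
      exact (ic φ (swap 1 3 * swap 7 9)).trans (_root_.isConj_iff.2 ⟨n, f⟩).symm

theorem dtp {g x : G} (hg : g ∈ NN (φ tt) Q) (hx : x ∈ Q) (e : dt (c x) = 0) : dt (c (g * x * g⁻¹)) = 0 := by
  by_cases h1 : x = 1
  · simpa [h1] using e
  · exact ((tp h _ (NN.cj hg hx)).1 (((tp h x hx).2 ⟨h1, e⟩).trans (_root_.isConj_iff.2 ⟨g, rfl⟩))).2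

theorem fix48 {g : G} (hg : g ∈ NN (φ tt) Q) (e0 : c (g * φ x0 * g⁻¹) = 4) (e1 : c (g * φ x1 * g⁻¹) = 8) :
    ∃ k < 48, Ac (φ tt) Q c g (t48 k) := by
  obtain ⟨⟨m0, c0⟩, ⟨m1, c1⟩, -⟩ := h.ex
  obtain ⟨b, hb, b0, b1⟩ := kbf (g * φ x0 * g⁻¹ = φ x0) (g * φ x1 * g⁻¹ = φ x1)
  obtain ⟨e, he, rfl⟩ := h.co.surj b hb
  have f0 := corr h.co he m0 (NN.cj hg m0) (c0.trans e0.symm) (c0 ▸ b0)
  have f1 := corr h.co he m1 (NN.cj hg m1) (c1.trans e1.symm) (c1 ▸ b1)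
  obtain ⟨k, hk, a⟩ := h.st (e * g) ⟨mul_mem (h.co.QN he).1 hg.1,
    mem_Ce.2 (mul_inv_eq_iff_eq_mul.1 (.trans (by group) f0)),
    mem_Ce.2 (mul_inv_eq_iff_eq_mul.1 (.trans (by group) f1))⟩
  refine ⟨k, hk, hg, fun x hx => ?_⟩
  rw [← k48 k hk, ← a.2 x hx, ← lm_MI _ (h.co.lt _), ← (h.co.ac_mem he).2 _ (NN.cj hg hx)]
  congr 1; group

theorem nf {g : G} (hg : g ∈ NN (φ tt) Q) (e0 : c (g * φ x0 * g⁻¹) = 4) :
    ∃ k < 96, Ac (φ tt) Q c g (s96 k) := by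
  obtain ⟨⟨m0, c0⟩, ⟨m1, c1⟩, -⟩ := h.ex
  have key : ∀ {x y}, x ∈ Q → y ∈ Q → c (g * (x * (g⁻¹ * y * g)) * g⁻¹) = c (g * x * g⁻¹) ^^^ c y :=
    fun hx hy => by rw [← h.co.mul (NN.cj hg hx) hy]; congr 1; group
  rcases kline.2 _ (h.co.lt (g * φ x1 * g⁻¹)) (fun y hy d1 d2 => by
    obtain ⟨y, my, rfl⟩ := h.co.surj y hy
    have m := NN.cj' hg my
    have a1 := dtp h (inv_mem hg) my d1
    have a2 := dtp h (inv_mem hg) (NN.cj hg (mul_mem m0 m)) (by rw [key m0 my, e0, d2])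
    rw [inv_inv] at a1
    rw [show ∀ u : G, g⁻¹ * (g * u * g⁻¹) * g⁻¹⁻¹ = u by intro u; group, h.co.mul m0 m, c0] at a2
    rw [← key m1 my]
    exact dtp h hg (mul_mem m1 m) (by rw [h.co.mul m1 m, c1, kline.1 _ (h.co.lt _) a1 a2])) with e | e | e | e
  · have := cinj h.co hg m1 (one_mem _) (by simpa [h.co.c_one] using e)
    rw [c1, h.co.c_one] at this; omega
  · have := cinj h.co hg m1 m0 (e.trans e0.symm)
    omega
  · obtain ⟨k, hk, a⟩ := fix48 h hg e0 e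
    have b := h.co.ac_mul (h.co.ac_pow h.aS 0) a
    rw [pow_zero, one_mul] at b
    exact ⟨k, by omega, by rwa [s96, Nat.div_eq_of_lt hk, Nat.mod_eq_of_lt hk]⟩
  · have s : ∀ x ∈ Q, c (φ sg * g * x * (φ sg * g)⁻¹) = lm MS (c (g * x * g⁻¹)) := fun x hx => by
      rw [← h.aS.2 _ (NN.cj hg hx)]; congr 1; group
    obtain ⟨k, hk, a⟩ := fix48 h (mul_mem h.aS.1 hg) (by rw [s _ m0, e0]; decide +kernel)
      (by rw [s _ m1, e]; decide +kernel)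
    have b := h.co.ac_mul (h.co.ac_pow h.aS 1) a
    rw [pow_one, ← mul_assoc, ← map_mul, show sg * sg = 1 by pk, map_one, one_mul] at b
    exact ⟨k + 48, by omega, by rwa [s96, show (k + 48) / 48 = 1 by omega, show (k + 48) % 48 = k by omega]⟩

theorem card : Nat.card (NN (φ tt) Q) ≤ 3686400 := by
  obtain ⟨⟨m0, c0⟩, -⟩ := h.ex
  let S := (Finset.range 256).filter fun a => a ≠ 0 ∧ dt a = 0
  have h1 : ∀ a : S, ∃ n ∈ NN (φ tt) Q, ∀ x ∈ Q, c x = a → c (n * x * n⁻¹) = 4 := fun ⟨a, ha⟩ => by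
    obtain ⟨a1, a2, a3⟩ := Finset.mem_filter.1 ha
    obtain ⟨y, hy, rfl⟩ := h.co.surj a (Finset.mem_range.1 a1)
    obtain ⟨n, hn, e⟩ := tr4 h y hy a2 a3
    exact ⟨n, hn, fun x hx f => by rw [cong h.co hn hx hy f, e, c0]⟩
  have h2 : ∀ k : Fin 96, ∃ r ∈ NN (φ tt) Q, ∀ g, Ac (φ tt) Q c g (s96 k) → g * r⁻¹ ∈ Q := fun k => by
    by_cases e : ∃ r, Ac (φ tt) Q c r (s96 k)
    · obtain ⟨r, a⟩ := e
      exact ⟨r, a.1, fun g b => h.ker _ (same h.co b a)⟩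
    · exact ⟨1, one_mem _, fun g b => absurd ⟨g, b⟩ e⟩
  choose n n1 n2 using h1
  choose r r1 r2 using h2
  refine (Nat.card_le_card_of_surjective (fun p : S × Fin 96 × Q => (⟨(n p.1)⁻¹ * (p.2.2 * r p.2.1),
    mul_mem (inv_mem (n1 _)) (mul_mem (h.co.QN p.2.2.2) (r1 _))⟩ : NN (φ tt) Q)) fun ⟨g, hg⟩ => ?_).trans ?_
  · let a : S := ⟨c (g * φ x0 * g⁻¹), Finset.mem_filter.2 ⟨Finset.mem_range.2 (h.co.lt _), fun e => by
      have := cinj h.co hg m0 (one_mem _) (by simpa [h.co.c_one] using e)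
      rw [c0, h.co.c_one] at this; omega, dtp h hg m0 (by rw [c0]; decide +kernel)⟩⟩
    obtain ⟨k, hk, b⟩ := nf h (mul_mem (n1 a) hg) (by rw [← n2 a _ (NN.cj hg m0) rfl]; congr 1; group)
    exact ⟨⟨a, ⟨k, hk⟩, _, r2 ⟨k, hk⟩ _ b⟩, Subtype.ext (by simp)⟩
  · rw [Nat.card_prod, Nat.card_prod, h.co.cardQ, Nat.card_eq_fintype_card, Fintype.card_coe, k75]
    simp

theorem gen : ∀ i < 3, ∃ g, Act (φ tt) Q c g (gn i) := fun i hi => by
  obtain ⟨L, -, e⟩ := kgn i hi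
  obtain ⟨g, a⟩ := word h L
  exact ⟨g, a.act.1, fun x hx => (a.2 x hx).trans ((lin_lm _).ext (lin_gn i) e _ (h.co.lt x))⟩

theorem fixp {g : G} (hg : g ∈ NN (φ tt) Q) (h2 : g * g ∈ Q) :
    ∃ x ∈ Q, c x ≠ 0 ∧ dt (c x) = 0 ∧ c (g * x * g⁻¹) = c x := by
  obtain ⟨M, a⟩ := h.co.exists_ac hg
  by_contra hn
  have := Finset.sum_involution (s := (Finset.range 256).filter fun a => a ≠ 0 ∧ dt a = 0)
    (f := fun _ => (1 : ZMod 2)) (fun u _ => lm M u) (fun _ _ => rfl) (fun u hu _ e => by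
      obtain ⟨a1, a2, a3⟩ := Finset.mem_filter.1 hu
      obtain ⟨y, hy, rfl⟩ := h.co.surj u (Finset.mem_range.1 a1)
      exact hn ⟨y, hy, a2, a3, (a.2 y hy).trans e⟩) (fun u hu => by
      obtain ⟨a1, a2, a3⟩ := Finset.mem_filter.1 hu
      obtain ⟨y, hy, rfl⟩ := h.co.surj u (Finset.mem_range.1 a1)
      rw [← a.2 y hy]
      exact Finset.mem_filter.2 ⟨Finset.mem_range.2 (h.co.lt _), fun e => a2 ((cinj h.co hg hy (one_mem _)
        (by simpa [h.co.c_one] using e)).trans h.co.c_one), dtp h hg hy a3⟩) fun u hu => by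
      have hu := Finset.mem_range.1 (Finset.mem_filter.1 hu).1
      rw [← lm_mm _ _ _ hu, h.co.ac_eq (h.co.ac_mul a a) (h.co.ac_mem h2) u hu, lm_MI u hu]
  rw [Finset.sum_const, k75] at this
  exact absurd this (by decide)

theorem inv : ∀ g ∈ NN (φ tt) Q, g * g = 1 ∨ g * g = φ tt → g ∉ Q → ∃ n ∈ NN (φ tt) Q,
    ∃ r ∈ [v, φ sg, φ (sp * sg)], n * g * n⁻¹ = r ∨ n * g * n⁻¹ = r * φ tt := fun g hg h2 hQ => by
  have sq : ∀ n ∈ NN (φ tt) Q, n * g * n⁻¹ * (n * g * n⁻¹) = 1 ∨ n * g * n⁻¹ * (n * g * n⁻¹) = φ tt :=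
    fun n hn => h2.imp (fun e => by rw [conj_mul, e]; simp) fun e => by
      rw [conj_mul, e, mem_Ce.1 hn.1, mul_inv_cancel_right]
  have mQ : ∀ {x}, x = 1 ∨ x = φ tt → x ∈ Q := by
    rintro _ (rfl | rfl)
    exacts [one_mem _, h.co.mem]
  obtain ⟨x, hx, x1, x2, x3⟩ := fixp h hg (mQ h2)
  obtain ⟨n, hn, e⟩ := tr4 h x hx x1 x2
  obtain ⟨k, hk, a⟩ := nf h (mul_mem (mul_mem hn hg) (inv_mem hn)) (by
    rw [← h.ex.1.2, ← e, ← cong h.co hn (NN.cj hg hx) hx x3]; congr 1; group)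
  rcases kinv k hk (fun i hi => h.co.ac_eq (h.co.ac_mul a a) (h.co.ac_mem (mQ (sq n hn))) _
    (Nat.pow_lt_pow_right (by norm_num) hi : 2 ^ i < 2 ^ 8)) with e | ⟨L, -, R, hR, e⟩
  · have := NN.cj' hn (h.ker _ (e ▸ a))
    exact absurd (by rwa [show n⁻¹ * (n * g * n⁻¹) * n = g by group] at this) hQ
  obtain ⟨w, b⟩ := word h L
  obtain ⟨r, hr, d, r2⟩ : ∃ r ∈ [v, φ sg, φ (sp * sg)], Ac (φ tt) Q c r R ∧ (r * r = 1 ∨ r * r = φ tt) := by
    simp only [List.mem_cons, List.not_mem_nil, or_false] at hR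
    rcases hR with rfl | rfl | rfl
    · exact ⟨v, by simp, h.aV, .inr h.v2⟩
    · exact ⟨φ sg, by simp, h.aS, .inl (by rw [← map_mul, show sg * sg = 1 by pk, map_one])⟩
    · exact ⟨φ (sp * sg), by simp, h.aN, .inl (by rw [← map_mul, show sp * sg * (sp * sg) = 1 by pk, map_one])⟩
  have m := h.ker _ (same h.co (e ▸ h.co.ac_mul b a) (h.co.ac_mul d b))
  have s := sq _ (mul_mem b.1 hn)
  generalize hu : w * (n * g * n⁻¹) * (r * w)⁻¹ = u at m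
  have f : w * n * g * (w * n)⁻¹ = u * r := by rw [← hu]; group
  rw [f, show u * r * (u * r) = u * (r * u * r⁻¹) * (r * r) by group] at s
  have s1 := cz0 h.co s
  rw [h.co.mul (mul_mem m (NN.cj d.1 m)) (mQ r2), cz0 h.co r2, Nat.xor_zero, h.co.mul m (NN.cj d.1 m),
    d.2 u m] at s1
  obtain ⟨y, hy, s2⟩ := kfix R hR _ (h.co.lt u) s1
  obtain ⟨y, my, rfl⟩ := h.co.surj y hy
  rw [← h.co.mul my m, ← h.co.c_inv my, ← d.2 _ (inv_mem my), ← h.co.mul (mul_mem my m) (NN.cj d.1 (inv_mem my)),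
    h.co.zero (mul_mem (mul_mem my m) (NN.cj d.1 (inv_mem my)))] at s2
  refine ⟨y * (w * n), mul_mem (h.co.QN my) (mul_mem b.1 hn), r, hr, ?_⟩
  rw [show y * (w * n) * g * (y * (w * n))⁻¹ = y * (w * n * g * (w * n)⁻¹) * y⁻¹ by group, f,
    show y * (u * r) * y⁻¹ = y * u * (r * y⁻¹ * r⁻¹) * r by group]
  exact s2.imp (fun e => by rw [e, one_mul]) fun e => by rw [e, mem_Ce.1 d.1.1]

end GA

variable {G : Type*} [Group G] [Finite G] {φ : AA →* G} {π : G → M5} {j v : G} {Q : Subgroup G} {c : G → ℕ}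

theorem W3.w4 (h : W3 φ π j Q c v) : W4 φ π j Q c v :=
  ⟨h, GA.tp h, GA.tr4 h, GA.o4 h, GA.card h, GA.gen h, GA.inv h⟩

end H54.T3
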