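import Cfsg.Agent.Lib.HN3.D2

/-! The group `2^{1+8}` is strongly closed in the centraliser of its centre. -/

set_option autoImplicit false
set_option maxRecDepth 100000
set_option synthInstance.maxSize 100000
set_option linter.unusedSectionVars false

namespace H54.T3

open Equiv Equiv.Perm H58.Cd H20.L43 Subgroup H58.SE H39.MS H95

variable {G : Type*} [Group G] [Finite G] {φ : AA →* G} {π : G → M5} {j v : G} {Q : Subgroup G} {c : G → ℕ}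

namespace SC

theorem k1 : ∀ a < 256, ∃ b < 256, dt b ≠ 0 ∧ dt (a ^^^ b) ≠ 0 := by decide +kernel

theorem k2 : ∀ a < 256, lm MN a = a → ∃ b < 256, b ^^^ lm MN b = a := by decide +kernel

theorem k3 : ∀ a < 256, dt a ≠ 0 → qf a = 0 → dt (a ^^^ 4) = 0 → ∀ b < 256, qf b ≠ 0 →
    dt (b ^^^ 4) = 0 → dt (a ^^^ b ^^^ 4) = 0 → ∀ p < 256, p ≠ 0 → dt p = 0 → dt (p ^^^ 4) = 0 →
    dt (p ^^^ a ^^^ 4) = 0 → dt (p ^^^ b ^^^ 4) ≠ 0 := by decide +kernel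

/-- the stabiliser of `y` modulo `t` -/
def Lz {t : G} (ht : t * t = 1) (y : G) : Subgroup G where
  carrier := {g | g * t = t * g ∧ (g * y * g⁻¹ = y ∨ g * y * g⁻¹ = y * t)}
  one_mem' := by simp
  mul_mem' := by
    rintro a b ⟨h1, h2⟩ ⟨h3, h4⟩
    refine ⟨(show Commute a t from h1).mul_left h3, ?_⟩
    have e : a * b * y * (a * b)⁻¹ = a * (b * y * b⁻¹) * a⁻¹ := by group
    have e' : a * (y * t) * a⁻¹ = a * y * a⁻¹ * t := by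
      rw [← conj_mul, h1, mul_inv_cancel_right]
    rcases h4 with h4 | h4 <;> rw [e, h4]
    · exact h2
    · rw [e']
      exact h2.symm.imp (fun f => by rw [f, mul_assoc, ht, mul_one]) fun f => by rw [f]
  inv_mem' := by
    rintro a ⟨h1, h2⟩
    refine ⟨(show Commute a t from h1).inv_left, h2.imp (fun f => ?_) fun f => ?_⟩
    · nth_rewrite 1 [← f]; group
    · calc _ = a⁻¹ * (y * t) * (t * a) := by
            simp only [mul_assoc, inv_inv]; rw [← mul_assoc t, ht, one_mul]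
        _ = _ := by rw [← h1]; nth_rewrite 1 [← f]; group

theorem force_eq_SC : True := by
  have := @Lz.eq_1.{0}
  trivial

theorem cm3 {z g : G} (h3 : z ^ 3 = 1) (hn : g * z * g⁻¹ ∈ zpowers z) (hg : g ^ 3 ∈ zpowers z) :
    g * z = z * g := by
  obtain ⟨i, e⟩ := (mem_zp h3).1 hn
  rw [← mul_inv_eq_iff_eq_mul]
  rcases zm3 i with rfl | rfl | rfl
  · rw [pw_zero, eq_comm, conj_eq_one_iff] at e
    simp [e]
  · simpa using e.symm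
  · rw [pw_neg_one h3] at e
    obtain ⟨n, hn⟩ := hg
    have : g ^ 3 * z * (g ^ 3)⁻¹ = z := by
      rw [← hn, mul_inv_eq_iff_eq_mul]; exact (Commute.zpow_self z n).eq
    rw [← e]
    nth_rewrite 2 [← this]
    rw [show g ^ 3 * z * (g ^ 3)⁻¹ = g * (g * (g * z * g⁻¹) * g⁻¹) * g⁻¹ by
      simp [pow_succ, mul_assoc], ← e, show g * z⁻¹ * g⁻¹ = z by rw [← conj_inv, ← e, inv_inv], e]

theorem nu1 : IsConj (φ tt) (φ (sp * sg)) := ic φ (swap 1 3 * swap 2 7 * swap 7 5 * swap 5 6)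

theorem nu2 : IsConj (φ tt) (φ (sp * sg) * φ tt) := map_mul φ _ tt ▸ ic φ (swap 1 4 * swap 4 3 *
  swap 2 8 * swap 8 10 * swap 10 7 * swap 7 5 * swap 5 9 * swap 9 6)

theorem cjt {k : G} (hk : k ∈ Ce (φ tt)) : k * φ tt * k⁻¹ = φ tt :=
  mul_inv_eq_iff_eq_mul.2 (mem_Ce.1 hk)

variable (h : W4 φ π j Q c v)
include h

theorem c_ne {k e : G} (hk : k ∈ Ce (φ tt)) (he : e ∈ Q) (hq : k * e * k⁻¹ ∉ Q) : c e ≠ 0 := fun f => by
  rcases (h.co.zero he).1 f with rfl | rfl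
  · exact hq (by simp)
  · exact hq (by rw [cjt hk]; exact he)

theorem nv {k e : G} (hk : k ∈ Ce (φ tt)) (he : e ∈ Q) (hz : k * e * k⁻¹ ∈ Ce (φ z1))
    (h2 : k * e * k⁻¹ * (k * e * k⁻¹) = φ tt) : False := by
  obtain ⟨n, hn, e1⟩ := h.o4 e he fun f => h.t1 (by rw [← h2, conj_mul, f]; simp)
  have hw : k * e * k⁻¹ ∈ Ce (φ z1) ⊓ Ce (φ tt) :=
    ⟨hz, (Ce _).mul_mem (mul_mem hk (h.co.le_centralizer he)) (inv_mem hk)⟩
  have hk' : k * n⁻¹ ∈ Ce (φ tt) := mul_mem hk ((Ce _).inv_mem hn.1)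
  have e2 := cc (g := k * n⁻¹) e1
  rw [show k * n⁻¹ * (n * e * n⁻¹) * (k * n⁻¹)⁻¹ = k * e * k⁻¹ by group] at e2
  generalize k * e * k⁻¹ = w at *
  obtain ⟨l, -, hl⟩ := conj_into1 (N := Ce w ⊓ Ce (φ tt)) (R := zpowers (φ z1))
    (pg3 (n := 1) fun x hx => by obtain ⟨i, rfl⟩ := zp hx; exact pp3 _) (fun g hg h1 h3 => by
      have m : g ∈ Ce (φ z1) ⊓ Ce (φ tt) := ⟨mem_Ce.2 (cm3 z13 (h1 _ (mem_zpowers _)) h3), hg.2⟩
      refine (h.s5.pk _ m).1 (by_contra fun f => m2 _ (h.s5.pd _ m) ?_ f _ (h.s5.pd _ hw) ?_ ?_)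
      · rw [← h.s5.pow m, h.s5.pk _ (pow_mem m 3)]; exact h3
      · rw [← h.s5.pm _ m _ hw, mem_Ce.1 hg.1, h.s5.pm _ hw _ m]
      · rw [← h.s5.pm _ hw _ hw, h2, h.pt h.s5])
    (zpowers_le.2 ⟨mem_Ce.2 (mem_Ce.1 hz).symm, PPK z1P⟩)
    (t := k * n⁻¹ * φ a1 * (k * n⁻¹)⁻¹) (conj_cube (by rw [← map_pow, show a1 ^ 3 = 1 by pk, map_one]))
    ⟨mem_Ce.2 e2.symm, (Ce _).mul_mem (mul_mem hk' (PPK a1P)) (inv_mem hk')⟩
  exact h.nz (_root_.isConj_iff.2 ⟨l * (k * n⁻¹), by group⟩) hl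

theorem sc0 {k e : G} (hk : k ∈ Ce (φ tt)) (he : e ∈ Q) (hn : k * e * k⁻¹ ∈ NN (φ tt) Q)
    (hq : k * e * k⁻¹ ∉ Q) : ∃ κ ∈ Ce (φ tt),
      κ * e * κ⁻¹ = φ (sp * sg) ∨ κ * e * κ⁻¹ = φ (sp * sg) * φ tt := by
  obtain ⟨n, hn', r, hr, e1⟩ := h.inv _ hn (by
    rw [conj_mul]
    exact (h.co.sq_mem he).imp (fun f => by rw [f]; simp) fun f => by rw [f, cjt hk]) hq
  have hκ : n * k ∈ Ce (φ tt) := mul_mem hn'.1 hk
  rw [show n * (k * e * k⁻¹) * n⁻¹ = n * k * e * (n * k)⁻¹ by group] at e1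
  simp only [List.mem_cons, List.not_mem_nil, or_false] at hr
  rcases hr with rfl | rfl | rfl
  · refine (nv h hκ he ?_ ?_).elim <;> rcases e1 with f | f <;> rw [f]
    exacts [h.vz.1, mul_mem h.vz.1 (mC (h2 := rfl)).1, h.v2, by
      rw [mul_assoc, ← mul_assoc (φ tt), ← mem_Ce.1 h.vz.2, mul_assoc, tt2, mul_one, h.v2]]
  · have c0 := c_ne h hk he hq
    obtain ⟨q, -, e2⟩ := h.co.exists_conj he (h.co.n1 c0) (h.co.nz c0)
    have e3 : IsConj (n * k * e * (n * k)⁻¹) (n * k * e * (n * k)⁻¹ * φ tt) :=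
      _root_.isConj_iff.2 ⟨n * k * q * (n * k)⁻¹, by
        nth_rewrite 1 [← cjt hκ]; rw [conj_mul, conj_mul, ← e2]; group⟩
    have e4 : IsConj (φ sg) (φ sg * φ tt) := by
      rcases e1 with f | f <;> rw [f] at e3
      · exact e3
      · rw [mul_assoc, tt2, mul_one] at e3; exact e3.symm
    rw [← map_mul] at e4
    exact absurd ((ic φ (swap 1 4 * swap 4 3)).trans (e4.symm.trans
      (ic φ (swap 1 3 * swap 2 5)).symm)) h.n2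
  · exact ⟨_, hκ, e1⟩

theorem sc1 {k e : G} (hk : k ∈ Ce (φ tt)) (he : e ∈ Q) (hn : k * e * k⁻¹ ∈ NN (φ tt) Q)
    (hd : dt (c e) ≠ 0) : k * e * k⁻¹ ∈ Q := by
  by_contra hq
  obtain ⟨κ, -, f⟩ := sc0 h hk he hn hq
  have := _root_.isConj_iff.2 ⟨κ, (rfl : κ * e * κ⁻¹ = _)⟩
  refine hd ((h.tp e he).1 ?_).2
  rcases f with f | f <;> rw [f] at this
  exacts [nu1.trans this.symm, nu2.trans this.symm]

theorem wc {k : G} (hk : k ∈ Ce (φ tt)) (hn : ∀ e ∈ Q, k * e * k⁻¹ ∈ NN (φ tt) Q) :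
    k ∈ NN (φ tt) Q := mem_NN hk fun e he => by
  obtain ⟨b, hb, d1, d2⟩ := k1 _ (h.co.lt e)
  obtain ⟨y, hy, rfl⟩ := h.co.surj b hb
  have m := mul_mem he hy
  have := sc1 h hk m (hn _ m) (h.co.mul he hy ▸ d2)
  rwa [← conj_mul, mul_mem_cancel_right (sc1 h hk hy (hn _ hy) d1)] at this

end SC

open SC

theorem W4.syl (h : W4 φ π j Q c v) {T : Subgroup G} (hT : IsPGroup 2 T) (h1 : Q ≤ T) (h2 : T ≤ Ce (φ tt)) :
    T ≤ NN (φ tt) Q := by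
  by_contra hn
  obtain ⟨g, ⟨g1, g2⟩, g3⟩ := SetLike.exists_of_lt (H4.lt_inf_normalizer_of_lt hT
    (lt_of_le_of_ne inf_le_left fun e : T ⊓ NN (φ tt) Q = T => hn (e ▸ inf_le_right)))
  exact g3 ⟨g1, wc h (h2 g1) fun e he => (conj_mem g2 ⟨h1 he, h.co.QN he⟩).2⟩

theorem SC.move (h : W4 φ π j Q c v) {k u : G} (hk : k ∈ Ce (φ tt)) (e : k * u * k⁻¹ = φ x0) :
    ∃ κ ∈ Ce (φ tt), (κ * u * κ⁻¹ ∈ Q ∧ c (κ * u * κ⁻¹) = 4) ∧
      ∀ y ∈ Q, y ∈ Lz (tt2 (φ := φ)) u → κ * y * κ⁻¹ ∈ NN (φ tt) Q := by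
  have hQ : Q ≤ Lz (tt2 (φ := φ)) (φ x0) := fun y hy => ⟨h.co.central y hy, h.co.conj h.ex.1.1 hy⟩
  obtain ⟨P, hP⟩ := (h.co.isPGroup.comap_subtype (K := Lz (tt2 (φ := φ)) (φ x0))).exists_le_sylow
  obtain ⟨l, hl⟩ := H9.exists_conj_mem_sylow P
    ((h.co.isPGroup.map (MulAut.conj k).toMonoidHom).comap_subtype (K := Lz (tt2 (φ := φ)) (φ x0)))
  have hS := h.syl (P.isPGroup'.map (Lz (tt2 (φ := φ)) (φ x0)).subtype) (fun y hy => ⟨⟨y, hQ hy⟩, hP hy, rfl⟩)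
    (by rintro _ ⟨y, -, rfl⟩; exact mem_Ce.2 y.2.1)
  refine ⟨l * k, mul_mem (mem_Ce.2 l.2.1) hk, ?_, fun y hy ⟨y1, y2⟩ => ?_⟩
  · rw [show l * k * u * ((l : G) * k)⁻¹ = l * (k * u * k⁻¹) * (l : G)⁻¹ by group, e]
    rcases l.2.2 with f | f <;> rw [f]
    exacts [h.ex.1, ⟨mul_mem h.ex.1.1 h.co.mem, (h.co.c_mulz h.ex.1.1).trans h.ex.1.2⟩]
  · have m : k * y * k⁻¹ ∈ Lz (tt2 (φ := φ)) (φ x0) := ⟨by simpa only [cjt hk] using cc (g := k) y1, by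
      rw [← e, show k * y * k⁻¹ * (k * u * k⁻¹) * (k * y * k⁻¹)⁻¹ = k * (y * u * y⁻¹) * k⁻¹ by group]
      exact y2.imp (fun f => by rw [f]) fun f => by rw [f, ← conj_mul, cjt hk]⟩
    exact hS ⟨_, hl ⟨_, m⟩ ⟨y, hy, rfl⟩, by simp [mul_assoc]⟩

theorem W4.sc (h : W4 φ π j Q c v) {k e : G} (hk : k ∈ Ce (φ tt)) (he : e ∈ Q)
    (hn : k * e * k⁻¹ ∈ NN (φ tt) Q) : k * e * k⁻¹ ∈ Q := by
  by_contra hq
  have T := h.co
  obtain ⟨k', hk', f⟩ := sc0 h hk he hn hq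
  obtain ⟨a, u1, u2⟩ : Ac (φ tt) Q c (k' * e * k'⁻¹) MN ∧ IsConj (φ tt) (k' * e * k'⁻¹) ∧
      IsConj (φ tt) (k' * e * k'⁻¹ * φ tt) := by
    rcases f with f | f <;> rw [f]
    exacts [⟨h.aN, nu1, nu2⟩, ⟨(show mm MN MI = MN by decide +kernel) ▸ T.ac_mul h.aN (T.ac_mem T.mem),
      nu2, by rw [mul_assoc, tt2, mul_one]; exact nu1⟩]
  obtain ⟨n, hn', e1⟩ := h.tr4 e he (c_ne h hk he hq)
    ((h.tp e he).1 (u1.trans (_root_.isConj_iff.2 ⟨k', rfl⟩).symm)).2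
  obtain ⟨κ, hκ, ⟨q1, q2⟩, hN⟩ := move h (u := k' * e * k'⁻¹) (mul_mem hn'.1 (inv_mem hk'))
    (by rw [← e1]; group)
  generalize k' * e * k'⁻¹ = u at *
  have ut : u * φ tt = φ tt * u := mem_Ce.1 a.1.1
  have inQ : ∀ y ∈ Q, lm MN (c y) = c y → dt (c y) ≠ 0 → κ * y * κ⁻¹ ∈ Q := fun y hy e d =>
    sc1 h hκ hy (hN y hy ⟨T.central y hy, by
      refine ((T.eq_iff (NN.cj a.1 hy) hy).1 ((a.2 y hy).trans e)).imp (fun f => ?_) fun f => ?_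
      · nth_rewrite 1 [f]; group
      · nth_rewrite 1 [f]
        rw [mul_assoc _ (φ tt), ← ut, mul_assoc, mul_assoc u (φ tt), ← T.central _ (inv_mem hy)]
        group⟩) d
  have key : ∀ y ∈ Q, lm MN (c y) = c y → κ * y * κ⁻¹ ∈ Q → dt (c (κ * y * κ⁻¹) ^^^ 4) = 0 :=
    fun y hy e m => by
    obtain ⟨b, hb, e2⟩ := k2 _ (T.lt y) e
    obtain ⟨q, hq, rfl⟩ := T.surj b hb
    have m' := NN.cj a.1 (inv_mem hq)
    rw [← q2, ← T.mul m q1]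
    refine ((h.tp _ (mul_mem m q1)).1 (IsConj.trans ?_
      (_root_.isConj_iff.2 ⟨κ, conj_mul.symm⟩))).2
    rcases (T.eq_iff (mul_mem hq m') hy).1
      (by rw [T.mul hq m', a.2 _ (inv_mem hq), T.c_inv hq, e2]) with f | f <;> rw [f]
    · exact u1.trans (_root_.isConj_iff.2 ⟨q, by group⟩)
    · refine u2.trans (_root_.isConj_iff.2 ⟨q, ?_⟩)
      rw [mul_assoc _ (φ tt), ← ut, mul_assoc q, mul_assoc u, ← T.central _ (inv_mem hq)]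
      calc _ = q * (u * q⁻¹ * u⁻¹) * (u * φ tt) := by group
        _ = _ := rfl
  obtain ⟨x, hx, cx⟩ := T.surj 20 (by norm_num)
  obtain ⟨y, hy, cy⟩ := T.surj 40 (by norm_num)
  obtain ⟨z, hz, cz⟩ := T.surj 65 (by norm_num)
  have mx := inQ x hx (by rw [cx]; decide +kernel) (by rw [cx]; decide +kernel)
  have my := inQ y hy (by rw [cy]; decide +kernel) (by rw [cy]; decide +kernel)
  have mz := inQ z hz (by rw [cz]; decide +kernel) (by rw [cz]; decide +kernel)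
  have hp := mul_mem hx hz
  have cp : c (x * z) = 85 := by rw [T.mul hx hz, cx, cz]; rfl
  have mp : κ * (x * z) * κ⁻¹ ∈ Q := by rw [← conj_mul]; exact mul_mem mx mz
  generalize x * z = p at *
  have k4 : ∀ x ∈ Q, ∀ y ∈ Q, lm MN (c x ^^^ c y) = c x ^^^ c y → κ * x * κ⁻¹ ∈ Q → κ * y * κ⁻¹ ∈ Q →
      dt (c (κ * x * κ⁻¹) ^^^ c (κ * y * κ⁻¹) ^^^ 4) = 0 := fun x hx y hy e m m' => by
    rw [← T.mul m m', conj_mul]
    exact key _ (mul_mem hx hy) (T.mul hx hy ▸ e) (by rw [← conj_mul]; exact mul_mem m m')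
  have sq : ∀ x ∈ Q, κ * x * κ⁻¹ ∈ Q → (qf (c (κ * x * κ⁻¹)) = 0 ↔ qf (c x) = 0) := fun x hx m => by
    rw [← T.qs hx, ← T.qs m, conj_mul, conj_eq_one_iff]
  have cj : ∀ x ∈ Q, κ * x * κ⁻¹ ∈ Q → c x ≠ 0 → (dt (c (κ * x * κ⁻¹)) = 0 ↔ dt (c x) = 0) :=
    fun x hx m x0 => by
    have := _root_.isConj_iff.2 ⟨κ, (rfl : κ * x * κ⁻¹ = _)⟩
    exact ⟨fun d => ((h.tp x hx).1 (((h.tp _ m).2 ⟨conj_ne_one (T.n1 x0), d⟩).trans this.symm)).2,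
      fun d => ((h.tp _ m).1 (((h.tp x hx).2 ⟨T.n1 x0, d⟩).trans this)).2⟩
  refine k3 _ (T.lt _) ((cj x hx mx (by omega)).not.2 (by rw [cx]; decide +kernel))
    ((sq x hx mx).2 (by rw [cx]; decide +kernel)) (key x hx (by rw [cx]; decide +kernel) mx) _ (T.lt _)
    ((sq y hy my).not.2 (by rw [cy]; decide +kernel)) (key y hy (by rw [cy]; decide +kernel) my)
    (k4 x hx y hy (by rw [cx, cy]; decide +kernel) mx my) _ (T.lt _) (fun f => ?_)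
    ((cj p hp mp (by omega)).2 (by rw [cp]; decide +kernel)) (key p hp (by rw [cp]; decide +kernel) mp)
    (k4 p hp x hx (by rw [cx, cp]; decide +kernel) mp mx)
    (k4 p hp y hy (by rw [cy, cp]; decide +kernel) mp my)
  rcases (T.zero mp).1 f with f | f
  · exact T.n1 (x := p) (by omega) (conj_eq_one_iff.1 f)
  · exact T.nz (x := p) (by omega) (by simpa using f.trans (cjt hκ).symm)

end H54.T3
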