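import Cfsg.Agent.Lib.HN3.D2

set_option autoImplicit false
set_option maxRecDepth 100000
set_option synthInstance.maxSize 100000
set_option linter.unusedSectionVars false

namespace H54.T3

open Equiv Equiv.Perm H58.Cd H20.L43 Subgroup H58.SE H39.MS H95

variable {G : Type*} [Group G] [Finite G] {φ : AA →* G} {π : G → M5} {j v : G} {Q : Subgroup G} {c : G → ℕ}

namespace VA

theorem cop {X : Subgroup G} {g : G} (hg : g ∈ X) {m n : ℕ} (h : (Nat.card X).Coprime m)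
    (e : g ^ (m * n) = 1) : g ^ n = 1 :=
  orderOf_dvd_iff_pow_eq_one.1 ((h.of_dvd_left (orderOf_dvd_natCard X hg)).dvd_of_dvd_mul_left
    (orderOf_dvd_of_pow_eq_one e))

theorem cjp {a g : G} {n : ℕ} : (a * g * a⁻¹) ^ n = 1 ↔ g ^ n = 1 := by
  rw [conj_pow, conj_eq_one_iff]

theorem p12 (h : W0 φ) {g : G} (hg : g * φ a1 = φ a1 * g) (ht : g ∈ Ce (φ tt)) : g ^ 12 = 1 := by
  obtain ⟨k, hk, r, hr, rfl⟩ := h.kA hg ht
  rw [← map_pow, (kf1 k hk r hr).1, map_one]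

theorem one (h : W0 φ) {g : G} (hg : g * φ a1 = φ a1 * g) (ht : g ∈ Ce (φ tt))
    (h1 : g ^ 12 = 1 → g ^ 4 = 1) (h2 : (g * (φ a2 * g * (φ a2)⁻¹)) ^ 12 = 1 →
      (g * (φ a2 * g * (φ a2)⁻¹)) ^ 4 = 1) : ∃ k < 32, g = φ (ww k) := by
  have c : Commute (φ a2) (φ a1) := PPc a2P a1P
  have e1 := h1 (p12 h hg ht)
  have e2 := h2 (p12 h (Commute.mul_left hg ((c.mul_left hg).mul_left c.inv_left))
    (mul_mem ht (mul_mem (mul_mem (PPK a2P) ht) (inv_mem (PPK a2P)))))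
  obtain ⟨k, hk, r, hr, rfl⟩ := h.kA hg ht
  obtain rfl := (kf1 k hk r hr).2.1 (h.inj (by rw [map_pow, e1, map_one]))
    (h.inj (by rw [map_pow, map_mul _ (ww k * rr r), ← cjφ, e2, map_one]))
  exact ⟨k, hk, by simp [rr]⟩

theorem z3 {g : G} (hg : g ∈ zpowers (φ z1)) : g ^ 3 = 1 := by
  obtain ⟨k, rfl⟩ := zp hg
  exact pp3 _

theorem p180 (h : Wj φ π j) {g : G} (hg : g ∈ Ce (φ z1) ⊓ Ce (φ tt)) : g ^ 180 = 1 := by
  rw [show 180 = 60 * 3 from rfl, pow_mul]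
  exact z3 ((h.s5.pk _ (pow_mem hg 60)).1 (by rw [h.s5.pow hg, (m7 _ (h.s5.pd g hg)).1]))

theorem ga (h : Wj φ π j) {g : G} (hg : g ∈ Ce (φ z1) ⊓ Ce (φ tt)) :
    g * (φ a1 * g * (φ a1)⁻¹) ∈ Ce (φ z1) ⊓ Ce (φ tt) ∧
      π (g * (φ a1 * g * (φ a1)⁻¹)) = π g * (Y0 * π g * Y0.iv) := by
  have ma : φ a1 ∈ Ce (φ z1) ⊓ Ce (φ tt) := mC
  have m := mul_mem (mul_mem ma hg) (inv_mem ma)
  exact ⟨mul_mem hg m, by rw [h.s5.pm _ hg _ m, h.s5.cj ma hg, h.py]⟩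

theorem zc (h : Wj φ π j) {g : G} (hg : g ∈ Ce (φ z1) ⊓ Ce (φ tt)) (h1 : g ^ 180 = 1 → g ^ 5 = 1)
    (h2 : (g * (φ a1 * g * (φ a1)⁻¹)) ^ 180 = 1 → (g * (φ a1 * g * (φ a1)⁻¹)) ^ 5 = 1) :
    g ^ 3 = 1 := by
  obtain ⟨m, e⟩ := ga h hg
  exact z3 ((h.s5.pk _ hg).1 ((m7 _ (h.s5.pd g hg)).2.2.2.1
    (by rw [← h.s5.pow hg, h1 (p180 h hg), h.s5.one])
    (by rw [← e, ← h.s5.pow m, h2 (p180 h m), h.s5.one])))

theorem Cj' {K : Subgroup G} {a b : G} (ha : a ∈ K) (hb : b ∈ K) : a⁻¹ * b * a⁻¹⁻¹ ∈ K :=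
  mul_mem (mul_mem (inv_mem ha) hb) (inv_mem (inv_mem ha))

theorem odd (h : Wj φ π j) {S : Subgroup G} (hK : S ≤ Ce (φ tt)) (h2 : (Nat.card S).Coprime 2)
    (h3 : (Nat.card S).Coprime 3) (hn : PP φ ≤ normalizer (S : Set G)) : S = ⊥ := by
  have h12 : (Nat.card S).Coprime 12 := (h2.pow_right 2).mul_right h3
  have h36 : (Nat.card S).Coprime 36 := h12.mul_right h3
  have k : ∀ {g n}, g ∈ S → (Nat.card S).Coprime n → g ^ n = 1 → g ∈ (⊥ : Subgroup G) :=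
    fun {g n} hg a b => mem_bot.2 (pow_one g ▸ cop hg a (by rwa [mul_one]))
  have ma : ∀ {g}, g ∈ S → g * (φ a1 * g * (φ a1)⁻¹) ∈ S := fun hg =>
    mul_mem hg (conj_mem (hn a1P) hg)
  refine le_bot_iff.1 (h.gen3 h3 hn ?_)
  simp only [List.forall_mem_cons, List.not_mem_nil, IsEmpty.forall_iff, implies_true, and_true]
  refine ⟨fun g hg e => k hg h12 (p12 h.toW0 e (hK hg)), fun g hg e => k hg h12 (cjp.1
    (p12 h.toW0 (h.ja' ▸ cc e) (h.jK (hK hg)))), fun g hg e => k hg h3 (zc h ⟨mem_Ce.2 e, hK hg⟩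
      (cop (n := 5) hg h36) (cop (n := 5) (ma hg) h36)), fun g hg e => k hg h3 ?_⟩
  have ms : φ sg ∈ Ce (φ tt) := mem_Ce.2 (cmφ φ (by pk))
  have c : Commute (φ sg) (φ a1) := cmφ φ (by pk)
  rw [← cjφ] at e
  refine (cjp (a := (φ sg)⁻¹)).1 (zc h ⟨mem_Ce.2 (cc' (g := φ sg) (by simpa [mul_assoc] using e)),
    Cj' ms (hK hg)⟩
    (fun q => cjp.2 (cop (n := 5) hg h36 (cjp.1 q))) ?_)
  rw [show (φ sg)⁻¹ * g * (φ sg)⁻¹⁻¹ * (φ a1 * ((φ sg)⁻¹ * g * (φ sg)⁻¹⁻¹) * (φ a1)⁻¹) =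
    (φ sg)⁻¹ * (g * (φ sg * φ a1 * (φ sg)⁻¹ * g * (φ sg * φ a1 * (φ sg)⁻¹)⁻¹)) * (φ sg)⁻¹⁻¹ by group,
    c.eq, mul_inv_cancel_right]
  exact fun q => cjp.2 (cop (n := 5) (ma hg) h36 (cjp.1 q))

theorem a1M : φ a1 ∈ MM φ := ⟨PPK a1P, mem_Ce.2 (cmφ φ (by pk)), mem_Ce.2 (cmφ φ (by pk))⟩

theorem a13 : φ a1 ^ 3 = 1 := by rw [← map_pow, show a1 ^ 3 = 1 by pk, map_one]

theorem nrm (h : W0 φ) {g : G} (hg : g ∈ MM φ)
    (hn : ∀ x ∈ zpowers (φ a1), g * x * g⁻¹ ∈ zpowers (φ a1)) :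
    ∃ w, w * w = 1 ∧ Commute w (φ a1) ∧ ∃ i < 3, g = w * φ a1 ^ i := by
  obtain ⟨i, e⟩ := (mem_zp a13).1 (hn _ (mem_zpowers _))
  rcases zm3 i with rfl | rfl | rfl
  · exact absurd (conj_eq_one_iff.1 ((pw_zero _).symm.trans e).symm) (map_one φ ▸ h.ne (by pk))
  · obtain ⟨k, hk, r, hr, rfl⟩ := h.kA (mul_inv_eq_iff_eq_mul.1 ((pw_one _).symm.trans e).symm) hg.1
    obtain ⟨e1, e2⟩ := (kf2 k hk r hr).2.1 (h.inj (by simpa using mem_Ce.1 hg.2.1))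
      (h.inj (by simpa using mem_Ce.1 hg.2.2))
    have t : ∀ k < 32, k % 16 < 4 → ww k * ww k = 1 := fun k hk => by
      pk12; rw [cww k hk]; revert k; decide +kernel
    refine ⟨φ (ww k), by rw [← map_mul, t k hk e1, map_one], cmφ φ (kw k hk).2.1, r, e2, ?_⟩
    rw [map_mul, ← map_pow, rr, Nat.mod_eq_of_lt e2, Nat.div_eq_of_lt e2,
      Nat.div_eq_of_lt (show r < 9 by omega)]
    simp
  · obtain ⟨k, hk, r, hr, rfl⟩ := h.kN ((pw_neg_one a13).symm.trans e).symm hg.1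
    exact absurd (h.inj (by simpa using mem_Ce.1 hg.2.2))
      ((kf2 k hk r hr).2.2.1 (h.inj (by simpa using mem_Ce.1 hg.2.1)))

theorem npc (h : W0 φ) : ∃ S : Sylow 3 (MM φ), (S : Subgroup (MM φ)) =
    (zpowers (φ a1)).subgroupOf (MM φ) ∧ Cfsg.HasNormalPComplement 3 (MM φ) := by
  obtain ⟨S, hS⟩ := syl (N := MM φ) (R := zpowers (φ a1)) (PP3.to_le (zpowers_le.2 a1P))
    (fun g hg h1 h2 => by
      obtain ⟨w, w2, c, i, -, rfl⟩ := nrm h hg h1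
      rw [(c.pow_right i).mul_pow, pow_three, w2, mul_one, ← pow_mul, mul_comm i, pow_mul, a13,
        one_pow, mul_one] at h2
      exact mul_mem h2 (pow_mem (mem_zpowers _) i)) (zpowers_le.2 a1M)
  refine ⟨S, hS, H4.hasNormalPComplement_of_normalizer_le_centralizer S fun n hn => ?_⟩
  have hn' : n ∈ normalizer ((S : Subgroup (MM φ)) : Set (MM φ)) := hn
  rw [hS] at hn'
  obtain ⟨w, -, c, i, -, e⟩ := nrm h n.2 fun x hx =>
    conj_mem hn' (x := ⟨x, zpowers_le.2 a1M hx⟩) hx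
  refine mem_centralizer_iff.2 fun x hx => Subtype.ext ?_
  have hx' : x ∈ (S : Subgroup (MM φ)) := hx
  rw [hS] at hx'
  obtain ⟨m, hm⟩ := mem_subgroupOf.1 hx'
  change φ a1 ^ m = _ at hm
  change (x : G) * n = n * x
  rw [← hm, e]
  exact ((c.mul_left ((Commute.refl _).pow_left i)).zpow_right m).symm

end VA

open VA

theorem Wj.two (h : Wj φ π j) {X : Subgroup G} (hK : X ≤ Ce (φ tt)) (h3 : (Nat.card X).Coprime 3)
    (hn : PP φ ≤ normalizer (X : Set G)) : IsPGroup 2 X ∧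
    (∀ g ∈ X, g * φ a1 = φ a1 * g → ∃ k < 32, g = φ (ww k)) ∧
    (∀ g ∈ X, g * φ a2 = φ a2 * g → ∃ k < 32, g = j * φ (ww k) * j⁻¹) ∧
    ∀ g ∈ X, g * φ z1 = φ z1 * g → Gd (π g) := by
  have ma : ∀ {g}, g ∈ X → g * (φ a1 * g * (φ a1)⁻¹) ∈ X := fun hg =>
    mul_mem hg (conj_mem (hn a1P) hg)
  have h2 : Nat.card X = 2 ^ (Nat.card X).primeFactorsList.length :=
    Nat.eq_prime_pow_of_unique_prime_dvd Nat.card_pos.ne' fun {p} hp hd => by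
      by_contra n
      haveI : Fact p.Prime := ⟨hp⟩
      obtain ⟨m, hm⟩ := IsPGroup.iff_card.1 (PP3 (φ := φ))
      obtain ⟨S, s1, s2⟩ := H2.exists_invariant_sylowIn hn (hm ▸ h3.symm.pow_left m)
        (Or.inl (H1.isSolvable_of_isPGroup PP3)) p
      obtain ⟨i, hi⟩ := IsPGroup.iff_card.1 s1.isPGroup
      have := odd h (s1.le.trans hK)
        (hi ▸ ((Nat.coprime_primes hp Nat.prime_two).2 n).pow_left i)
        (h3.of_dvd_left (card_dvd_of_le s1.le)) s2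
      subst this
      exact s1.not_dvd_relIndex (by rwa [relIndex_bot_left])
  refine ⟨IsPGroup.of_card h2, fun g hg e => one h.toW0 e (hK hg) (cop (n := 4) hg h3)
    (cop (n := 4) (mul_mem hg (conj_mem (hn a2P) hg)) h3), fun g hg e => ?_, fun g hg e => ?_⟩
  · obtain ⟨k, hk, q⟩ := one h.toW0 (g := j * g * j⁻¹) (h.ja' ▸ cc e) (h.jK (hK hg))
      (fun q => cjp.2 (cop (n := 4) hg h3 (cjp.1 q))) (by
        rw [← h.ja, conj_inv, conj_mul, conj_mul, conj_mul]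
        exact fun q => cjp.2 (cop (n := 4) (ma hg) h3 (cjp.1 q)))
    exact ⟨k, hk, by rw [← q, jj_cj h.j2 (hK hg)]⟩
  · have m : g ∈ Ce (φ z1) ⊓ Ce (φ tt) := ⟨mem_Ce.2 e, hK hg⟩
    have c : (Nat.card X).Coprime 45 := h2 ▸ Nat.Coprime.pow_left _ (by norm_num)
    obtain ⟨m', e'⟩ := ga h m
    exact ⟨h.s5.pd g m, by rw [← h.s5.pow m, cop (n := 4) hg c (p180 h m), h.s5.one],
      by rw [← e', ← h.s5.pow m', cop (n := 4) (ma hg) c (p180 h m'), h.s5.one]⟩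

theorem Wj.zt (h : Wj φ π j) {y : G} (hy : y ∈ Ce (φ z1) ⊓ Ce (φ tt)) (e : π y = 1 ∨ π y = mo5)
    (hx : y * φ x0 = φ x0 * y) : y = 1 ∨ y = φ tt := by
  have k : ∀ {y}, y ∈ zpowers (φ z1) → y * φ x0 = φ x0 * y → y = 1 := fun hy hx => by
    obtain ⟨k, rfl⟩ := zp hy
    rw [(show ∀ k, pp (k, k) * x0 = x0 * pp (k, k) → pp (k, k) = 1 by simp only [pp, pw]; pk) k
      (h.inj (by simpa using hx)), map_one]
  refine e.imp (fun e => k ((h.s5.pk y hy).1 e) hx) fun e => mul_inv_eq_one.1 (k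
    (h.s5.eq hy (mC (h2 := rfl)) (e.trans (h.pt h.s5).symm)) (Commute.mul_left hx ?_))
  exact Commute.inv_left (cmφ φ (by pk))

theorem MM_cj : ∀ p ∈ [a1, a2, sg, gd], ∀ g ∈ MM φ, φ p * g * (φ p)⁻¹ ∈ MM φ := by
  intro p hp g hg
  have t : ∀ p ∈ [a1, a2, sg, gd], ∀ q ∈ [tt, x0, x1], ∃ n < 8,
      q = p * (tt ^ (n % 2) * x0 ^ (n / 2 % 2) * x1 ^ (n / 4)) * p⁻¹ := by
    simp only [List.forall_mem_cons, List.not_mem_nil, IsEmpty.forall_iff, implies_true, and_true]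
    pk
  have k : ∀ q ∈ [tt, x0, x1], φ p * g * (φ p)⁻¹ ∈ Ce (φ q) := fun q hq => by
    obtain ⟨n, -, e⟩ := t p hp q hq
    rw [mem_Ce, e, ← cjφ, map_mul, map_mul, map_pow, map_pow, map_pow]
    exact cc ((((show Commute g _ from mem_Ce.1 hg.1).pow_right _).mul_right
      ((show Commute g _ from mem_Ce.1 hg.2.1).pow_right _)).mul_right
        ((show Commute g _ from mem_Ce.1 hg.2.2).pow_right _))
  exact ⟨k tt (by simp), k x0 (by simp), k x1 (by simp)⟩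

theorem W0.o3 (h : W0 φ) {g : G} (hg : g ∈ MM φ) (h4 : g ^ 4 = 1) : g ∈ O3' (MM φ) := by
  obtain ⟨-, -, h1⟩ := npc h
  haveI := H4.pResidual_normal 3 (MM φ)
  exact mem_map_of_mem _ (H1.le_pPrimeCore_of_not_dvd (H4.hasNormalPComplement_iff_not_dvd.1 h1)
    (H4.mem_pResidual_of_coprime (g := (⟨g, hg⟩ : MM φ)) ((show Nat.Coprime 4 3 by norm_num).of_dvd_left
      (orderOf_dvd_of_pow_eq_one (Subtype.ext h4)))))

theorem W0.bu (h : W0 φ) {g : G} (hg : g ∈ MM φ) : ∃ u ∈ O3' (MM φ), ∃ i < 3, g = u * φ a1 ^ i := by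
  obtain ⟨S, hS, h1⟩ := npc h
  obtain ⟨u, hu, e⟩ := dec_of_len hS (zpowers_le.2 a1M)
    (H49.pLengthLE_one_of_hasNormalPComplement h1) hg
  have m := mul_mem (inv_mem (O3'_le _ hu)) hg
  obtain ⟨w, w2, -, i, hi, e⟩ := nrm h m e
  refine ⟨u * w, mul_mem hu (h.o3 ((mul_mem_cancel_right (pow_mem a1M i)).1 (e ▸ m))
    (by rw [show 4 = 2 * 2 from rfl, pow_mul, pow_two w, w2, one_pow])), i, hi, ?_⟩
  rw [mul_assoc, ← e, mul_inv_cancel_left]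

end H54.T3
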