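import Cfsg.Agent.Lib.HN3.VA

/-! The element `v` of order four normalising `Q`. -/

set_option autoImplicit false
set_option maxRecDepth 100000
set_option synthInstance.maxSize 100000
set_option linter.unusedSectionVars false

namespace H54.T3

open Equiv Equiv.Perm H58.Cd H20.L43 Subgroup H58.SE H39.MS H95

variable {G : Type*} [Group G] [Finite G] {φ : AA →* G} {π : G → M5} {j v : G} {Q : Subgroup G} {c : G → ℕ}

theorem vb_nM {p : AA} (hp : p ∈ [a1, a2, sg, gd]) : φ p ∈ normalizer (MM φ : Set G) := mem_norm (MM_cj p hp)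

theorem vb_nU {g : G} (hg : g ∈ normalizer (MM φ : Set G)) : g ∈ normalizer (O3' (MM φ) : Set G) :=
  mem_norm fun _ hx => O3'_norm (fun _ => conj_mem hg) hx

theorem vb_PM : PP φ ≤ normalizer (MM φ : Set G) := by
  rintro _ ⟨u, rfl⟩
  rw [pp, map_mul, H20.L43.pw, H20.L43.pw, map_pow, map_pow]
  exact mul_mem (pow_mem (vb_nM (by simp)) _) (pow_mem (vb_nM (by simp)) _)

theorem vb_PU : PP φ ≤ normalizer (O3' (MM φ) : Set G) := fun _ hg => vb_nU (vb_PM hg)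

theorem vb_UK : O3' (MM φ) ≤ Ce (φ tt) := (O3'_le _).trans inf_le_left

theorem vb_inf {A B : Subgroup G} {g : G} (a : g ∈ normalizer (A : Set G)) (b : g ∈ normalizer (B : Set G)) :
    g ∈ normalizer ((A ⊓ B : Subgroup G) : Set G) := mem_norm fun _ hx => ⟨conj_mem a hx.1, conj_mem b hx.2⟩

theorem vb_inf' {A B : Subgroup G} {g : G} (a : g ∈ normalizer (A : Set G)) (b : g ∈ normalizer (B : Set G)) :
    g ∈ normalizer ((A ⊓ normalizer (B : Set G) : Subgroup G) : Set G) :=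
  mem_norm fun _ hx => ⟨conj_mem a hx.1, Subgroup.mul_mem _ (Subgroup.mul_mem _ b hx.2) (Subgroup.inv_mem _ b)⟩

theorem vb_tM : φ tt ∈ MM φ := ⟨mem_Ce.2 rfl, mem_Ce.2 (cmφ φ (by pk)), mem_Ce.2 (cmφ φ (by pk))⟩

theorem vb_aM : φ a1 ∈ MM φ := ⟨PPK a1P, mem_Ce.2 (cmφ φ (by pk)), mem_Ce.2 (cmφ φ (by pk))⟩

theorem W2.exists_v0 (h : W2 φ π j Q c) : ∃ v ∈ O3' (MM φ), v ∈ Ce (φ z1) ∧ π v * π v = mo5 ∧
    ∀ x ∈ Q, x ∈ MM φ → v * x * v⁻¹ ∈ Q := by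
  obtain ⟨t1, t2, t3, t4⟩ := h.two vb_UK (O3'_cop _) vb_PU
  have le : Q ⊓ MM φ ≤ O3' (MM φ) := fun x hx => h.o3 hx.2 (h.co.pow_four hx.1)
  have e : ww 1 = x0 ∧ ww 2 = x1 ∧ ww 10 * ww 10 = tt := by simp only [ww, pr5]; pk
  have lt : Q ⊓ MM φ < O3' (MM φ) := le.lt_of_ne fun f => by
    have m := (h.e2 10 (by norm_num)).1
    have m' : j * φ (ww 10) * j⁻¹ ∈ Q ⊓ MM φ := ⟨m, h.co.le_centralizer m,
      mem_Ce.2 (e.1 ▸ (h.com 1 (by norm_num) 10 (by norm_num)).symm),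
      mem_Ce.2 (e.2.1 ▸ (h.com 2 (by norm_num) 10 (by norm_num)).symm)⟩
    have := h.co.sq_mem (f.ge (conj_mem (vb_nU (vb_nM (p := gd) (by simp))) (le m'))).1
    rw [conj_mul, conj_mul, ← map_mul, e.2.2, h.jt, cjφ, ← map_one φ, h.inj.eq_iff, h.inj.eq_iff] at this
    revert this; pk
  have nF : ∀ {g}, g ∈ NN (φ tt) Q → g ∈ normalizer (MM φ : Set G) → g ∈ normalizer
      ((O3' (MM φ) ⊓ normalizer ((Q ⊓ MM φ : Subgroup G) : Set G) : Subgroup G) : Set G) :=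
    fun a b => vb_inf' (vb_nU b) (vb_inf a.2 b)
  have key : ∀ g ∈ O3' (MM φ) ⊓ normalizer ((Q ⊓ MM φ : Subgroup G) : Set G), g * φ z1 = φ z1 * g →
      g ∉ Q ⊓ MM φ → ∃ v ∈ O3' (MM φ), v ∈ Ce (φ z1) ∧ π v * π v = mo5 ∧
        ∀ x ∈ Q, x ∈ MM φ → v * x * v⁻¹ ∈ Q := fun g hg cz n => by
    have d := t4 g hg.1 cz
    refine ⟨g, hg.1, mem_Ce.2 cz, ?_, fun x a b => (conj_mem hg.2 (show x ∈ Q ⊓ MM φ from ⟨a, b⟩)).1⟩
    rcases or_assoc.2 ((m7 _ d.1).2.2.1 d.2.1) with e | e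
    · rcases h.zt ⟨mem_Ce.2 cz, vb_UK hg.1⟩ e (mem_Ce.1 (O3'_le _ hg.1).2.1) with rfl | rfl
      exacts [(n (one_mem _)).elim, (n ⟨h.co.mem, vb_tM⟩).elim]
    · exact e.1
  by_contra H
  refine (H4.lt_inf_normalizer_of_lt t1 lt).not_ge (h.gen3
    ((O3'_cop _).coprime_dvd_left (card_dvd_of_le inf_le_left)) (fun g hg => nF (h.PN hg) (vb_PM hg)) ?_)
  simp only [List.forall_mem_cons, List.not_mem_nil, IsEmpty.forall_iff, implies_true, and_true]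
  refine ⟨fun g hg e => ⟨?_, O3'_le _ hg.1⟩, fun g hg e => ⟨?_, O3'_le _ hg.1⟩,
    fun g hg e => by_contra fun n => H (key g hg e n), fun g hg e => by_contra fun n => H
      (key ((φ sg)⁻¹ * g * (φ sg)⁻¹⁻¹) (conj_mem (inv_mem (nF h.aS.1 (vb_nM (by simp)))) hg) ?_ fun m => n ?_)⟩
  · obtain ⟨k, hk, rfl⟩ := t2 g hg.1 e
    exact (h.e1 k hk).1
  · obtain ⟨k, hk, rfl⟩ := t3 g hg.1 e
    exact (h.e2 k hk).1
  · rw [← cjφ] at e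
    exact cc' (g := φ sg) (by simpa [mul_assoc] using e)
  · simpa [mul_assoc] using conj_mem (vb_inf h.aS.1.2 (vb_nM (p := sg) (by simp))) m

theorem W2.vb_fin (h : W2 φ π j Q c) {n : G} {R : ℕ} (a : Ac (φ tt) Q c n⁻¹ R)
    (k : ∀ a < 256, ∃ d < 256, bf d 4 = 0 ∧ bf d 8 = 0 ∧ bf (a ^^^ lm R d) 4 = 0 ∧ bf (a ^^^ lm R d) 8 = 0)
    (vt : v ∈ Ce (φ tt)) (vF : v ∈ normalizer ((Q ⊓ MM φ : Subgroup G) : Set G))
    (yF : n * v * n⁻¹ ∈ normalizer ((Q ⊓ MM φ : Subgroup G) : Set G)) (yM : n * v * n⁻¹ ∈ MM φ) :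
    v ∈ NN (φ tt) Q ∧ ∀ x ∈ Q, c x = lm R 4 ∨ c x = lm R 8 → c (v * x * v⁻¹) = c x := by
  obtain ⟨⟨m0, c0⟩, ⟨m1, c1⟩, -⟩ := h.ex
  have T := h.co
  have mF : ∀ {x}, x ∈ Q → bf (c x) 4 = 0 → bf (c x) 8 = 0 → x ∈ Q ⊓ MM φ := fun hx e1 e2 =>
    ⟨hx, T.le_centralizer hx, mem_Ce.2 ((T.comm_iff hx m0).2 (c0 ▸ e1)), mem_Ce.2 ((T.comm_iff hx m1).2 (c1 ▸ e2))⟩
  have ct : ∀ x, v * (x * φ tt) * v⁻¹ = v * x * v⁻¹ * φ tt := fun x => by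
    rw [← conj_mul, mem_Ce.1 vt, mul_inv_cancel_right]
  refine ⟨mem_NN vt fun x hx => ?_, fun x hx e => ?_⟩
  · obtain ⟨d, hd, e1, e2, e3, e4⟩ := k _ (T.lt x)
    obtain ⟨y, hy, rfl⟩ := T.surj d hd
    obtain ⟨w, hw, e⟩ := T.surj _ (Nat.xor_lt_two_pow (n := 8) (T.lt x) (lm_lt R (c y)))
    have m2 := NN.cj a.1 hy
    have m3 : v * (w * (n⁻¹ * y * n⁻¹⁻¹)) * v⁻¹ ∈ Q := by
      rw [show v * (w * (n⁻¹ * y * n⁻¹⁻¹)) * v⁻¹ = v * w * v⁻¹ *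
        (n⁻¹ * (n * v * n⁻¹ * y * (n * v * n⁻¹)⁻¹) * n⁻¹⁻¹) by group]
      exact mul_mem (conj_mem vF (mF hw (e ▸ e3) (e ▸ e4))).1 (NN.cj a.1 (conj_mem yF (mF hy e1 e2)).1)
    rcases (T.eq_iff (mul_mem hw m2) hx).1 (by
      rw [T.mul hw m2, a.2 y hy, e, Nat.xor_assoc, Nat.xor_self, Nat.xor_zero]) with rfl | rfl
    · exact m3
    · exact ct _ ▸ mul_mem m3 T.mem
  · have f : ∀ {y}, y ∈ Q → n * v * n⁻¹ ∈ Ce y → c x = lm R (c y) → c (v * x * v⁻¹) = c x := fun {y} hy cy e => by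
      have e1 : v * (n⁻¹ * y * n⁻¹⁻¹) * v⁻¹ = n⁻¹ * y * n⁻¹⁻¹ := by
        calc _ = n⁻¹ * (n * v * n⁻¹ * y * (n * v * n⁻¹)⁻¹) * n := by group
          _ = _ := by rw [mem_Ce.1 cy]; group
      rcases (T.eq_iff (NN.cj a.1 hy) hx).1 ((a.2 y hy).trans e.symm) with rfl | rfl
      · rw [e1]
      · rw [ct, e1]
    exact e.elim (fun e => f m0 yM.2.1 (c0 ▸ e)) fun e => f m1 yM.2.2 (c1 ▸ e)

theorem Wj.vb_pj (h : Wj φ π j) : π j * Y0 * (π j).iv = Y0.iv := by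
  have ma : φ a1 ∈ Ce (φ z1) ⊓ Ce (φ tt) := mC
  have mz : φ z1 ∈ Ce (φ z1) ⊓ Ce (φ tt) := mC (h1 := rfl) (h2 := by rw [z1]; pk)
  rw [← h.py, ← h.s5.cj h.jz ma, h.ja, show a2 = a1⁻¹ * z1 by simp [z1], map_mul, map_inv,
    h.s5.pm _ (inv_mem ma) _ mz, (h.s5.pk _ mz).2 (mem_zpowers _), mul_one, h.s5.inv ma]

/-- an element with the image of `a1^k v^e a1^-k` -/
theorem Wj.vb_inq (h : Wj φ π j) (hv : v ∈ Ce (φ z1) ⊓ Ce (φ tt)) {x : G} (hx : x ∈ Ce (φ z1) ⊓ Ce (φ tt))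
    (e : InQ (π v) (π x)) : ∃ k < 3, ∃ e < 4, ∃ w ∈ zpowers (φ z1), x = w * (φ a1 ^ k * v ^ e * (φ a1 ^ k)⁻¹) := by
  have ma : φ a1 ∈ Ce (φ z1) ⊓ Ce (φ tt) := mC
  obtain ⟨k, hk, e, he, f⟩ := e
  refine ⟨k, hk, e, he, _, h.s5.eq hx (mul_mem (mul_mem (pow_mem ma k) (pow_mem hv e)) (inv_mem (pow_mem ma k))) ?_,
    (inv_mul_cancel_right _ _).symm⟩
  rw [h.s5.pm _ (mul_mem (pow_mem ma k) (pow_mem hv e)) _ (inv_mem (pow_mem ma k)),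
    h.s5.pm _ (pow_mem ma k) _ (pow_mem hv e), ← inv_pow, h.s5.pow (inv_mem ma), h.s5.pow ma, h.s5.pow hv,
    h.s5.inv ma, h.py, f]

theorem W2.exists_v1 (h : W2 φ π j Q c) : ∃ v ∈ O3' (MM φ), v ∈ Ce (φ z1) ∧ v * v = φ tt ∧
    v ∈ NN (φ tt) Q ∧ ((∀ x ∈ Q, c x = 64 ∨ c x = 128 → c (v * x * v⁻¹) = c x) ∨
      ∀ x ∈ Q, c x = 16 ∨ c x = 32 → c (v * x * v⁻¹) = c x) := by
  obtain ⟨v, hv, vz, pv, vQ⟩ := h.exists_v0
  have T := h.co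
  have vM := O3'_le _ hv
  have vC : v ∈ Ce (φ z1) ⊓ Ce (φ tt) := ⟨vz, vM.1⟩
  have p2 : π (v * v) = mo5 := (h.s5.pm _ vC _ vC).trans pv
  have v2 : v * v = φ tt := (h.zt (mul_mem vC vC) (Or.inr p2) (mem_Ce.1 (mul_mem vM vM).2.1)).resolve_left
    fun e => by rw [e, h.s5.one] at p2; revert p2; decide
  have v4 : v ^ 4 = 1 := by rw [show v ^ 4 = v * v * (v * v) by simp [pow_succ, mul_assoc], v2, tt2]
  have vF : v ∈ normalizer ((Q ⊓ MM φ : Subgroup G) : Set G) :=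
    mem_norm fun x hx => ⟨vQ x hx.1 hx.2, Subgroup.mul_mem _ (Subgroup.mul_mem _ vM hx.2) (Subgroup.inv_mem _ vM)⟩
  have lj := h.lin (g := j) (α := (0, 1)) (β := (1, 0)) (ppa.2.1 ▸ h.ja) (ppa.1 ▸ h.ja')
  have ls := h.lin (g := φ sg) (α := (1, 0)) (β := (0, -1)) (by rw [cjφ]; exact congrArg φ (by simp only [pp, pw]; pk))
    (by rw [cjφ]; exact congrArg φ (by simp only [pp, pw]; pk))
  have nj : j ∈ normalizer (PP φ : Set G) := mem_norm (by rintro _ ⟨u, rfl⟩; exact ⟨_, (lj u).symm⟩)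
  have ns : φ sg ∈ normalizer (PP φ : Set G) := mem_norm (by rintro _ ⟨u, rfl⟩; exact ⟨_, (ls u).symm⟩)
  have aS' : Ac (φ tt) Q c (φ sg)⁻¹ MS := T.ac_inv h.aS (by decide +kernel)
  have a2' := T.ac_mul (T.ac_mul h.aS h.aJ') aS'
  have e2 : φ sg * j⁻¹ * (φ sg)⁻¹ * φ z1 * (φ sg * j⁻¹ * (φ sg)⁻¹)⁻¹ = (φ z1)⁻¹ := by
    have f1 := ls (1, -1)
    have f2 := lj (-1, 1)
    have f3 := ls (-1, 1)
    rw [show ((1, -1) : ZMod 3 × ZMod 3).1 • ((1, 0) : ZMod 3 × ZMod 3) + ((1, -1) : ZMod 3 × ZMod 3).2 • (0, -1)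
      = (1, 1) by decide, ppa.2.2] at f1
    rw [show ((-1, 1) : ZMod 3 × ZMod 3).1 • ((0, 1) : ZMod 3 × ZMod 3) + ((-1, 1) : ZMod 3 × ZMod 3).2 • (1, 0)
      = (1, -1) by decide] at f2
    rw [show ((-1, 1) : ZMod 3 × ZMod 3).1 • ((1, 0) : ZMod 3 × ZMod 3) + ((-1, 1) : ZMod 3 × ZMod 3).2 • (0, -1)
      = -(1, 1) by decide, pp_neg, ppa.2.2] at f3
    rw [← f3]
    nth_rewrite 1 [← f1, ← f2]
    group
  set n := (φ sg * j⁻¹ * (φ sg)⁻¹)⁻¹ with hn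
  have nK : n ∈ Ce (φ tt) := (inv_mem a2'.1).1
  have nP : n ∈ normalizer (PP φ : Set G) := inv_mem (mul_mem (mul_mem ns (inv_mem nj)) (inv_mem ns))
  have wC : n * v * n⁻¹ ∈ Ce (φ z1) ⊓ Ce (φ tt) := ⟨mem_Ce.2 (cc' (g := n⁻¹) (by
    rw [show n⁻¹ * φ z1 * n⁻¹⁻¹ = (φ z1)⁻¹ by rw [← e2, hn]; group,
      show n⁻¹ * (n * v * n⁻¹) * n⁻¹⁻¹ = v by group]
    exact (show Commute v (φ z1) from mem_Ce.1 vz).inv_right)),
    Subgroup.mul_mem _ (Subgroup.mul_mem _ nK vM.1) (Subgroup.inv_mem _ nK)⟩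
  have gd' : Gd (π (n * v * n⁻¹)) := (h.two (X := (O3' (MM φ)).map (MulAut.conj n).toMonoidHom)
    (by rintro _ ⟨x, hx, rfl⟩; exact mul_mem (mul_mem nK (vb_UK hx)) (inv_mem nK))
    (by rw [card_map_of_injective (MulAut.conj n).injective]; exact O3'_cop _)
    (fun p hp => mem_norm fun x hx => mem_map_conj.2 (by
      have := conj_mem (vb_PU (conj_mem (inv_mem nP) hp)) (mem_map_conj.1 hx)
      convert this using 1
      group))).2.2.2 _ ⟨v, hv, rfl⟩ (mem_Ce.1 wC.1)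
  have fin : ∀ {m : G}, m * v * m⁻¹ ∈ Ce (φ z1) ⊓ Ce (φ tt) → InQ (π v) (π (m * v * m⁻¹)) →
      m * v * m⁻¹ ∈ normalizer ((Q ⊓ MM φ : Subgroup G) : Set G) ∧ m * v * m⁻¹ ∈ MM φ := fun {m} hm q => by
    obtain ⟨k, -, e, -, w, hw, f⟩ := h.vb_inq vC hm q
    have aF := pow_mem (vb_inf h.aA.1.2 (vb_nM (p := a1) (by simp))) k
    have mk : φ a1 ^ k ∈ Ce (φ z1) := pow_mem (mC (p := a1)).1 k
    have cw : Commute w (φ a1 ^ k * v ^ e * (φ a1 ^ k)⁻¹) := by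
      obtain ⟨i, rfl⟩ := hw
      exact (show Commute (φ z1) _ from (mem_Ce.1 (mul_mem (mul_mem mk (pow_mem vz e)) (inv_mem mk))).symm).zpow_left i
    have w3 : w ^ 3 = 1 := by
      obtain ⟨i, rfl⟩ := hw
      rw [← zpow_natCast, ← zpow_mul, mul_comm, zpow_mul, zpow_natCast, z13, one_zpow]
    have f4 := congrArg (· ^ 4) f
    simp only [cw.mul_pow, conj_pow, v4, ← pow_mul v e, mul_comm e, pow_mul v 4, one_pow, mul_one, mul_inv_cancel,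
      pow_succ w 3, w3, one_mul] at f4
    rw [f, ← f4, one_mul]
    exact ⟨mul_mem (mul_mem aF (pow_mem vF e)) (inv_mem aF),
      mul_mem (mul_mem (pow_mem vb_aM k) (pow_mem vM e)) (inv_mem (pow_mem vb_aM k))⟩
  rcases m3 _ ((h.two vb_UK (O3'_cop _) vb_PU).2.2.2 v hv (mem_Ce.1 vz)) pv _ (h.s5.pd _ h.jz) h.vb_pj _ gd'
    with q | q
  · obtain ⟨f1, f2⟩ := fin wC q
    obtain ⟨g1, g2⟩ := h.vb_fin (n := n) (R := mm (mm MS MJ) MS) (by rw [hn, inv_inv]; exact a2')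
      (by decide +kernel) vM.1 vF f1 f2
    exact ⟨v, hv, vz, v2, g1, Or.inl g2⟩
  · have e : j⁻¹ * n * v * (j⁻¹ * n)⁻¹ = j⁻¹ * (n * v * n⁻¹) * j := by group
    have m := mul_mem (inv_mem h.jz) wC
    obtain ⟨f1, f2⟩ := fin (m := j⁻¹ * n) (e ▸ mul_mem m h.jz) (by
      rwa [e, h.s5.pm _ m _ h.jz, h.s5.pm _ (inv_mem h.jz) _ wC, h.s5.inv h.jz])
    obtain ⟨g1, g2⟩ := h.vb_fin (n := j⁻¹ * n) (R := mm (mm (mm MS MJ) MS) MJ)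
      (by rw [hn, mul_inv_rev, inv_inv, inv_inv]; exact T.ac_mul a2' h.aJ) (by decide +kernel) vM.1 vF f1 f2
    exact ⟨v, hv, vz, v2, g1, Or.inr g2⟩

end H54.T3
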