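import Cfsg.Agent.Lib.HN3.VB

/-! The action of `v` on `Q` and the stabiliser of two codes. -/

set_option autoImplicit false
set_option maxRecDepth 100000
set_option synthInstance.maxSize 100000
set_option linter.unusedSectionVars false

namespace H54.T3

open Equiv Equiv.Perm H58.Cd H20.L43 Subgroup H58.SE H39.MS H95

/-- the table of `T16` -/
def vcT (k : ℕ) : ℕ := Nat.land (Nat.shiftRight 0x844ce99708040e09844c6ddb0804060d844ca55f08040a05844c2113080402018c48e79e08040e098c486bd60804060d8c48af5a08040a058c482312080402018844ee9908040e09884466dd0804060d8844aa5508040a0588442211080402018040e09008040e09804060d00804060d8040a05008040a058040201008040201 (Nat.mul 64 k)) 0xffffffffffffffff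

theorem vc_T : ∀ k < 16, T16 k = vcT k := by decide +kernel

theorem vc_mul : ∀ k < 16, ∀ l < 16, mm (vcT k) (vcT l) = vcT (k ^^^ l) := by decide +kernel

/-- the tests on the matrix of `v` -/
def VcP (M u : ℕ) : Prop := lm M (lm M 1) = 1 → lm M (lm M u) = u → mp (mm M MA) 3 = MI →
  (∀ a < 256, qf (lm M a) = qf a) → M = MI ∨ ∃ i < 3, mm (mm (mp MA i) M) (mp (mp MA 2) i) = MV

instance vcDec (M u : ℕ) : Decidable (VcP M u) := inferInstanceAs (Decidable (_ → _ → _ → _ → _))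

theorem vc_s1 : ∀ α < 256, qf α = 0 → ∀ β < 256, qf β = 0 →
    VcP (col8 α (lm MZ α) 4 8 β (β ^^^ lm MZ β) 64 128) 16 := by decide +kernel

theorem vc_s2 : ∀ α < 256, qf α = 0 → ∀ β < 256, qf β = 0 →
    VcP (col8 α (lm MZ α) 4 8 16 32 β (β ^^^ lm MZ β)) 64 := by decide +kernel

theorem vc_m1 : ∀ X : M5, X.det = 1 → X ^ 20 = 1 → X = 1 ∨ X = mo5 ∨
    ∃ g : M5, g.det = 1 ∧ (X * (g * X * g.iv)) ^ 20 ≠ 1 := by decide +kernel

theorem vc_m2 : ∀ V : M5, Gd V → V * V = mo5 → (V * Y0) ^ 3 = 1 ∨ (V * Y0) ^ 3 = mo5 := by decide +kernel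

theorem vc_mm (M N : ℕ) (h : ∀ a < 256, lm (mm M N) a = lm MI a) : mm M N = MI := by
  have k : ∀ a < 256, lm M (lm N a) = a := fun a ha => by rw [← lm_mm M N a ha, h a ha, lm_MI a ha]
  rw [mm, k 1 (by omega), k 2 (by omega), k 4 (by omega), k 8 (by omega), k 16 (by omega), k 32 (by omega),
    k 64 (by omega), k 128 (by omega)]
  rfl

variable {G : Type*} [Group G] [Finite G] {φ : AA →* G} {π : G → M5} {j v : G} {Q : Subgroup G} {c : G → ℕ}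

namespace W2

variable (h : W2 φ π j Q c)
include h

theorem vc_pp (u : ZMod 3 × ZMod 3) : Ac (φ tt) Q c (φ (pp u)) (mm (mp MA u.1.val) (mp MB u.2.val)) := by
  rw [pp, map_mul, H20.L43.pw, H20.L43.pw, map_pow, map_pow]
  exact h.co.ac_mul (h.co.ac_pow h.aA _) (h.co.ac_pow h.aB _)

theorem vc_pp0 {u : ZMod 3 × ZMod 3} (a : Ac (φ tt) Q c (φ (pp u)) MI) : u = 0 := by
  have := vc_mm _ _ (h.co.ac_eq (h.vc_pp u) a)
  clear a
  revert u; decide +kernel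

theorem vc_z {x : G} (hx : x ∈ Q) (e : x ∈ Ce (φ z1)) : x = 1 ∨ x = φ tt :=
  (h.co.zero hx).1 ((show ∀ a < 256, lm MZ a = a → a = 0 by decide +kernel) _ (h.co.lt _)
    (h.co.ac_fix h.aZ hx (mem_Ce.1 e).symm))

/-- the kernel of the action on the codes -/
def vcB : Subgroup G where
  carrier := {g | Ac (φ tt) Q c g MI}
  mul_mem' a b := (show mm MI MI = MI by decide +kernel) ▸ h.co.ac_mul a b
  one_mem' := h.co.ac_mem (one_mem _)
  inv_mem' a := h.co.ac_inv a (by decide +kernel)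

theorem vc_nB {n g : G} (hn : n ∈ NN (φ tt) Q) (hg : g ∈ h.vcB) : n * g * n⁻¹ ∈ h.vcB := by
  obtain ⟨M, a⟩ := h.co.exists_ac hn
  refine ⟨mul_mem (mul_mem hn hg.1) (inv_mem hn), fun x hx => ?_⟩
  have m := NN.cj' hn hx
  rw [show n * g * n⁻¹ * x * (n * g * n⁻¹)⁻¹ = n * (g * (n⁻¹ * x * n) * g⁻¹) * n⁻¹ by group,
    a.2 _ (NN.cj hg.1 m), hg.2 _ m, lm_MI _ (h.co.lt _), ← a.2 _ m, lm_MI _ (h.co.lt _)]
  congr 1; group

theorem vc_ker (cz : Ce (φ z1) ⊓ Ce (φ tt) ≤ NN (φ tt) Q) : h.vcB ≤ Q := by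
  have T := h.co
  have co : (Nat.card h.vcB).Coprime 3 := (Nat.Coprime.symm ((Nat.Prime.coprime_iff_not_dvd Nat.prime_three).2
    fun d => by
      obtain ⟨x, hx⟩ := exists_prime_orderOf_dvd_card' 3 d
      obtain ⟨k, hk, u, e⟩ := conj_into1 (N := NN (φ tt) Q) PP3 (fun g a b c => h.sylP a.1 b c) h.PN (t := (x : G))
        (by rw [← hx, ← orderOf_coe, pow_orderOf_eq_one]) x.2.1
      obtain rfl := h.vc_pp0 (e ▸ h.vc_nB hk x.2)
      rw [show pp 0 = 1 by simp [pp], map_one, eq_comm, conj_eq_one_iff, OneMemClass.coe_eq_one] at e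
      rw [e, orderOf_one] at hx
      omega))
  have k1 : ∀ g ∈ h.vcB, g * φ a1 = φ a1 * g → g ∈ Q := fun g hg e => by
    obtain ⟨k, hk, r, hr, rfl⟩ := h.kA e hg.1.1
    have a := T.ac_mul (T.ac_mem (h.e1 k hk).1)
      (T.ac_mul (T.ac_mul (T.ac_pow h.aA (r % 3)) (T.ac_pow h.aB (r / 3 % 3))) (T.ac_pow h.aS (r / 9)))
    rw [← map_pow, ← map_pow, ← map_pow, ← map_mul, ← map_mul, ← map_mul] at a
    obtain rfl := (show ∀ r < 18, mm MI (mm (mm (mp MA (r % 3)) (mp MB (r / 3 % 3))) (mp MS (r / 9))) = MI → r = 0 by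
      decide +kernel) r hr (vc_mm _ _ (T.ac_eq a hg))
    simpa [rr] using (h.e1 k hk).1
  have k0 : ∀ g ∈ h.vcB, g ∈ zpowers (φ z1) → g = 1 := fun g hg m => by
    obtain ⟨k, rfl⟩ := zp m
    rw [h.vc_pp0 hg]; simp [pp]
  have k2 : ∀ g ∈ h.vcB, g * φ z1 = φ z1 * g → g ∈ Q := fun g hg e => by
    have p20 : ∀ y ∈ h.vcB, y ∈ Ce (φ z1) ⊓ Ce (φ tt) → π y ^ 20 = 1 := fun y hy m =>
      orderOf_dvd_iff_pow_eq_one.1 ((co.coprime_dvd_left (orderOf_dvd_of_pow_eq_one (by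
        rw [← h.s5.pow m, show y ^ Nat.card h.vcB = 1 from
          congrArg Subtype.val (pow_card_eq_one' (x := (⟨y, hy⟩ : h.vcB))), h.s5.one]))).dvd_of_dvd_mul_right
        (orderOf_dvd_of_pow_eq_one (m7 _ (h.s5.pd _ m)).1))
    have m : g ∈ Ce (φ z1) ⊓ Ce (φ tt) := ⟨mem_Ce.2 e, hg.1.1⟩
    have mt : φ tt ∈ Ce (φ z1) ⊓ Ce (φ tt) := mC (h2 := rfl)
    rcases vc_m1 _ (h.s5.pd _ m) (p20 g hg m) with f | f | ⟨X, hX, f⟩
    · exact k0 g hg ((h.s5.pk _ m).1 f) ▸ one_mem _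
    · exact mul_inv_eq_one.1 (k0 _ (mul_mem hg (inv_mem (T.ac_mem T.mem))) (h.s5.eq m mt (f.trans (h.pt h.s5).symm))) ▸
        T.mem
    · obtain ⟨k, hk, rfl⟩ := h.s5.ps X hX
      have m' := mul_mem (mul_mem hk m) (inv_mem hk)
      refine (f ?_).elim
      rw [← h.s5.cj hk m, ← h.s5.pm _ m _ m']
      exact p20 _ (mul_mem hg (h.vc_nB (cz hk) hg)) (mul_mem m m')
  refine h.gen3 co (fun p hp => mem_norm fun x hx => h.vc_nB (h.PN hp) hx) ?_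
  simp only [List.forall_mem_cons, List.not_mem_nil, IsEmpty.forall_iff, implies_true, and_true]
  refine ⟨k1, fun g hg e => ?_, k2, fun g hg e => ?_⟩
  · simpa [mul_assoc] using NN.cj' h.aJ.1 (k1 _ (h.vc_nB h.aJ.1 hg) (h.ja' ▸ cc e))
  · rw [← cjφ] at e
    simpa [mul_assoc] using NN.cj h.aS.1 (k2 _ (h.vc_nB (inv_mem h.aS.1) hg)
      (cc' (g := φ sg) (by simpa [mul_assoc] using e)))

/-- the group of order sixteen over `Q` -/
def vcM : Subgroup G where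
  carrier := {g | ∃ k < 16, Ac (φ tt) Q c g (vcT k)}
  mul_mem' := fun ⟨k, hk, a⟩ ⟨l, hl, b⟩ =>
    ⟨k ^^^ l, Nat.xor_lt_two_pow (n := 4) hk hl, vc_mul k hk l hl ▸ h.co.ac_mul a b⟩
  one_mem' := ⟨0, by omega, h.co.ac_mem (one_mem _)⟩
  inv_mem' := fun ⟨k, hk, a⟩ => ⟨k, hk, h.co.ac_inv a (by rw [vc_mul k hk k hk, Nat.xor_self]; rfl)⟩

theorem vc_st (hv : v ∈ O3' (MM φ)) (vC : v ∈ Ce (φ z1) ⊓ Ce (φ tt)) (v2 : v * v = φ tt)
    (aV : Ac (φ tt) Q c v MV) : O3' (MM φ) ≤ h.vcM := by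
  have T := h.co
  obtain ⟨-, t2, t3, t4⟩ := h.two vb_UK (O3'_cop _) vb_PU
  obtain ⟨⟨m0, c0⟩, ⟨m1, c1⟩, -⟩ := h.ex
  have k2 : ∀ g ∈ O3' (MM φ), g * φ z1 = φ z1 * g → g ∈ h.vcM := fun g hg e => by
    have m : g ∈ Ce (φ z1) ⊓ Ce (φ tt) := ⟨mem_Ce.2 e, vb_UK hg⟩
    have key : ∀ {x}, x ∈ Ce (φ z1) ⊓ Ce (φ tt) → InQ (π v) (π x) → ∃ i < 3, ∃ k < 3, ∃ e < 4, Ac (φ tt) Q c x
        (mm (mm (mp MA i) (mp MB i)) (mm (mm (mp MA k) (mp MV e)) (mp (mp MA 2) k))) := fun hx q => by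
      obtain ⟨k, hk, e, he, w, hw, rfl⟩ := h.vb_inq vC hx q
      obtain ⟨i, rfl⟩ := zp hw
      exact ⟨i.val, i.val_lt, k, hk, e, he, T.ac_mul (h.vc_pp (i, i)) (T.ac_mul (T.ac_mul (T.ac_pow h.aA k)
        (T.ac_pow aV e)) (inv_pow (φ a1) k ▸ T.ac_pow (T.ac_inv h.aA (by decide +kernel)) k))⟩
    have fx : ∀ {M}, Ac (φ tt) Q c g M → lm M 4 = 4 ∧ lm M 8 = 8 := fun a =>
      ⟨c0 ▸ T.ac_fix a m0 (mem_Ce.1 (O3'_le _ hg).2.1), c1 ▸ T.ac_fix a m1 (mem_Ce.1 (O3'_le _ hg).2.2)⟩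
    rcases m3 _ (t4 v hv (mem_Ce.1 vC.1)) (by rw [← h.s5.pm _ vC _ vC, v2, h.pt h.s5]) _ (h.s5.pd _ h.jz)
      h.vb_pj _ (t4 g hg e) with q | q
    · obtain ⟨i, hi, k, hk, e, he, a⟩ := key m q
      obtain ⟨l, hl, f⟩ := (show ∀ i < 3, ∀ k < 3, ∀ e < 4, (fun M => lm M 4 = 4 ∧ lm M 8 = 8 → ∃ l < 16, M = vcT l)
        (mm (mm (mp MA i) (mp MB i)) (mm (mm (mp MA k) (mp MV e)) (mp (mp MA 2) k))) by decide +kernel)
        i hi k hk e he (fx a)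
      exact ⟨l, hl, f ▸ a⟩
    · have m' := mul_mem (inv_mem h.jz) m
      obtain ⟨i, hi, k, hk, e, he, a⟩ := key (mul_mem m' h.jz) (by
        rwa [h.s5.pm _ m' _ h.jz, h.s5.pm _ (inv_mem h.jz) _ m, h.s5.inv h.jz])
      have b := T.ac_mul (T.ac_mul h.aJ a) h.aJ'
      rw [show j * (j⁻¹ * g * j) * j⁻¹ = g by group] at b
      obtain ⟨l, hl, f⟩ := (show ∀ i < 3, ∀ k < 3, ∀ e < 4, (fun M => lm M 4 = 4 ∧ lm M 8 = 8 → ∃ l < 16, M = vcT l)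
        (mm (mm MJ (mm (mm (mp MA i) (mp MB i)) (mm (mm (mp MA k) (mp MV e)) (mp (mp MA 2) k)))) MJ) by
          decide +kernel) i hi k hk e he (fx b)
      exact ⟨l, hl, f ▸ b⟩
  refine h.gen3 (O3'_cop _) vb_PU ?_
  simp only [List.forall_mem_cons, List.not_mem_nil, IsEmpty.forall_iff, implies_true, and_true]
  refine ⟨fun g hg e => ?_, fun g hg e => ?_, k2, fun g hg e => ?_⟩
  · obtain ⟨k, hk, rfl⟩ := t2 g hg e
    exact ⟨0, by omega, T.ac_mem (h.e1 k hk).1⟩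
  · obtain ⟨k, hk, rfl⟩ := t3 g hg e
    exact ⟨0, by omega, T.ac_mem (h.e2 k hk).1⟩
  · rw [← cjφ] at e
    obtain ⟨k, hk, a⟩ := k2 _ (conj_mem (inv_mem (vb_nU (vb_nM (p := sg) (by simp)))) hg)
      (cc' (g := φ sg) (by simpa [mul_assoc] using e))
    have b := T.ac_mul (T.ac_mul h.aS a) (T.ac_inv (N := MS) h.aS (by decide +kernel))
    rw [show φ sg * ((φ sg)⁻¹ * g * (φ sg)⁻¹⁻¹) * (φ sg)⁻¹ = g by group] at b
    obtain ⟨l, hl, f⟩ := (show ∀ k < 16, ∃ l < 16, mm (mm MS (vcT k)) MS = vcT l by decide +kernel) k hk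
    exact ⟨l, hl, f ▸ b⟩

end W2

theorem W2.exists_w3 (h : W2 φ π j Q c) : ∃ v, W3 φ π j Q c v := by
  obtain ⟨v, hv, vz, v2, vN, hc⟩ := h.exists_v1
  have T := h.co
  have vM := O3'_le _ hv
  have vC : v ∈ Ce (φ z1) ⊓ Ce (φ tt) := ⟨vz, vM.1⟩
  have ma : φ a1 ∈ Ce (φ z1) ⊓ Ce (φ tt) := mC
  have gv := (h.two vb_UK (O3'_cop _) vb_PU).2.2.2 v hv (mem_Ce.1 vz)
  have pv : π v * π v = mo5 := by rw [← h.s5.pm _ vC _ vC, v2, h.pt h.s5]
  have cz := h.s5.gen (H := NN (φ tt) Q) (zpowers_le.2 h.aZ.1) ma vC h.jz h.aA.1 vN h.aJ.1 h.py gv pv h.vb_pj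
  have ker := h.vc_ker cz
  obtain ⟨⟨m0, c0⟩, ⟨m1, c1⟩, -⟩ := h.ex
  obtain ⟨M, a⟩ := T.exists_ac vN
  have f4 : lm M 4 = 4 := c0 ▸ T.ac_fix a m0 (mem_Ce.1 vM.2.1)
  have f8 : lm M 8 = 8 := c1 ▸ T.ac_fix a m1 (mem_Ce.1 vM.2.2)
  have cZ : ∀ u < 256, lm M (lm MZ u) = lm MZ (lm M u) := fun u hu => by
    rw [← lm_mm _ _ u hu, ← lm_mm _ _ u hu]
    exact T.ac_eq (T.ac_mul a h.aZ) (mem_Ce.1 vz ▸ T.ac_mul h.aZ a) u hu
  have f2 : lm M 2 = lm MZ (lm M 1) := cZ 1 (by omega)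
  have fx : ∀ {u w : ℕ}, u < 256 → lm MZ u = u ^^^ w → lm M w = lm M u ^^^ lm MZ (lm M u) := fun {u w} hu e => by
    rw [← cZ u hu, e, lin_lm M u w, ← Nat.xor_assoc, Nat.xor_self, Nat.zero_xor]
  have fc : ∀ {u}, u < 256 → (∀ x ∈ Q, c x = u → c (v * x * v⁻¹) = c x) → lm M u = u := fun {u} hu e => by
    obtain ⟨x, hx, rfl⟩ := T.surj u hu
    rw [← a.2 x hx, e x hx rfl]
  have test : ∀ {N u}, u < 256 → Ac (φ tt) Q c v N → VcP N u →
      ∃ i, Ac (φ tt) Q c (φ a1 ^ i * v * (φ a1 ^ i)⁻¹) MV := fun {N u} hu b p => by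
    have sq : ∀ u < 256, lm N (lm N u) = u := fun u hu => by
      rw [← lm_mm _ _ u hu, T.ac_eq (T.ac_mul b b) (T.ac_mem (by rw [v2]; exact T.mem)) u hu, lm_MI u hu]
    have m3 := pow_mem (mul_mem vC ma) 3
    have e3 : (v * φ a1) ^ 3 ∈ Q := by
      rcases h.zt m3 (by rw [h.s5.pow (mul_mem vC ma), h.s5.pm _ vC _ ma, h.py]; exact vc_m2 _ gv pv)
        (mem_Ce.1 (pow_mem (mul_mem vM vb_aM) 3).2.1) with e | e <;> rw [e]
      exacts [one_mem _, T.mem]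
    rcases p (sq 1 (by omega)) (sq u hu) (vc_mm _ _ (T.ac_eq (T.ac_pow (T.ac_mul b h.aA) 3) (T.ac_mem e3)))
      (T.ac_qf b) with rfl | ⟨i, -, e⟩
    · rcases h.vc_z (ker b) vz with e | e <;> rw [e] at v2
      · exact absurd (v2.symm.trans (mul_one 1)) h.t1
      · exact absurd (v2.symm.trans tt2) h.t1
    · exact ⟨i, e ▸ T.ac_mul (T.ac_mul (T.ac_pow h.aA i) b)
        (inv_pow (φ a1) i ▸ T.ac_pow (T.ac_inv h.aA (by decide +kernel)) i)⟩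
  have q0 : ∀ u < 256, qf u = 0 → qf (lm M u) = 0 := fun u hu e => (T.ac_qf a u hu).trans e
  have b := T.ac_col a
  obtain ⟨i, aV⟩ : ∃ i, Ac (φ tt) Q c (φ a1 ^ i * v * (φ a1 ^ i)⁻¹) MV := by
    rcases hc with e | e
    · rw [f2, f4, f8, fx (u := 16) (w := 32) (by omega) (by decide +kernel),
        fc (u := 64) (by omega) fun x hx f => e x hx (Or.inl f),
        fc (u := 128) (by omega) fun x hx f => e x hx (Or.inr f)] at b
      exact test (by omega) b (vc_s1 _ (lm_lt _ _) (q0 1 (by omega) (by decide +kernel)) _ (lm_lt _ _)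
        (q0 16 (by omega) (by decide +kernel)))
    · rw [f2, f4, f8, fx (u := 64) (w := 128) (by omega) (by decide +kernel),
        fc (u := 16) (by omega) fun x hx f => e x hx (Or.inl f),
        fc (u := 32) (by omega) fun x hx f => e x hx (Or.inr f)] at b
      exact test (by omega) b (vc_s2 _ (lm_lt _ _) (q0 1 (by omega) (by decide +kernel)) _ (lm_lt _ _)
        (q0 64 (by omega) (by decide +kernel)))
  have mi := pow_mem ma i
  have wC := mul_mem (mul_mem mi vC) (inv_mem mi)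
  have w2 : φ a1 ^ i * v * (φ a1 ^ i)⁻¹ * (φ a1 ^ i * v * (φ a1 ^ i)⁻¹) = φ tt := by
    rw [conj_mul, v2, mem_Ce.1 mi.2, mul_inv_cancel_right]
  refine ⟨_, h, wC, w2, aV, cz, fun g hg => ker hg, fun g hg => ?_⟩
  obtain ⟨u, hu, l, hl, rfl⟩ := h.bu hg
  obtain ⟨k, hk, b⟩ := h.vc_st (conj_mem (pow_mem (vb_PU a1P) i) hv) wC w2 aV hu
  refine ⟨k + 16 * l, by omega, ?_⟩
  rw [T48, show (k + 16 * l) % 16 = k by omega, show (k + 16 * l) / 16 = l by omega, vc_T k hk]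
  exact T.ac_mul b (T.ac_pow h.aA l)

end H54.T3
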